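import Mathlib.GroupTheory.Perm.Cycle.Type
import Mathlib.GroupTheory.OrderOfElement
import Mathlib.Tactic.Group

/-!
# Two elements of order three with product of order three

Either they are conjugate, or some element of order three commutes with both.
-/

set_option autoImplicit false
set_option linter.style.haveILetI false
set_option maxHeartbeats 400000

namespace CfsgLib.ThreeLocalNine

/-- Elements of order three with product of order three are conjugate or have a common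
centralizing element of order three. -/
theorem triple_fix {G : Type*} [Group G] [Finite G] {A₀ b : G} (hA3 : A₀ ^ 3 = 1) (hb3 : b ^ 3 = 1)
    (hab : (A₀ * b) ^ 3 = 1) (hne : ¬ IsConj A₀ b) :
    ∃ f : G, f ≠ 1 ∧ f ^ 3 = 1 ∧ f * A₀ = A₀ * f ∧ f * b = b * f := by
  have ha' : A₀ * A₀ * A₀ = 1 := by
    rw [← hA3, pow_succ, pow_two]
  have hb' : b * b * b = 1 := by rw [← hb3, pow_succ, pow_two]
  have hc' : A₀ * b * (A₀ * b) * (A₀ * b) = 1 := by rw [← hab, pow_succ, pow_two]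
  have ai : A₀⁻¹ = A₀ * A₀ := inv_eq_of_mul_eq_one_left ha'
  have bi : b⁻¹ = b * b := inv_eq_of_mul_eq_one_left hb'
  set x : G := A₀⁻¹ * b with hx
  set w : G := b * A₀⁻¹ with hw
  have hbab : b * A₀ * b = A₀⁻¹ * b⁻¹ * A₀⁻¹ := by
    calc b * A₀ * b = A₀⁻¹ * (A₀ * b * (A₀ * b) * (A₀ * b)) * b⁻¹ * A₀⁻¹ := by group
      _ = _ := by rw [hc', mul_one]
  have haa : A₀⁻¹ * A₀⁻¹ = A₀ := by rw [← mul_inv_rev, ← ai, inv_inv]
  have hxw : x * w = A₀⁻¹ * b⁻¹ * A₀⁻¹ := by
    rw [hx, hw, bi]; group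
  have hwx : w * x = A₀⁻¹ * b⁻¹ * A₀⁻¹ := by
    rw [hx, hw]
    calc b * A₀⁻¹ * (A₀⁻¹ * b) = b * (A₀⁻¹ * A₀⁻¹) * b := by group
      _ = b * A₀ * b := by rw [haa]
      _ = _ := hbab
  have hcomm : x * w = w * x := hxw.trans hwx.symm
  set A := Subgroup.closure ({x, w} : Set G) with hA
  haveI : IsMulCommutative A := Subgroup.isMulCommutative_closure (by
    rintro u (rfl | rfl) v (rfl | rfl)
    · rfl
    · exact hcomm
    · exact hcomm.symm
    · rfl)
  have hAc : ∀ u ∈ A, ∀ v ∈ A, u * v = v * u := fun u hu v hv =>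
    setLike_mul_comm (S := Subgroup G) hu hv
  have hxA : x ∈ A := Subgroup.subset_closure (Or.inl rfl)
  have hwA : w ∈ A := Subgroup.subset_closure (Or.inr rfl)
  have hax : A₀ * x * A₀⁻¹ = w := by rw [hx, hw]; group
  have haw : A₀ * w * A₀⁻¹ = (x * w)⁻¹ := by
    rw [hxw, hw]
    calc A₀ * (b * A₀⁻¹) * A₀⁻¹ = A₀ * b * (A₀⁻¹ * A₀⁻¹) := by group
      _ = A₀ * b * A₀ := by rw [haa]
      _ = _ := by group
  have hconj : ∀ u ∈ A, A₀ * u * A₀⁻¹ ∈ A := by
    intro u hu
    have hle : A ≤ A.comap (MulAut.conj A₀).toMonoidHom := by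
      rw [hA, Subgroup.closure_le]
      rintro v (rfl | rfl) <;>
        simp only [SetLike.mem_coe, Subgroup.mem_comap, MulEquiv.coe_toMonoidHom, MulAut.conj_apply,
          ← hA]
      · rw [hax]; exact hwA
      · rw [haw]; exact inv_mem (mul_mem hxA hwA)
    simpa using hle hu
  have hb_eq : b = A₀ * x := by rw [hx]; group
  by_cases h3 : 3 ∣ Nat.card A
  · haveI : Fact (Nat.Prime 3) := ⟨Nat.prime_three⟩
    obtain ⟨⟨z, hzA⟩, hz⟩ := exists_prime_orderOf_dvd_card' (G := A) 3 h3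
    have hzo : orderOf z = 3 := by rw [← hz, Subgroup.orderOf_mk]
    have hz3 : z ^ 3 = 1 := hzo ▸ pow_orderOf_eq_one z
    have hz1 : z ≠ 1 := fun e => by simp [e] at hzo
    set t : G → G := fun u => A₀ * u * A₀⁻¹ with ht
    have htA : ∀ u ∈ A, t u ∈ A := hconj
    have ht3 : ∀ u, t (t (t u)) = u := by
      intro u
      simp only [ht]
      calc A₀ * (A₀ * (A₀ * u * A₀⁻¹) * A₀⁻¹) * A₀⁻¹
          = A₀ * A₀ * A₀ * u * (A₀ * A₀ * A₀)⁻¹ := by group
        _ = u := by rw [ha']; group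
    have htm : ∀ u v, t (u * v) = t u * t v := fun u v => by simp only [ht]; group
    have htp : ∀ u, u ^ 3 = 1 → t u ^ 3 = 1 := fun u hu => by
      simp only [ht, conj_pow, hu]; group
    obtain ⟨f, hfA, hf1, hf3, hff⟩ : ∃ f ∈ A, f ≠ 1 ∧ f ^ 3 = 1 ∧ t f = f := by
      have h1A := htA z hzA
      have h2A := htA _ h1A
      have cube : ∀ u ∈ A, ∀ v ∈ A, u ^ 3 = 1 → v ^ 3 = 1 → (u * v) ^ 3 = 1 := by
        intro u hu v hv hu3 hv3
        rw [(show Commute u v from hAc u hu v hv).mul_pow, hu3, hv3, one_mul]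
      by_cases hs : t (t z) * t z * z = 1
      · by_cases hv : t z = z
        · exact ⟨z, hzA, hz1, hz3, hv⟩
        · refine ⟨t z * z⁻¹, mul_mem h1A (inv_mem hzA), fun e => hv (mul_inv_eq_one.1 e),
            cube _ h1A _ (inv_mem hzA) (htp z hz3) (by rw [inv_pow, hz3, inv_one]), ?_⟩
          have hti : t z⁻¹ = (t z)⁻¹ := by simp only [ht]; group
          rw [htm, hti]
          have hzz : z⁻¹ * z⁻¹ = z := by
            rw [← mul_inv_rev]
            exact inv_eq_of_mul_eq_one_left (by rw [← hz3, pow_succ, pow_two]; group)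
          have e : t (t z) = z⁻¹ * (t z)⁻¹ := by
            have := mul_eq_one_iff_eq_inv.1 (show t (t z) * (t z * z) = 1 by rw [← mul_assoc]; exact hs)
            rw [this, mul_inv_rev]
          rw [e, mul_assoc, ← mul_inv_rev (t z), ← pow_two]
          have h2 : ((t z) ^ 2)⁻¹ = t z := inv_eq_of_mul_eq_one_left (by
            rw [← pow_succ', htp z hz3])
          rw [h2, hAc _ (inv_mem hzA) _ h1A]
      · refine ⟨_, mul_mem (mul_mem h2A h1A) hzA, hs,
          cube _ (mul_mem h2A h1A) _ hzA (cube _ h2A _ h1A (htp _ (htp _ hz3)) (htp _ hz3)) hz3, ?_⟩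
        rw [htm, htm, ht3]
        rw [hAc z hzA _ h2A, mul_assoc, hAc z hzA _ h1A, ← mul_assoc]
    have hfc : f * A₀ = A₀ * f := by
      simp only [ht] at hff
      calc f * A₀ = A₀ * f * A₀⁻¹ * A₀ := by rw [hff]
        _ = A₀ * f := by group
    refine ⟨f, hf1, hf3, hfc, ?_⟩
    rw [hb_eq]
    calc f * (A₀ * x) = f * A₀ * x := by group
      _ = A₀ * (f * x) := by rw [hfc, mul_assoc]
      _ = A₀ * x * f := by rw [hAc f hfA x hxA, ← mul_assoc]
  · exfalso
    set n := Nat.card A with hn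
    have hxn : x ^ n = 1 := by
      have := pow_card_eq_one' (x := (⟨x, hxA⟩ : A))
      exact congrArg Subtype.val this
    have hcop : Nat.Coprime 3 n := (Nat.prime_three.coprime_iff_not_dvd).2 h3
    obtain ⟨k, hk⟩ : ∃ k : ℕ, x ^ (3 * k) = x := by
      have hco : Nat.Coprime 3 (orderOf x) := hcop.coprime_dvd_right (orderOf_dvd_of_pow_eq_one hxn)
      obtain ⟨k, hk⟩ := exists_pow_eq_self_of_coprime hco
      exact ⟨k, by rw [pow_mul]; exact hk⟩
    set u := x ^ (2 * k) * w ^ k with hu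
    have huA : u ∈ A := mul_mem (pow_mem hxA _) (pow_mem hwA _)
    have htu : A₀ * u * A₀⁻¹ = w ^ (2 * k) * ((x * w)⁻¹) ^ k := by
      rw [hu, show A₀ * (x ^ (2 * k) * w ^ k) * A₀⁻¹ = (A₀ * x ^ (2 * k) * A₀⁻¹) * (A₀ * w ^ k * A₀⁻¹) by
        group, ← conj_pow, ← conj_pow, hax, haw]
    have hdiff : A₀ * u * A₀⁻¹ = x⁻¹ * u := by
      have c1 : Commute x w := hcomm
      rw [htu, eq_inv_mul_iff_mul_eq, hu, inv_pow, c1.mul_pow, mul_inv_rev]
      have : x * (w ^ (2 * k) * ((w ^ k)⁻¹ * (x ^ k)⁻¹)) = x * (x ^ k)⁻¹ * w ^ k := by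
        rw [← mul_assoc (w ^ (2 * k)), two_mul k, pow_add, mul_inv_cancel_right,
          ((c1.symm.pow_pow k k).inv_right).eq, mul_assoc x]
      rw [this]
      congr 1
      rw [mul_inv_eq_iff_eq_mul, ← pow_add, show 2 * k + k = 3 * k by ring, hk]
    set v := A₀ * u * A₀⁻¹ with hv
    have hb2 : v * A₀ * v⁻¹ = b := by
      have hvA : v ∈ A := hconj u huA
      have htv : A₀ * v * A₀⁻¹ = w⁻¹ * v := by
        nth_rewrite 1 [hdiff]
        rw [hv, ← hax]; group
      calc v * A₀ * v⁻¹ = v * (A₀ * v * A₀⁻¹)⁻¹ * A₀ := by group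
        _ = v * (v⁻¹ * w) * A₀ := by rw [htv, mul_inv_rev, inv_inv]
        _ = b := by rw [hw]; group
    exact hne (isConj_iff.2 ⟨v, hb2⟩)

end CfsgLib.ThreeLocalNine
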