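import Cfsg.Agent.ThreeLocalNine.Values
import Cfsg.Agent.AltNine.Chars
import Mathlib.RepresentationTheory.Character
import Mathlib.RepresentationTheory.Invariants

/-!
# The group is the alternating group of degree nine

A map from the natural permutation module to the representation of degree eight commutes with the
normalizer and with the centralizer, so the group permutes nine vectors.
-/

set_option autoImplicit false
set_option maxRecDepth 100000
set_option linter.style.haveILetI false
set_option linter.unusedSectionVars false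

namespace CfsgLib.ThreeLocalNine

open CfsgLib.AltNine Equiv

universe u

/-- A three-cycle by its points. -/
def cyc {α : Type*} [DecidableEq α] (a b c : α) : Perm α := swap a b * swap b c

/-- The image in degree nine of a point of the last two blocks. -/
def six (x : Fin 6) : Fin 9 := ⟨x.1 + 3, by omega⟩

theorem six_cycle_table : ∀ x y z : Fin 6, x ≠ y → y ≠ z → x ≠ z →
    Perm.sign (cyc x y z) = 1 ∧
    (finSumFinEquiv : Fin 3 ⊕ Fin 6 ≃ Fin 9).permCongrHom
      (Perm.sumCongrHom (Fin 3) (Fin 6) (1, cyc x y z)) = cyc (six x) (six y) (six z) := by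
  decide +kernel

/-- The three points avoid a block. -/
def twoBlocks (a b c : Fin 9) : Prop :=
  ∃ t : Fin 3, a.1 / 3 ≠ t.1 ∧ b.1 / 3 ≠ t.1 ∧ c.1 / 3 ≠ t.1

instance (a b c : Fin 9) : Decidable (twoBlocks a b c) := by unfold twoBlocks; infer_instance

theorem blocks_move : ∀ t : Fin 3, ∃ k : K, ∀ i : Fin 9, i.1 / 3 ≠ t.1 →
    ∃ x : Fin 6, toPerm k (six x) = i := by decide +kernel

theorem three_blocks : ∀ a b c : Fin 9, a ≠ b → b ≠ c → a ≠ c → twoBlocks a b c ∨
    ∃ d e : Fin 9, twoBlocks a d c ∧ twoBlocks d b e ∧ a ≠ d ∧ d ≠ c ∧ d ≠ e ∧ b ≠ e ∧ d ≠ b ∧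
      cyc d b e * cyc a d c * (cyc d b e)⁻¹ = cyc a b c := by decide +kernel

theorem pair_orbits : ∀ i j : Fin 9, i ≠ j → ∃ k : K,
    (toPerm k i = 0 ∧ toPerm k j = 1) ∨ (toPerm k i = 0 ∧ toPerm k j = 3) := by decide +kernel

/-- A three-cycle of the model moving the second block. -/
def mX : CMod := ((1 : Multiplicative (ZMod 3)), (⟨cyc 0 1 3, Perm.mem_alternatingGroup.2 (by decide)⟩ : A6))

theorem mX_table : (∃ k : K, toPerm k 0 = 3 ∧ toPerm k 1 = 4) ∧
    (∃ k : K, toPerm k 0 = 4 ∧ toPerm k 3 = 6) ∧ emb mX 3 = 4 ∧ emb mX 4 = 6 := by decide +kernel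

theorem sum_card_eq {Q : Type*} [Group Q] [Fintype Q] (π : Q →* Perm (Fin 9)) (g : Q) :
    fx (π g⁻¹) = fx (π g) := by
  rw [map_inv]
  unfold fx
  congr 1
  refine Finset.filter_congr fun i _ => ?_
  constructor
  · intro h; simpa using (congrArg (π g) h).symm
  · intro h; exact (π g).injective (by simpa using h.symm)

/-- The permutation representation. -/
noncomputable def permRep {Q : Type*} [Group Q] (π : Q →* Perm (Fin 9)) :
    Representation ℂ Q (Fin 9 → ℂ) where
  toFun q := LinearMap.funLeft ℂ ℂ ⇑(π q)⁻¹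
  map_one' := by ext; simp [LinearMap.funLeft]
  map_mul' a b := by ext; simp [LinearMap.funLeft, mul_inv_rev]

theorem permRep_single {Q : Type*} [Group Q] (π : Q →* Perm (Fin 9)) (q : Q) (i : Fin 9) :
    permRep π q (Pi.single i 1) = Pi.single (π q i) 1 := by
  ext j
  show (Pi.single i (1 : ℂ) : Fin 9 → ℂ) ((π q)⁻¹ j) = _
  by_cases h : j = π q i
  · subst h; simp
  · rw [Pi.single_eq_of_ne h, Pi.single_eq_of_ne]
    exact fun e => h (by rw [← e]; simp)

theorem permRep_character {Q : Type*} [Group Q] (π : Q →* Perm (Fin 9)) (q : Q) :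
    (permRep π).character q = (fx (π q) : ℂ) := by
  rw [Representation.character, LinearMap.trace_eq_matrix_trace ℂ (Pi.basisFun ℂ (Fin 9)),
    Matrix.trace, fx, Finset.card_filter, Nat.cast_sum]
  refine Finset.sum_congr rfl fun i _ => ?_
  rw [Matrix.diag_apply, LinearMap.toMatrix_apply, Pi.basisFun_apply, permRep_single,
    Pi.basisFun_repr]
  by_cases h : π q i = i
  · simp [h]
  · rw [if_neg h, Pi.single_eq_of_ne (Ne.symm h)]; simp

variable {G : Type u} [Group G] [Fintype G] {φ : K →* G} {ψ : CMod →* G}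

/-- The dimension of a space of commuting maps. -/
theorem finrank_hom {n : ℕ} (ρ : Representation ℂ G (Fin n → ℂ)) {Q : Type*} [Group Q] [Fintype Q]
    (θ : Q →* G) (π : Q →* Perm (Fin 9))
    (hv : ∀ q, ρ.character (θ q) = ((fx (π q) : ℤ) - 1 : ℤ)) (N d : ℕ) (hN : Nat.card Q = N)
    (hsum : ∑ q : Q, (fx (π q) : ℤ) * ((fx (π q) : ℤ) - 1) = N * d) :
    Module.finrank ℂ (Representation.linHom (permRep π) (ρ.comp θ)).invariants = d := by
  haveI : Invertible (Nat.card Q : ℂ) :=
    invertibleOfNonzero (by exact_mod_cast (Nat.card_pos (α := Q)).ne')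
  have h := Representation.card_inv_mul_sum_char_eq_finrank
    (Representation.linHom (permRep π) (ρ.comp θ))
  have e : ∀ q : Q, (Representation.linHom (permRep π) (ρ.comp θ)).character q =
      (((fx (π q) : ℤ) * ((fx (π q) : ℤ) - 1) : ℤ) : ℂ) := by
    intro q
    rw [Representation.char_linHom, permRep_character, sum_card_eq,
      show Representation.character (ρ.comp θ : Representation ℂ Q (Fin n → ℂ)) q = ρ.character (θ q) from rfl, hv]
    push_cast; ring
  rw [Finset.sum_congr rfl fun q _ => e q, ← Int.cast_sum, hsum, hN] at h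
  have hN0 : (N : ℂ) ≠ 0 := by rw [← hN]; exact_mod_cast (Nat.card_pos (α := Q)).ne'
  push_cast at h
  rw [inv_mul_cancel_left₀ hN0] at h
  exact_mod_cast h.symm

theorem invariant_single {n : ℕ} (ρ : Representation ℂ G (Fin n → ℂ)) {Q : Type*} [Group Q]
    (θ : Q →* G) (π : Q →* Perm (Fin 9)) {T : (Fin 9 → ℂ) →ₗ[ℂ] (Fin n → ℂ)}
    (hT : T ∈ (Representation.linHom (permRep π) (ρ.comp θ)).invariants) (q : Q) (i : Fin 9) :
    ρ (θ q) (T (Pi.single i 1)) = T (Pi.single (π q i) 1) := by
  have h := LinearMap.congr_fun (Representation.mem_invariants _ _ |>.1 hT q) (Pi.single (π q i) 1)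
  rw [Representation.linHom_apply] at h
  simp only [LinearMap.coe_comp, Function.comp_apply, permRep_single, map_inv] at h
  simpa using h

namespace Setup

variable (h : Setup φ) (hg : Glue φ ψ)
include h hg

/-- The nine vectors. -/
theorem exists_vectors {χ : G → ℂ} (hχ : Cfsg.IsIrrCharacter G χ) (hnv : NatVal φ ψ χ) :
    ∃ n : ℕ, ∃ ρ : Representation ℂ G (Fin n → ℂ), ∃ f : Fin 9 → (Fin n → ℂ),
      Function.Injective f ∧ (∀ k i, ρ (φ k) (f i) = f (toPerm k i)) ∧
        ∀ m i, ρ (ψ m) (f i) = f (emb m i) := by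
  classical
  obtain ⟨n, ρ, -, rfl⟩ := hχ
  refine ⟨n, ρ, ?_⟩
  obtain ⟨hK, hC⟩ := hnv
  set Dp := Subgroup.centralizer ({rep 3} : Set K)
  let SH := (Representation.linHom (permRep toPerm) (ρ.comp φ)).invariants
  let SC := (Representation.linHom (permRep emb) (ρ.comp ψ)).invariants
  let SD := (Representation.linHom (permRep (toPerm.comp Dp.subtype))
    (ρ.comp (φ.comp Dp.subtype))).invariants
  have dH : Module.finrank ℂ SH = 2 := finrank_hom ρ φ toPerm hK 648 2
    (by rw [Nat.card_eq_fintype_card, card_K]) (by exact_mod_cast sum_K.1)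
  have dC : Module.finrank ℂ SC = 5 := finrank_hom ρ ψ emb hC 1080 5
    (by rw [Nat.card_prod, nat_card_alternatingGroup, Nat.card_eq_fintype_card,
          Fintype.card_multiplicative, ZMod.card, Nat.card_fin]; rfl)
    (by exact_mod_cast sum_C)
  have dD : Module.finrank ℂ SD = 6 := by
    refine finrank_hom ρ (φ.comp Dp.subtype) (toPerm.comp Dp.subtype) (fun q => hK q) 108 6 ?_ ?_
    · rw [card_centralizer, cls_rep]; rfl
    · show ∑ q : Dp, (fun x : K => (fx (toPerm x) : ℤ) * ((fx (toPerm x) : ℤ) - 1)) q = _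
      rw [← Finset.sum_subtype (p := fun x => x ∈ Dp)
        ((Finset.univ : Finset K).filter fun x => x * rep 3 = rep 3 * x)
        (fun x => by simp [Dp, Subgroup.mem_centralizer_singleton_iff])
        fun x : K => (fx (toPerm x) : ℤ) * ((fx (toPerm x) : ℤ) - 1)]
      exact_mod_cast sum_D.1
  have hHD : SH ≤ SD := by
    intro T hT
    rw [Representation.mem_invariants] at hT ⊢
    intro d
    exact hT (d : K)
  have hCD : SC ≤ SD := by
    intro T hT
    rw [Representation.mem_invariants] at hT ⊢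
    intro d
    obtain ⟨m, hm, hm'⟩ := hg.exists_model (Subgroup.mem_centralizer_singleton_iff.1 d.2)
    have := hT m
    rw [Representation.linHom_apply] at this ⊢
    convert this using 3
    · show ρ (φ d) = ρ (ψ m); rw [hm']
    · show LinearMap.funLeft ℂ ℂ ⇑(toPerm (d⁻¹ : Dp))⁻¹ = LinearMap.funLeft ℂ ℂ ⇑(emb m⁻¹)⁻¹
      rw [map_inv emb, hm, Subgroup.coe_inv, map_inv]
  obtain ⟨T, hT, hT0⟩ : ∃ T, T ∈ SH ⊓ SC ∧ T ≠ 0 := by
    by_contra hne
    push Not at hne
    have hbot : SH ⊓ SC = ⊥ := (Submodule.eq_bot_iff _).2 hne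
    have := Submodule.finrank_sup_add_finrank_inf_eq SH SC
    rw [hbot, finrank_bot, dH, dC] at this
    have hle := Submodule.finrank_mono (sup_le hHD hCD)
    rw [dD] at hle
    omega
  set f : Fin 9 → (Fin n → ℂ) := fun i => T (Pi.single i 1)
  have eK : ∀ k i, ρ (φ k) (f i) = f (toPerm k i) := fun k i =>
    invariant_single ρ φ toPerm hT.1 k i
  have eC : ∀ m i, ρ (ψ m) (f i) = f (emb m i) := fun m i =>
    invariant_single ρ ψ emb hT.2 m i
  refine ⟨f, fun i j hij => ?_, eK, eC⟩
  by_contra hne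
  have moveK : ∀ k a b, f a = f b → f (toPerm k a) = f (toPerm k b) := fun k a b e => by
    rw [← eK, ← eK, e]
  have backK : ∀ k a b, f (toPerm k a) = f (toPerm k b) → f a = f b := fun k a b e => by
    have := moveK k⁻¹ _ _ e
    simpa using this
  obtain ⟨⟨k1, a1, b1⟩, ⟨k2, a2, b2⟩, m3, m4⟩ := mX_table
  have link : f 0 = f 1 ↔ f 0 = f 3 := by
    have h34 : f 0 = f 1 ↔ f 3 = f 4 :=
      ⟨fun e => by rw [← a1, ← b1]; exact moveK _ _ _ e,
        fun e => backK k1 _ _ (by rw [a1, b1]; exact e)⟩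
    have h46 : f 0 = f 3 ↔ f 4 = f 6 :=
      ⟨fun e => by rw [← a2, ← b2]; exact moveK _ _ _ e,
        fun e => backK k2 _ _ (by rw [a2, b2]; exact e)⟩
    rw [h34, h46]
    constructor
    · intro e; rw [← m3, ← m4, ← eC, ← eC, e]
    · intro e
      have := congrArg (ρ (ψ mX⁻¹)) e
      rw [eC, eC, map_inv, ← m3, ← m4, Perm.inv_def, Equiv.symm_apply_apply,
        Equiv.symm_apply_apply] at this
      exact this
  obtain ⟨k, hk⟩ := pair_orbits i j hne
  have h01 : f 0 = f 1 ∧ f 0 = f 3 := by
    have e := moveK k i j hij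
    rcases hk with ⟨a, b⟩ | ⟨a, b⟩ <;> rw [a, b] at e
    · exact ⟨e, link.1 e⟩
    · exact ⟨link.2 e, e⟩
  have hall : ∀ a b, f a = f b := by
    intro a b
    by_cases hab : a = b
    · rw [hab]
    · obtain ⟨k, hk⟩ := pair_orbits a b hab
      refine backK k a b ?_
      rcases hk with ⟨a', b'⟩ | ⟨a', b'⟩ <;> rw [a', b']
      exacts [h01.1, h01.2]
  haveI : Invertible (Nat.card K : ℂ) :=
    invertibleOfNonzero (by exact_mod_cast (Nat.card_pos (α := K)).ne')
  have hfix := Representation.card_inv_mul_sum_char_eq_finrank (ρ.comp φ : Representation ℂ K (Fin n → ℂ))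
  rw [Finset.sum_congr rfl fun q _ => (show Representation.character (ρ.comp φ : Representation ℂ K (Fin n → ℂ)) q =
    (((fx (toPerm q) : ℤ) - 1 : ℤ) : ℂ) from hK q), ← Int.cast_sum, sum_K.2, Int.cast_zero,
    mul_zero] at hfix
  have hbot : Representation.invariants (ρ.comp φ : Representation ℂ K (Fin n → ℂ)) = ⊥ :=
    Submodule.finrank_eq_zero.1 (by exact_mod_cast hfix.symm)
  have hv : ∀ a, f a = 0 := fun a => by
    rw [← Submodule.mem_bot ℂ, ← hbot, Representation.mem_invariants]
    intro k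
    show ρ (φ k) (f a) = f a
    rw [eK]; exact hall _ _
  exact hT0 (LinearMap.pi_ext' fun a => LinearMap.ext_ring (by simpa using hv a))

/-- The group is alternating of degree nine. -/
theorem nonempty_iso {χ : G → ℂ} (hχ : Cfsg.IsIrrCharacter G χ) (hnv : NatVal φ ψ χ)
    (hG : Nat.card G = 181440) : Nonempty (G ≃* alternatingGroup (Fin 9)) := by
  classical
  obtain ⟨n, ρ, f, hf, eK, eC⟩ := h.exists_vectors hg hχ hnv
  let G0 : Subgroup G :=
    { carrier := {g | ∃ σ ∈ alternatingGroup (Fin 9), ∀ i, ρ g (f i) = f (σ i)}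
      one_mem' := ⟨1, one_mem _, fun i => by simp⟩
      mul_mem' := fun {a b} ⟨σ, hσ, ha⟩ ⟨τ, hτ, hb⟩ => ⟨σ * τ, mul_mem hσ hτ, fun i => by
        rw [map_mul, Module.End.mul_apply, hb, ha, Perm.mul_apply]⟩
      inv_mem' := fun {a} ⟨σ, hσ, ha⟩ => ⟨σ⁻¹, inv_mem hσ, fun i => by
        conv_lhs => rw [show f i = ρ a (f (σ⁻¹ i)) by rw [ha]; simp]
        rw [← Module.End.mul_apply, ← map_mul, inv_mul_cancel, map_one, Module.End.one_apply]⟩ }
  choose σ hσ hfσ using fun g : G0 => g.2
  let Ψ : G0 →* Perm (Fin 9) := MonoidHom.mk' σ fun a b => Equiv.ext fun i => hf (by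
    rw [← hfσ, Subgroup.coe_mul, map_mul, Module.End.mul_apply, hfσ, hfσ]
    rfl)
  have uniq : ∀ (g : G0) (τ : Perm (Fin 9)), (∀ i, ρ g (f i) = f (τ i)) → Ψ g = τ :=
    fun g τ hτ => Equiv.ext fun i => hf (by rw [← hτ]; exact (hfσ g i).symm)
  have hKeven : ∀ k : K, toPerm k ∈ alternatingGroup (Fin 9) := by
    have : ∀ a : Fin 24, ∀ v : Fin 27, Perm.sign (toPerm (⟨a, v⟩ : K)) = 1 := by decide +kernel
    exact fun k => Perm.mem_alternatingGroup.2 (this k.h k.v)
  have hR1 : ∀ k : K, toPerm k ∈ Ψ.range := fun k =>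
    ⟨⟨φ k, toPerm k, hKeven k, eK k⟩, uniq _ _ (eK k)⟩
  have hR2 : ∀ x y z : Fin 6, x ≠ y → y ≠ z → x ≠ z → cyc (six x) (six y) (six z) ∈ Ψ.range := by
    intro x y z h1 h2 h3
    obtain ⟨hs, he⟩ := six_cycle_table x y z h1 h2 h3
    let m : CMod := ((1 : Multiplicative (ZMod 3)), (⟨cyc x y z, Perm.mem_alternatingGroup.2 hs⟩ : A6))
    have hm : emb m = cyc (six x) (six y) (six z) := by
      rw [← he]
      simp [emb, m]
    have hev : emb m ∈ alternatingGroup (Fin 9) := by
      rw [hm, Perm.mem_alternatingGroup, cyc, map_mul, Perm.sign_swap, Perm.sign_swap]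
      · rfl
      all_goals intro e; simp [six, Fin.ext_iff] at e; omega
    exact ⟨⟨ψ m, emb m, hev, eC m⟩, (uniq _ _ (eC m)).trans hm⟩
  have two : ∀ a b c : Fin 9, a ≠ b → b ≠ c → a ≠ c → twoBlocks a b c → cyc a b c ∈ Ψ.range := by
    rintro a b c h1 h2 h3 ⟨t, ha, hb, hc⟩
    obtain ⟨k, hk⟩ := blocks_move t
    obtain ⟨x, hx⟩ := hk a ha
    obtain ⟨y, hy⟩ := hk b hb
    obtain ⟨z, hz⟩ := hk c hc
    have e : cyc a b c = toPerm k * cyc (six x) (six y) (six z) * (toPerm k)⁻¹ := by
      rw [cyc, cyc, ← hx, ← hy, ← hz, Equiv.swap_apply_apply, Equiv.swap_apply_apply]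
      group
    rw [e]
    exact mul_mem (mul_mem (hR1 k) (hR2 x y z (fun e => h1 (by rw [← hx, ← hy, e]))
      (fun e => h2 (by rw [← hy, ← hz, e])) (fun e => h3 (by rw [← hx, ← hz, e]))))
      (inv_mem (hR1 k))
  have all : ∀ a b c : Fin 9, a ≠ b → b ≠ c → a ≠ c → cyc a b c ∈ Ψ.range := by
    intro a b c h1 h2 h3
    rcases three_blocks a b c h1 h2 h3 with h' | ⟨d, e, p, q, n1, n2, n3, n4, n5, he⟩
    · exact two a b c h1 h2 h3 h'
    · rw [← he]
      exact mul_mem (mul_mem (two d b e n5 n4 n3 q) (two a d c n1 n2 h3 p))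
        (inv_mem (two d b e n5 n4 n3 q))
  have hA : alternatingGroup (Fin 9) ≤ Ψ.range := by
    rw [← Perm.closure_three_cycles_eq_alternating, Subgroup.closure_le]
    intro s hs
    have h3 : s ^ 3 = 1 := by rw [← hs.orderOf]; exact pow_orderOf_eq_one s
    obtain ⟨a, b, c, hab, hac, hbc, hsup⟩ := Finset.card_eq_three.1 hs.card_support
    have hmem : ∀ i, s i ≠ i ↔ i = a ∨ i = b ∨ i = c := fun i => by
      rw [← Perm.mem_support, hsup]; simp
    have hcube : ∀ i, s (s (s i)) = i := fun i => by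
      have := Perm.ext_iff.1 h3 i
      simpa [pow_succ, Perm.mul_apply] using this
    have ha : s a ≠ a := (hmem a).2 (Or.inl rfl)
    have key : ∀ p q r : Fin 9, p ≠ q → q ≠ r → p ≠ r →
        (∀ i, s i ≠ i ↔ i = p ∨ i = q ∨ i = r) → s p = q → s = cyc p q r := by
      intro p q r npq nqr npr hm hp
      have hq : s q ≠ q := (hm q).2 (Or.inr (Or.inl rfl))
      have hq' : s q = r := by
        rcases (hm (s q)).1 (fun e => hq (s.injective e)) with e | e | e
        · exfalso
          have h1 := hcube p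
          rw [hp, e, hp] at h1
          exact npq h1.symm
        · exact absurd e hq
        · exact e
      have hr : s r = p := by
        have h1 := hcube p
        rw [hp, hq'] at h1
        exact h1
      refine Equiv.ext fun i => ?_
      by_cases hip : i = p
      · rw [hip, hp, cyc, Perm.mul_apply, swap_apply_of_ne_of_ne npq npr, swap_apply_left]
      by_cases hiq : i = q
      · rw [hiq, hq', cyc, Perm.mul_apply, swap_apply_left,
          swap_apply_of_ne_of_ne npr.symm nqr.symm]
      by_cases hir : i = r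
      · rw [hir, hr, cyc, Perm.mul_apply, swap_apply_right, swap_apply_right]
      rw [cyc, Perm.mul_apply, swap_apply_of_ne_of_ne hiq hir, swap_apply_of_ne_of_ne hip hiq]
      by_contra hne
      rcases (hm i).1 hne with e | e | e <;> contradiction
    rcases (hmem (s a)).1 (fun e => ha (s.injective e)) with e | e | e
    · exact absurd e ha
    · rw [key a b c hab hbc hac hmem e]; exact all a b c hab hbc hac
    · rw [key a c b hac hbc.symm hab (fun i => by rw [hmem i]; tauto) e]
      exact all a c b hac hbc.symm hab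
  have hrange : Ψ.range = alternatingGroup (Fin 9) :=
    le_antisymm (by rintro _ ⟨g, rfl⟩; exact hσ g) hA
  have h9 : Nat.card (alternatingGroup (Fin 9)) = 181440 := by
    rw [nat_card_alternatingGroup, Nat.card_fin]; decide
  have hle : Nat.card G ≤ Nat.card G0 := by
    rw [hG, ← h9, ← hrange]
    exact Nat.card_le_card_of_surjective _ Ψ.rangeRestrict_surjective
  have htop : G0 = ⊤ := Subgroup.eq_top_of_le_card G0 hle
  have hbij : Function.Bijective Ψ.rangeRestrict :=
    (Nat.bijective_iff_surjective_and_card _).2 ⟨Ψ.rangeRestrict_surjective,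
      le_antisymm (by rw [hrange, h9, ← hG]; exact Subgroup.card_le_card_group _)
        (Nat.card_le_card_of_surjective _ Ψ.rangeRestrict_surjective)⟩
  exact ⟨(Subgroup.topEquiv.symm.trans (MulEquiv.subgroupCongr htop.symm)).trans
    ((MulEquiv.ofBijective _ hbij).trans (MulEquiv.subgroupCongr hrange))⟩

end Setup

/-- Either the normalizer is everything or the group is alternating of degree nine. -/
theorem Setup.conclusion (h : Setup φ) :
    φ.range = ⊤ ∨ Nonempty (G ≃* alternatingGroup (Fin 9)) := by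
  by_cases hs : IsConj (φ (rep 6)) (φ (rep 5))
  · rcases h.centralizer_a with ha | ⟨M, hM, ⟨e⟩⟩
    · exact absurd (h.not_case_three hs ha) not_false
    · obtain ⟨ψ, hg⟩ := h.exists_glue hM e
      obtain ⟨hG, χ, hχ, hd, hp⟩ := h.case_one hg hs
      exact Or.inr (h.nonempty_iso hg hχ (h.natVal hg hχ hd hs hp) hG)
  · rcases h.centralizer_a with ha | ⟨M, hM, ⟨e⟩⟩
    · left
      refine CfsgLib.AltNine.range_eq_top ⟨h.inj, ?_, ?_⟩
      · intro x hx h1 g hg
        have hm : g ∈ Subgroup.centralizer ({φ x} : Set G) :=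
          Subgroup.mem_centralizer_singleton_iff.2 hg
        have hc := cls_mem_core hx h1
        simp only [List.mem_cons, List.not_mem_nil, or_false] at hc
        rcases hc with e | e | e
        · exact h.cent_range_cls e ha hm
        · exact h.cent_le (Or.inl e) hm
        · exact h.cent_le (Or.inr e) hm
      · intro x hx g y hg
        by_cases h1 : x = 1
        · subst h1
          rw [map_one, mul_one, mul_inv_cancel] at hg
          rw [h.inj (hg.symm.trans (map_one φ).symm)]
          exact one_mem _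
        have hy3 : φ y ^ 3 = 1 := by
          rw [← hg, conj_pow, ← map_pow, pow_three_eq_one hx, map_one, mul_one, mul_inv_cancel]
        have hy1 : φ y ≠ 1 := fun e => h1 (h.inj (by
          rw [e, conj_eq_one_iff] at hg
          rw [hg, map_one]))
        have hc := h.cls_of_cube hy3 hy1
        simp only [List.mem_cons, List.not_mem_nil, or_false] at hc
        rcases hc with e | e | e | e
        · exact mem_tr_iff_cls.2 (by simp [e])
        · exact mem_tr_iff_cls.2 (by simp [e])
        · exact mem_tr_iff_cls.2 (by simp [e])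
        exfalso
        have hxy : IsConj (φ (rep 6)) (φ x) := by
          have h6 : IsConj (φ y) (φ (rep 6)) := φ.map_isConj (e ▸ isConj_rep y)
          exact h6.symm.trans (isConj_iff.2 ⟨g, hg⟩).symm
        have hcx := cls_mem_core hx h1
        simp only [List.mem_cons, List.not_mem_nil, or_false] at hcx
        rcases hcx with e' | e' | e'
        · exact h.s_not_core hx (by rw [e']; decide +kernel) hxy
        · exact h.s_not_core hx (by rw [e']; decide +kernel) hxy
        · exact hs (hxy.trans (φ.map_isConj (e' ▸ isConj_rep x)))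
    · obtain ⟨ψ, hg⟩ := h.exists_glue hM e
      exact absurd (h.not_case_two hg hs) not_false

end CfsgLib.ThreeLocalNine
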