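import Cfsg.Agent.AltNine.Classes
import Mathlib.GroupTheory.SpecificGroups.Alternating

/-!
# The normalizer of three commuting three-cycles in the alternating group of degree nine
-/

set_option autoImplicit false
set_option maxRecDepth 100000

namespace CfsgLib.ThreeLocalNine

open CfsgLib.AltNine Equiv

/-- The subgroup generated by the three cycles. -/
def threeCycles : Subgroup (Perm (Fin 9)) :=
  Subgroup.closure {swap (0 : Fin 9) 1 * swap 1 2, swap (3 : Fin 9) 4 * swap 4 5,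
    swap (6 : Fin 9) 7 * swap 7 8}

theorem cycles_table : toPerm (⟨0, 1⟩ : K) = swap (0 : Fin 9) 1 * swap 1 2 ∧
    toPerm (⟨0, 3⟩ : K) = swap (3 : Fin 9) 4 * swap 4 5 ∧
    toPerm (⟨0, 9⟩ : K) = swap (6 : Fin 9) 7 * swap 7 8 := by decide +kernel

theorem tr_words : ∀ v : Fin 27, ∃ j l n : Fin 3,
    (⟨0, v⟩ : K) = ⟨0, 1⟩ ^ (j : ℕ) * ⟨0, 3⟩ ^ (l : ℕ) * ⟨0, 9⟩ ^ (n : ℕ) := by decide +kernel

theorem threeCycles_eq : threeCycles = tr.map toPerm := by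
  obtain ⟨e1, e2, e3⟩ := cycles_table
  refine le_antisymm ?_ ?_
  · rw [threeCycles, Subgroup.closure_le]
    rintro p (rfl | rfl | rfl)
    exacts [⟨_, rfl, e1⟩, ⟨_, rfl, e2⟩, ⟨_, rfl, e3⟩]
  · rintro _ ⟨⟨a, v⟩, hx, rfl⟩
    obtain rfl : a = 0 := hx
    obtain ⟨j, l, n, e⟩ := tr_words v
    rw [e, map_mul, map_mul, map_pow, map_pow, map_pow, e1, e2, e3]
    rw [threeCycles]
    exact mul_mem (mul_mem (pow_mem (Subgroup.subset_closure (by simp)) _)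
      (pow_mem (Subgroup.subset_closure (by simp)) _))
      (pow_mem (Subgroup.subset_closure (by simp)) _)

theorem support_table : ∀ v : Fin 27,
    (toPerm (⟨0, v⟩ : K)).support.card = 3 → cls (⟨0, v⟩ : K) = 3 := by decide +kernel

theorem gens_support : (toPerm (⟨0, 1⟩ : K)).support.card = 3 ∧
    (toPerm (⟨0, 3⟩ : K)).support.card = 3 ∧ (toPerm (⟨0, 9⟩ : K)).support.card = 3 ∧
    ((⟨0, 1⟩ : K) ≠ ⟨0, 3⟩ ∧ (⟨0, 1⟩ : K) ≠ ⟨0, 9⟩ ∧ (⟨0, 3⟩ : K) ≠ ⟨0, 9⟩) ∧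
    ((⟨0, 1⟩ : K) ≠ (⟨0, 3⟩ : K)⁻¹ ∧ (⟨0, 1⟩ : K) ≠ (⟨0, 9⟩ : K)⁻¹ ∧
      (⟨0, 3⟩ : K) ≠ (⟨0, 9⟩ : K)⁻¹) := by decide +kernel

theorem images_table : ∀ u v w : Fin 27, cls (⟨0, u⟩ : K) = 3 → cls (⟨0, v⟩ : K) = 3 →
    cls (⟨0, w⟩ : K) = 3 →
    ((⟨0, u⟩ : K) ≠ ⟨0, v⟩ ∧ (⟨0, u⟩ : K) ≠ ⟨0, w⟩ ∧ (⟨0, v⟩ : K) ≠ ⟨0, w⟩) →
    ((⟨0, u⟩ : K) ≠ (⟨0, v⟩ : K)⁻¹ ∧ (⟨0, u⟩ : K) ≠ (⟨0, w⟩ : K)⁻¹ ∧
      (⟨0, v⟩ : K) ≠ (⟨0, w⟩ : K)⁻¹) →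
    ∃ k : K, (k * ⟨0, 1⟩ * k⁻¹ = ⟨0, u⟩ ∨ k * (⟨0, 1⟩ : K)⁻¹ * k⁻¹ = ⟨0, u⟩) ∧
      k * ⟨0, 3⟩ * k⁻¹ = ⟨0, v⟩ ∧ k * ⟨0, 9⟩ * k⁻¹ = ⟨0, w⟩ := by decide +kernel

theorem swap_table : swap (0 : Fin 9) 1 * toPerm (⟨0, 1⟩ : K) * (swap (0 : Fin 9) 1)⁻¹ =
      (toPerm (⟨0, 1⟩ : K))⁻¹ ∧
    swap (0 : Fin 9) 1 * toPerm (⟨0, 3⟩ : K) * (swap (0 : Fin 9) 1)⁻¹ = toPerm (⟨0, 3⟩ : K) ∧
    swap (0 : Fin 9) 1 * toPerm (⟨0, 9⟩ : K) * (swap (0 : Fin 9) 1)⁻¹ = toPerm (⟨0, 9⟩ : K) := by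
  decide +kernel

theorem fixed_table :
    (∀ i : Fin 9, toPerm (⟨0, 3⟩ : K) i = i → toPerm (⟨0, 9⟩ : K) i = i → i.1 / 3 = 0) ∧
    (∀ i : Fin 9, toPerm (⟨0, 1⟩ : K) i = i → toPerm (⟨0, 9⟩ : K) i = i → i.1 / 3 = 1) ∧
    (∀ i : Fin 9, toPerm (⟨0, 1⟩ : K) i = i → toPerm (⟨0, 3⟩ : K) i = i → i.1 / 3 = 2) ∧
    (toPerm (⟨0, 3⟩ : K) 0 = 0 ∧ toPerm (⟨0, 9⟩ : K) 0 = 0) ∧
    (toPerm (⟨0, 1⟩ : K) 3 = 3 ∧ toPerm (⟨0, 9⟩ : K) 3 = 3) ∧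
    (toPerm (⟨0, 1⟩ : K) 6 = 6 ∧ toPerm (⟨0, 3⟩ : K) 6 = 6) := by decide +kernel

theorem points_table :
    (∀ x y z : Fin 9, x.1 / 3 = 0 → y.1 / 3 = 1 → z.1 / 3 = 2 → ∃ v : Fin 27,
      toPerm (⟨0, v⟩ : K) 0 = x ∧ toPerm (⟨0, v⟩ : K) 3 = y ∧ toPerm (⟨0, v⟩ : K) 6 = z) ∧
    ∀ i : Fin 9, ∃ j : Fin 3, (toPerm (⟨0, 1⟩ : K) ^ (j : ℕ)) 0 = i ∨
      (toPerm (⟨0, 3⟩ : K) ^ (j : ℕ)) 3 = i ∨ (toPerm (⟨0, 9⟩ : K) ^ (j : ℕ)) 6 = i := by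
  decide +kernel

/-- The centralizer of the three cycles is their group. -/
theorem mem_tr_of_commute_cycles {g : Perm (Fin 9)}
    (h1 : Commute g (toPerm (⟨0, 1⟩ : K))) (h2 : Commute g (toPerm (⟨0, 3⟩ : K)))
    (h3 : Commute g (toPerm (⟨0, 9⟩ : K))) : ∃ v : Fin 27, g = toPerm (⟨0, v⟩ : K) := by
  obtain ⟨f0, f1, f2, ⟨a0, b0⟩, ⟨a3, b3⟩, a6, b6⟩ := fixed_table
  obtain ⟨hv, hpts⟩ := points_table
  have app : ∀ {p : Perm (Fin 9)}, Commute g p → ∀ i, g (p i) = p (g i) := fun hp i =>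
    Perm.ext_iff.1 hp.eq i
  obtain ⟨v, v0, v3, v6⟩ := hv (g 0) (g 3) (g 6)
    (f0 _ (by rw [← app h2, a0]) (by rw [← app h3, b0]))
    (f1 _ (by rw [← app h1, a3]) (by rw [← app h3, b3]))
    (f2 _ (by rw [← app h1, a6]) (by rw [← app h2, b6]))
  refine ⟨v, Equiv.ext fun i => ?_⟩
  have hc : ∀ u : Fin 27, Commute (toPerm (⟨0, v⟩ : K)) (toPerm (⟨0, u⟩ : K)) := fun u =>
    (show Commute (⟨0, v⟩ : K) ⟨0, u⟩ from tr_comm v u).map toPerm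
  obtain ⟨j, e | e | e⟩ := hpts i <;> rw [← e]
  · rw [app (h1.pow_right _), ← v0]
    exact (Perm.ext_iff.1 ((hc 1).pow_right _).eq 0).symm
  · rw [app (h2.pow_right _), ← v3]
    exact (Perm.ext_iff.1 ((hc 3).pow_right _).eq 3).symm
  · rw [app (h3.pow_right _), ← v6]
    exact (Perm.ext_iff.1 ((hc 9).pow_right _).eq 6).symm

theorem toPerm_even : ∀ a : Fin 24, ∀ v : Fin 27, Perm.sign (toPerm (⟨a, v⟩ : K)) = 1 := by
  decide +kernel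

/-- The normalizer is the model. -/
theorem inf_normalizer_eq :
    alternatingGroup (Fin 9) ⊓ Subgroup.normalizer (threeCycles : Set (Perm (Fin 9))) =
      toPerm.range := by
  refine le_antisymm (fun g hg => ?_) ?_
  · obtain ⟨hga, hgn⟩ := hg
    have hmove : ∀ u : Fin 27, (toPerm (⟨0, u⟩ : K)).support.card = 3 → ∃ w : Fin 27,
        toPerm (⟨0, w⟩ : K) = g * toPerm (⟨0, u⟩ : K) * g⁻¹ ∧ cls (⟨0, w⟩ : K) = 3 := by
      intro u hu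
      have hmem : g * toPerm (⟨0, u⟩ : K) * g⁻¹ ∈ tr.map toPerm := by
        rw [← threeCycles_eq]
        exact (Subgroup.mem_normalizer_iff.1 hgn _).1 (threeCycles_eq ▸ ⟨_, rfl, rfl⟩)
      obtain ⟨⟨a, w⟩, hx, hxe⟩ := hmem
      obtain rfl : a = 0 := hx
      exact ⟨w, hxe, support_table w (by rw [hxe, Perm.card_support_conj, hu])⟩
    obtain ⟨s1, s2, s3, ⟨n12, n13, n23⟩, m12, m13, m23⟩ := gens_support
    obtain ⟨u, hu, cu⟩ := hmove 1 s1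
    obtain ⟨v, hv, cv⟩ := hmove 3 s2
    obtain ⟨w, hw, cw⟩ := hmove 9 s3
    have inj : ∀ {x y : K} {p q : Perm (Fin 9)}, toPerm x = g * p * g⁻¹ → toPerm y = g * q * g⁻¹ →
        x = y → p = q := fun hp hq e => mul_left_cancel (mul_right_cancel
          (hp.symm.trans ((congrArg toPerm e).trans hq)))
    have invc : ∀ {y : K} {q : Perm (Fin 9)}, toPerm y = g * q * g⁻¹ →
        toPerm y⁻¹ = g * q⁻¹ * g⁻¹ := fun hq => by rw [map_inv, hq]; group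
    obtain ⟨k, hk1, hk2, hk3⟩ := images_table u v w cu cv cw
      ⟨fun e => n12 (toPerm_injective (inj hu hv e)), fun e => n13 (toPerm_injective (inj hu hw e)),
        fun e => n23 (toPerm_injective (inj hv hw e))⟩
      ⟨fun e => m12 (toPerm_injective ((inj hu (invc hv) e).trans (map_inv _ _).symm)),
        fun e => m13 (toPerm_injective ((inj hu (invc hw) e).trans (map_inv _ _).symm)),
        fun e => m23 (toPerm_injective ((inj hv (invc hw) e).trans (map_inv _ _).symm))⟩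
    have comm : ∀ {t p q : Perm (Fin 9)}, t * p * t⁻¹ = q → g * p * g⁻¹ = q →
        Commute (t⁻¹ * g) p := fun {t p q} h1 h2 => by
      show t⁻¹ * g * p = p * (t⁻¹ * g)
      calc t⁻¹ * g * p = t⁻¹ * (g * p * g⁻¹) * g := by group
        _ = t⁻¹ * (t * p * t⁻¹) * g := by rw [h1, h2]
        _ = _ := by group
    have img : ∀ {x y : K}, k * x * k⁻¹ = y → toPerm k * toPerm x * (toPerm k)⁻¹ = toPerm y :=
      fun e => by rw [← e, map_mul, map_mul, map_inv]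
    rcases hk1 with hk1 | hk1
    · obtain ⟨z, hz⟩ := mem_tr_of_commute_cycles (comm (img hk1) hu.symm) (comm (img hk2) hv.symm)
        (comm (img hk3) hw.symm)
      exact ⟨k * ⟨0, z⟩, by rw [map_mul, ← hz, mul_inv_cancel_left]⟩
    · exfalso
      obtain ⟨t1, t2, t3⟩ := swap_table
      set τ := swap (0 : Fin 9) 1
      have withτ : ∀ {p p' q : Perm (Fin 9)}, τ * p * τ⁻¹ = p' →
          toPerm k * p' * (toPerm k)⁻¹ = q → toPerm k * τ * p * (toPerm k * τ)⁻¹ = q :=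
        fun a b => by rw [← b, ← a]; group
      obtain ⟨z, hz⟩ := mem_tr_of_commute_cycles
        (comm (withτ t1 (by rw [← map_inv]; exact img hk1)) hu.symm)
        (comm (withτ t2 (img hk2)) hv.symm) (comm (withτ t3 (img hk3)) hw.symm)
      have hgz : g = toPerm k * τ * toPerm (⟨0, z⟩ : K) := by
        rw [← hz, mul_inv_cancel_left]
      have hs := Perm.mem_alternatingGroup.1 hga
      rw [hgz, map_mul, map_mul, toPerm_even, toPerm_even, Perm.sign_swap (by decide)] at hs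
      exact absurd hs (by decide)
  · rintro _ ⟨k, rfl⟩
    refine ⟨Perm.mem_alternatingGroup.2 (toPerm_even k.h k.v), ?_⟩
    show toPerm k ∈ Subgroup.normalizer (threeCycles : Set (Perm (Fin 9)))
    rw [threeCycles_eq]
    haveI := tr_normal
    refine Subgroup.mem_normalizer_iff.2 fun p => ⟨?_, ?_⟩
    · rintro ⟨x, hx, rfl⟩
      exact ⟨k * x * k⁻¹, tr_normal.conj_mem x hx k, by rw [map_mul, map_mul, map_inv]⟩
    · rintro ⟨x, hx, hxe⟩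
      refine ⟨k⁻¹ * x * k⁻¹⁻¹, tr_normal.conj_mem x hx k⁻¹, ?_⟩
      simp only [map_mul, map_inv, hxe, inv_inv]
      group

end CfsgLib.ThreeLocalNine
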