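import Mathlib.GroupTheory.SpecificGroups.Alternating.Simple
import Mathlib.GroupTheory.Perm.Closure
import Mathlib.GroupTheory.Perm.Cycle.Type

/-!
# Automorphisms of the alternating group of degree six and a Sylow `3`-normalizer

Every admissible triple of images of two commuting three-cycles and an element of order four
normalising them extends to an automorphism, and uniquely.  The exotic automorphism is read off
from the six one-factorisations of the complete graph on six points.
-/

set_option autoImplicit false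
set_option maxRecDepth 100000

namespace CfsgLib.ThreeLocalNine

open Equiv

/-- The colourings of the six one-factorisations, packed. -/
def colTab : ℕ :=
  768897464809025086019730338123367146084275665708421280451110709688960232571295475740700456287375988155560594495233818808208200405531832509166114511246831298169543554398089438780190267348793570373

/-- The colour of an edge. -/
def colour (t i j : Fin 6) : ℕ := (colTab >>> (3 * (36 * t.1 + 6 * i.1 + j.1))) % 8

/-- Two edges have the same colour. -/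
def sameCol (t i j k l : Fin 6) : Bool := colour t i j == colour t k l

/-- A permutation carries one factorisation to another. -/
def Carries (σ : Perm (Fin 6)) (t u : Fin 6) : Prop :=
  ∀ i j k l, sameCol u (σ i) (σ j) (σ k) (σ l) = sameCol t i j k l

instance (σ : Perm (Fin 6)) (t u : Fin 6) : Decidable (Carries σ t u) := by
  unfold Carries; infer_instance

theorem sameCol_inj : ∀ t u : Fin 6, (∀ i j k l, sameCol t i j k l = sameCol u i j k l) → t = u := by
  decide +kernel

theorem Carries.trans {σ τ : Perm (Fin 6)} {t u v : Fin 6} (h1 : Carries σ t u)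
    (h2 : Carries τ u v) : Carries (τ * σ) t v := fun i j k l => by
  simp only [Perm.mul_apply]
  rw [h2, h1]

theorem Carries.unique {σ : Perm (Fin 6)} {t u v : Fin 6} (h1 : Carries σ t u)
    (h2 : Carries σ t v) : u = v := sameCol_inj u v fun i j k l => by
  have a := h1 (σ.symm i) (σ.symm j) (σ.symm k) (σ.symm l)
  have b := h2 (σ.symm i) (σ.symm j) (σ.symm k) (σ.symm l)
  simp only [Equiv.apply_symm_apply] at a b
  rw [a, b]

theorem Carries.inv {σ : Perm (Fin 6)} {t u : Fin 6} (h : Carries σ t u) : Carries σ⁻¹ u t :=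
  fun i j k l => by
    have := h (σ⁻¹ i) (σ⁻¹ j) (σ⁻¹ k) (σ⁻¹ l)
    simp only [Perm.coe_inv, Equiv.apply_symm_apply] at this
    exact this.symm

theorem carries_gen : (∀ t, ∃ u, Carries (finRotate 6) t u) ∧ ∀ t, ∃ u, Carries (swap 0 1) t u := by
  decide +kernel

theorem exists_carries (σ : Perm (Fin 6)) (t : Fin 6) : ∃ u, Carries σ t u := by
  let S : Subgroup (Perm (Fin 6)) :=
    { carrier := {σ | ∀ t, ∃ u, Carries σ t u}
      one_mem' := fun t => ⟨t, fun _ _ _ _ => rfl⟩
      mul_mem' := fun {a b} ha hb t => by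
        obtain ⟨u, hu⟩ := hb t
        obtain ⟨v, hv⟩ := ha u
        exact ⟨v, hu.trans hv⟩
      inv_mem' := fun {a} ha t => by
        have hinj : Function.Injective fun t => (ha t).choose := fun p q e => by
          have hp := (ha p).choose_spec
          have hq := (ha q).choose_spec
          simp only at e
          rw [← e] at hq
          exact Carries.unique hp.inv hq.inv
        obtain ⟨u, hu⟩ := Finite.surjective_of_injective hinj t
        exact ⟨u, hu ▸ ((ha u).choose_spec).inv⟩ }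
  have htop : S = ⊤ := by
    rw [eq_top_iff, ← Perm.closure_cycle_adjacent_swap (σ := finRotate 6) (isCycle_finRotate)
      support_finRotate (0 : Fin 6), Subgroup.closure_le]
    rintro _ (rfl | rfl)
    · exact carries_gen.1
    · exact carries_gen.2
  exact (show σ ∈ S by rw [htop]; trivial) t

/-- The exotic endomorphism of the symmetric group of degree six, as a map. -/
noncomputable def exoticFun (σ : Perm (Fin 6)) (t : Fin 6) : Fin 6 := (exists_carries σ t).choose

theorem exoticFun_spec (σ : Perm (Fin 6)) (t : Fin 6) : Carries σ t (exoticFun σ t) :=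
  (exists_carries σ t).choose_spec

theorem exoticFun_mul (σ τ : Perm (Fin 6)) (t : Fin 6) :
    exoticFun (σ * τ) t = exoticFun σ (exoticFun τ t) :=
  (exoticFun_spec _ _).unique ((exoticFun_spec τ t).trans (exoticFun_spec σ _))

theorem exoticFun_one (t : Fin 6) : exoticFun 1 t = t :=
  (exoticFun_spec _ _).unique fun _ _ _ _ => rfl

/-- The exotic endomorphism. -/
noncomputable def exotic : Perm (Fin 6) →* Perm (Fin 6) where
  toFun σ :=
    { toFun := exoticFun σ
      invFun := exoticFun σ⁻¹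
      left_inv := fun t => by rw [← exoticFun_mul, inv_mul_cancel, exoticFun_one]
      right_inv := fun t => by rw [← exoticFun_mul, mul_inv_cancel, exoticFun_one] }
  map_one' := Equiv.ext exoticFun_one
  map_mul' σ τ := Equiv.ext (exoticFun_mul σ τ)

theorem exotic_apply {σ : Perm (Fin 6)} {t u : Fin 6} (h : Carries σ t u) : exotic σ t = u :=
  (exoticFun_spec σ t).unique h

/-- The alternating group of degree six. -/
abbrev A6 := alternatingGroup (Fin 6)

/-- The first three-cycle. -/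
def p2 : Perm (Fin 6) := swap 0 1 * swap 1 2
/-- The second three-cycle. -/
def p3 : Perm (Fin 6) := swap 3 4 * swap 4 5
/-- The element of order four. -/
def pw : Perm (Fin 6) := swap 0 3 * (swap 1 4 * swap 4 2 * swap 2 5)

theorem gen_facts : p2 ∈ A6 ∧ p3 ∈ A6 ∧ pw ∈ A6 ∧ p2 ^ 3 = 1 ∧ p3 ^ 3 = 1 ∧ pw ^ 4 = 1 ∧
    p2 * p3 = p3 * p2 ∧ pw * p2 * pw⁻¹ = p3 ∧ pw * p3 * pw⁻¹ = p2⁻¹ := by
  simp only [Perm.mem_alternatingGroup]
  decide +kernel

/-- The first three-cycle. -/
def T2 : A6 := ⟨p2, gen_facts.1⟩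
/-- The second three-cycle. -/
def T3 : A6 := ⟨p3, gen_facts.2.1⟩
/-- The element of order four. -/
def W : A6 := ⟨pw, gen_facts.2.2.1⟩

/-- The product of the two three-cycles. -/
def p23 : Perm (Fin 6) := p2 * p3

theorem order_three_table : ∀ σ : Perm (Fin 6), σ ^ 3 = 1 → σ ≠ 1 →
    σ.support.card = 3 ∨ σ.cycleType = p23.cycleType := by decide +kernel

theorem exotic_p23_table : Carries p23 0 4 ∧ Carries p23 1 1 ∧ Carries p23 2 2 ∧
    Carries p23 3 0 ∧ Carries p23 4 3 ∧ Carries p23 5 5 ∧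
    (swap 0 4 * swap 4 3 : Perm (Fin 6)).support.card = 3 := by decide +kernel

theorem exotic_p23 : exotic p23 = swap 0 4 * swap 4 3 := by
  obtain ⟨h0, h1, h2, h3, h4, h5, -⟩ := exotic_p23_table
  refine Equiv.ext fun t => ?_
  fin_cases t
  · exact (exotic_apply h0).trans (by decide)
  · exact (exotic_apply h1).trans (by decide)
  · exact (exotic_apply h2).trans (by decide)
  · exact (exotic_apply h3).trans (by decide)
  · exact (exotic_apply h4).trans (by decide)
  · exact (exotic_apply h5).trans (by decide)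

theorem sign_exotic (x : A6) : Perm.sign (exotic x) = 1 := by
  let f : Perm (Fin 6) →* ℤˣ := Perm.sign.comp exotic
  suffices h : A6 ≤ f.ker from h x.2
  show alternatingGroup (Fin 6) ≤ f.ker
  rw [← Perm.closure_three_cycles_eq_alternating, Subgroup.closure_le]
  intro σ hσ
  have h3 : σ ^ 3 = 1 := by rw [← hσ.orderOf]; exact pow_orderOf_eq_one σ
  have : f σ ^ 3 = 1 := by rw [← map_pow, h3, map_one]
  show f σ = 1
  revert this
  generalize f σ = u
  revert u
  decide

/-- The exotic automorphism. -/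
noncomputable def exotic6 : A6 →* A6 :=
  (exotic.comp A6.subtype).codRestrict A6 fun x => Perm.mem_alternatingGroup.2 (sign_exotic x)

theorem exotic6_val (x : A6) : (exotic6 x : Perm (Fin 6)) = exotic x := rfl

theorem exotic6_bijective : Function.Bijective exotic6 := by
  haveI : IsSimpleGroup A6 := alternatingGroup.isSimpleGroup (α := Fin 6) (by simp)
  refine (Finite.injective_iff_bijective).1 ((MonoidHom.ker_eq_bot_iff _).1 ?_)
  refine (IsSimpleGroup.eq_bot_or_eq_top_of_normal exotic6.ker inferInstance).resolve_right fun h => ?_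
  have hm : (⟨p23, mul_mem gen_facts.1 gen_facts.2.1⟩ : A6) ∈ exotic6.ker := h ▸ Subgroup.mem_top _
  have h1 : exotic p23 = 1 := congrArg Subtype.val (MonoidHom.mem_ker.1 hm)
  rw [exotic_p23] at h1
  have := exotic_p23_table.2.2.2.2.2.2
  rw [h1, Perm.support_one] at this
  exact absurd this (by decide)

/-- An element of order three is a three-cycle after applying an automorphism. -/
theorem exists_three_cycle (x : A6) (hx : x ^ 3 = 1) (hx1 : x ≠ 1) :
    ∃ γ : A6 ≃* A6, (γ x : Perm (Fin 6)).support.card = 3 := by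
  rcases order_three_table x (congrArg Subtype.val hx) (fun e => hx1 (Subtype.ext e)) with h | h
  · exact ⟨MulEquiv.refl A6, h⟩
  · refine ⟨MulEquiv.ofBijective exotic6 exotic6_bijective, ?_⟩
    obtain ⟨c, hc⟩ := isConj_iff.1 (Perm.isConj_iff_cycleType_eq.2 h)
    show (exotic (x : Perm (Fin 6))).support.card = 3
    have e : exotic c * exotic x * (exotic c)⁻¹ = exotic p23 := by
      rw [← map_inv, ← map_mul, ← map_mul, hc]
    rw [← Perm.card_support_conj (σ := exotic c), e, exotic_p23]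
    exact exotic_p23_table.2.2.2.2.2.2

theorem centralizer_p2_table : ∀ σ : Perm (Fin 6), σ ^ 3 = 1 → σ * p2 = p2 * σ →
    σ.support.card = 3 → σ = p3 ∨ σ = p3⁻¹ ∨ σ = p2 ∨ σ = p2⁻¹ := by decide +kernel

theorem wsolve_table : ∀ σ : Perm (Fin 6), Perm.sign σ = 1 → σ * p2 * σ⁻¹ = p3 →
    σ * p3 * σ⁻¹ = p2⁻¹ → ∃ i j : Fin 3,
      (p2 ^ (i : ℕ) * p3 ^ (j : ℕ)) * σ * (p2 ^ (i : ℕ) * p3 ^ (j : ℕ))⁻¹ = pw := by decide +kernel

theorem flip_table : swap 3 4 * p2 * (swap 3 4)⁻¹ = p2 ∧ swap 3 4 * p3⁻¹ * (swap 3 4)⁻¹ = p3 ∧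
    p2.support.card = 3 ∧ p2⁻¹ ≠ p2 := by decide +kernel

theorem conj6_val (σ : Perm (Fin 6)) (x : A6) :
    ((MulAut.conjNormal σ : A6 ≃* A6) x : Perm (Fin 6)) = σ * x * σ⁻¹ :=
  MulAut.conjNormal_apply σ x

/-- Admissible images extend to an automorphism. -/
theorem exists_aut (x y z : A6) (hx1 : x ≠ 1) (hx : x ^ 3 = 1) (hy : y ^ 3 = 1)
    (hxy : x * y = y * x) (hzx : z * x * z⁻¹ = y) (hzy : z * y * z⁻¹ = x⁻¹) :
    ∃ γ : A6 ≃* A6, γ T2 = x ∧ γ T3 = y ∧ γ W = z := by
  suffices h : ∃ δ : A6 ≃* A6, δ x = T2 ∧ δ y = T3 ∧ δ z = W by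
    obtain ⟨δ, h1, h2, h3⟩ := h
    exact ⟨δ.symm, by rw [← h1, δ.symm_apply_apply], by rw [← h2, δ.symm_apply_apply],
      by rw [← h3, δ.symm_apply_apply]⟩
  obtain ⟨γ, hγ⟩ := exists_three_cycle x hx hx1
  obtain ⟨c, hc⟩ := isConj_iff.1 (Perm.isConj_iff_cycleType_eq.2
    (show (γ x : Perm (Fin 6)).cycleType = p2.cycleType by
      rw [(card_support_eq_three_iff.1 hγ : Perm.IsThreeCycle _),
        (card_support_eq_three_iff.1 flip_table.2.2.1 : Perm.IsThreeCycle p2)]))
  let δ1 : A6 ≃* A6 := γ.trans (MulAut.conjNormal c)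
  have hd1 : δ1 x = T2 := Subtype.ext (by rw [MulEquiv.trans_apply, conj6_val, hc]; rfl)
  have key : ∀ δ : A6 ≃* A6, δ x = T2 → (δ y : Perm (Fin 6)) = p3 →
      ∃ ε : A6 ≃* A6, ε x = T2 ∧ ε y = T3 ∧ ε z = W := by
    intro δ hdx hdy
    have hy' : δ y = T3 := Subtype.ext hdy
    have e1 : δ z * T2 * (δ z)⁻¹ = T3 := by rw [← hdx, ← hy', ← map_inv, ← map_mul, ← map_mul, hzx]
    have e2 : δ z * T3 * (δ z)⁻¹ = T2⁻¹ := by
      rw [← hdx, ← hy', ← map_inv, ← map_mul, ← map_mul, hzy, map_inv]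
    obtain ⟨i, j, hij⟩ := wsolve_table (δ z : Perm (Fin 6)) (Perm.mem_alternatingGroup.1 (δ z).2)
      (congrArg Subtype.val e1) (congrArg Subtype.val e2)
    set τ : A6 := T2 ^ (i : ℕ) * T3 ^ (j : ℕ)
    have hc2 : Commute τ T2 := by
      have hc : Commute T3 T2 := Subtype.ext gen_facts.2.2.2.2.2.2.1.symm
      exact ((Commute.refl T2).pow_left _).mul_left (hc.pow_left _)
    have hc3 : Commute τ T3 := by
      have hc : Commute T2 T3 := Subtype.ext gen_facts.2.2.2.2.2.2.1
      exact (hc.pow_left _).mul_left ((Commute.refl T3).pow_left _)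
    refine ⟨δ.trans (MulAut.conj τ), ?_, ?_, ?_⟩
    · rw [MulEquiv.trans_apply, hdx, MulAut.conj_apply, hc2.eq, mul_inv_cancel_right]
    · rw [MulEquiv.trans_apply, hy', MulAut.conj_apply, hc3.eq, mul_inv_cancel_right]
    · rw [MulEquiv.trans_apply, MulAut.conj_apply]
      exact Subtype.ext hij
  have hyz : (δ1 y : Perm (Fin 6)).support.card = 3 := by
    have : (δ1 y : Perm (Fin 6)) = (δ1 z : Perm (Fin 6)) * p2 * (δ1 z : Perm (Fin 6))⁻¹ := by
      rw [← hzx, map_mul, map_mul, map_inv, hd1]; rfl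
    rw [this, Perm.card_support_conj]
    exact flip_table.2.2.1
  have hcomm : (δ1 y : Perm (Fin 6)) * p2 = p2 * (δ1 y : Perm (Fin 6)) := by
    have := congrArg δ1 hxy
    rw [map_mul, map_mul, hd1] at this
    exact (congrArg Subtype.val this).symm
  have hy3 : (δ1 y : Perm (Fin 6)) ^ 3 = 1 := by
    have := congrArg δ1 hy
    rw [map_pow, map_one] at this
    exact congrArg Subtype.val this
  have hne : ∀ e : A6, (e = x ∨ e = x⁻¹) → y ≠ e := by
    have hxx : x ≠ x⁻¹ := fun e => hx1 (by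
      have h2 : x * x = 1 := mul_eq_one_iff_eq_inv.2 e
      rw [pow_succ, pow_two, h2, one_mul] at hx
      exact hx)
    rintro e (rfl | rfl) h
    · rw [h] at hzx hzy
      exact hxx (hzx.symm.trans hzy)
    · rw [h] at hzx hzy
      have e1 : z * x⁻¹ * z⁻¹ = x := by
        calc z * x⁻¹ * z⁻¹ = (z * x * z⁻¹)⁻¹ := by group
          _ = x := by rw [hzx, inv_inv]
      exact hxx (e1.symm.trans hzy)
  rcases centralizer_p2_table _ hy3 hcomm hyz with h | h | h | h
  · exact key δ1 hd1 h
  · obtain ⟨f1, f2, -, -⟩ := flip_table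
    refine key (δ1.trans (MulAut.conjNormal (swap 3 4))) (Subtype.ext ?_) ?_
    · rw [MulEquiv.trans_apply, conj6_val, hd1]; exact f1
    · rw [MulEquiv.trans_apply, conj6_val, h]; exact f2
  · exact absurd (δ1.injective (hd1 ▸ Subtype.ext h : δ1 y = δ1 x)) (hne x (Or.inl rfl))
  · exact absurd (δ1.injective (show δ1 y = δ1 x⁻¹ by rw [map_inv, hd1]; exact Subtype.ext h))
      (hne x⁻¹ (Or.inr rfl))

/-- A further three-cycle. -/
def px : Perm (Fin 6) := swap 0 1 * swap 1 3

theorem px_facts : px ∈ A6 ∧ px ^ 3 = 1 ∧ px ≠ 1 ∧ (px * (p2 * pw)) ^ 2 = 1 ∧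
    (px * (p2 * pw ^ 2)) ^ 2 = 1 := by
  simp only [Perm.mem_alternatingGroup]
  decide +kernel

theorem rigid_table : ∀ σ : Perm (Fin 6), σ ^ 3 = 1 → σ ≠ 1 → Perm.sign σ = 1 →
    (σ * (p2 * pw)) ^ 2 = 1 → (σ * (p2 * pw ^ 2)) ^ 2 = 1 → σ = px := by decide +kernel

theorem cover_table : ∀ σ : Perm (Fin 6), σ.support.card = 3 → σ ^ 3 = 1 → ∃ i j : Fin 3, ∃ k : Fin 4,
    ∃ e : Fin 4, σ = (p2 ^ (i : ℕ) * p3 ^ (j : ℕ) * pw ^ (k : ℕ)) *
      [p2, p2⁻¹, px, px⁻¹].getD e 1 * (p2 ^ (i : ℕ) * p3 ^ (j : ℕ) * pw ^ (k : ℕ))⁻¹ := by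
  decide +kernel

/-- A homomorphism from the group is determined by the images of the Sylow normalizer. -/
theorem hom_rigid (δ : A6 ≃* A6) (h2 : δ T2 = T2) (h3 : δ T3 = T3) (hw : δ W = W) (x : A6) :
    δ x = x := by
  obtain ⟨hpx, hp3, hp1, hpa, hpb⟩ := px_facts
  let X : A6 := ⟨px, hpx⟩
  have hX : δ X = X := by
    refine Subtype.ext (rigid_table _ ?_ ?_ (Perm.mem_alternatingGroup.1 (δ X).2) ?_ ?_)
    · show ((δ X) ^ 3 : A6).1 = 1
      rw [← map_pow, show X ^ 3 = 1 from Subtype.ext hp3, map_one]; rfl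
    · intro e
      have hd : δ X = 1 := Subtype.ext e
      exact hp1 (congrArg Subtype.val (δ.map_eq_one_iff.1 hd))
    · have : (δ X * (T2 * W)) ^ 2 = 1 := by
        conv_lhs => rw [← h2, ← hw, ← map_mul, ← map_mul, ← map_pow]
        rw [show (X * (T2 * W)) ^ 2 = 1 from Subtype.ext hpa, map_one]
      exact congrArg Subtype.val this
    · have : (δ X * (T2 * W ^ 2)) ^ 2 = 1 := by
        conv_lhs => rw [← h2, ← hw, ← map_pow, ← map_mul, ← map_mul, ← map_pow]
        rw [show (X * (T2 * W ^ 2)) ^ 2 = 1 from Subtype.ext hpb, map_one]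
      exact congrArg Subtype.val this
  let S : Subgroup A6 := MonoidHom.eqLocus δ.toMonoidHom (MonoidHom.id A6)
  have hS : alternatingGroup (Fin 6) ≤ S.map A6.subtype := by
    rw [← Perm.closure_three_cycles_eq_alternating (α := Fin 6), Subgroup.closure_le]
    intro σ hσ
    obtain ⟨i, j, k, e, hσe⟩ := cover_table σ hσ.card_support
      (by rw [← hσ.orderOf]; exact pow_orderOf_eq_one σ)
    have m2 : p2 ∈ S.map A6.subtype := ⟨T2, h2, rfl⟩
    have m3 : p3 ∈ S.map A6.subtype := ⟨T3, h3, rfl⟩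
    have mw : pw ∈ S.map A6.subtype := ⟨W, hw, rfl⟩
    have mx : px ∈ S.map A6.subtype := ⟨X, hX, rfl⟩
    have mg := mul_mem (mul_mem (pow_mem m2 (i : ℕ)) (pow_mem m3 (j : ℕ))) (pow_mem mw (k : ℕ))
    rw [SetLike.mem_coe, hσe]
    refine mul_mem (mul_mem mg ?_) (inv_mem mg)
    fin_cases e
    · exact m2
    · exact inv_mem m2
    · exact mx
    · exact inv_mem mx
  obtain ⟨y, hy, hyx⟩ := hS x.2
  rw [← show y = x from Subtype.ext hyx]
  exact hy

end CfsgLib.ThreeLocalNine
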