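import Cfsg.Agent.ThreeLocalNine.Engine
import Mathlib.Tactic.IntervalCases

/-!
# The pair of columns determining the order

Two degrees in prescribed residue classes modulo `81`, linked to the group order by two equations
of the class algebra, are determined.
-/

set_option autoImplicit false
set_option maxRecDepth 100000

namespace CfsgLib.ThreeLocalNine

/-- The finite check. -/
def pairChk (k l : ℤ) : Bool :=
  let A := 81 * k - 105
  let B := 81 * l - 78
  let den := 105 * B + 60 * A + A * B
  let num := 129600 * A * B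
  let g := num / den
  let de := g * A - 45 * g - 291600 * A
  den == 0 || num % den != 0 || decide (g ≤ A * A + B * B) || de == 0 || 10 * g * A % de != 0 ||
    (k == 0 && l == 2)

theorem pairChk_all : ∀ k : Fin 195, ∀ l : Fin 39, pairChk ((k : ℤ) - 97) ((l : ℤ) - 11) = true := by
  decide +kernel

/-- The pair is determined. -/
theorem pair_solve {A B C g : ℤ} (hA : A % 81 = 57) (hB : B % 81 = 3) (hC : C ≠ 0)
    (hg : A * A + B * B < g) (h1 : g * (105 * B + 60 * A + A * B) = 129600 * (A * B))
    (h2 : g * (A * C - 45 * C + 10 * A) = 291600 * (A * C)) :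
    A = -105 ∧ B = 84 ∧ C = 56 ∧ g = 181440 := by
  obtain ⟨k, rfl⟩ : ∃ k, A = 81 * k - 105 := ⟨(A + 105) / 81, by omega⟩
  obtain ⟨l, rfl⟩ : ∃ l, B = 81 * l - 78 := ⟨(B + 78) / 81, by omega⟩
  set A : ℤ := 81 * k - 105 with hAdef
  set B : ℤ := 81 * l - 78 with hBdef
  have hA0 : A ≠ 0 := by omega
  have hB0 : B ≠ 0 := by omega
  have gpos : 0 < g := lt_of_le_of_lt (add_nonneg (mul_self_nonneg A) (mul_self_nonneg B)) hg
  have hden : -64800 < 105 * B + 60 * A + A * B ∧ 105 * B + 60 * A + A * B < 64800 := by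
    constructor
    · refine lt_of_mul_lt_mul_left (a := g) ?_ gpos.le
      rw [h1]
      nlinarith [mul_self_nonneg (A + B)]
    · refine lt_of_mul_lt_mul_left (a := g) ?_ gpos.le
      rw [h1]
      nlinarith [mul_self_nonneg (A - B)]
  have heq : 105 * B + 60 * A + A * B = 729 * (k * (9 * l - 2)) - 6300 := by
    rw [hAdef, hBdef]; ring
  have hb : (k * (9 * l - 2)).natAbs < 98 := by omega
  have hrange : (-97 ≤ k ∧ k ≤ 97) ∧ (-11 ≤ l ∧ l ≤ 27) := by
    rcases eq_or_ne k 0 with hk | hk
    · refine ⟨by omega, ?_⟩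
      have eA : A = -105 := by omega
      rw [eA] at h1 hg
      have hgB : g = 2160 * B := by linarith
      have : 0 < B := by omega
      have hB2 : B < 2160 := by
        refine lt_of_mul_lt_mul_left (a := B) ?_ this.le
        rw [hgB] at hg
        linarith
      omega
    · rw [Int.natAbs_mul] at hb
      have hk1 : 1 ≤ k.natAbs := Int.natAbs_pos.2 hk
      have hm1 : 1 ≤ (9 * l - 2).natAbs := Int.natAbs_pos.2 (by omega)
      have b1 := Nat.le_mul_of_pos_right k.natAbs hm1
      have b2 := Nat.le_mul_of_pos_left (9 * l - 2).natAbs hk1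
      omega
  have hchk := pairChk_all ⟨(k + 97).toNat, by omega⟩ ⟨(l + 11).toNat, by omega⟩
  rw [show (((k + 97).toNat : ℕ) : ℤ) - 97 = k by omega,
    show (((l + 11).toNat : ℕ) : ℤ) - 11 = l by omega] at hchk
  have hden0 : 105 * B + 60 * A + A * B ≠ 0 := by
    intro e
    rw [e, mul_zero] at h1
    exact mul_ne_zero hA0 hB0 (by linarith)
  have hdvd : 129600 * A * B % (105 * B + 60 * A + A * B) = 0 :=
    Int.emod_eq_zero_of_dvd ⟨g, by linarith⟩
  have hdiv : 129600 * A * B / (105 * B + 60 * A + A * B) = g :=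
    Int.ediv_eq_of_eq_mul_left hden0 (by linarith)
  simp only [pairChk, ← hAdef, ← hBdef, hdiv, Bool.or_eq_true, beq_iff_eq, bne_iff_ne,
    decide_eq_true_eq, Bool.and_eq_true] at hchk
  have hde : C * (g * A - 45 * g - 291600 * A) = -(10 * g * A) := by linarith
  rcases hchk with ((((h | h) | h) | h) | h) | ⟨hk, hl⟩
  · exact absurd h hden0
  · exact absurd hdvd h
  · omega
  · rw [h, mul_zero] at hde
    exact absurd (by linarith) (mul_ne_zero (mul_ne_zero (by norm_num : (10 : ℤ) ≠ 0) gpos.ne') hA0)
  · exact absurd (Int.emod_eq_zero_of_dvd ⟨-C, by linarith⟩) h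
  · have eA : A = -105 := by omega
    have eB : B = 84 := by omega
    rw [eA, eB] at h1
    have eg : g = 181440 := by linarith
    rw [eA, eg] at h2
    exact ⟨eA, eB, by linarith, eg⟩

end CfsgLib.ThreeLocalNine
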