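import Cfsg.Agent.AltNine.Classes
import Cfsg.Agent.ZJ.NormalPComplement
import Cfsg.Agent.ZJ.ThompsonComplement
import Cfsg.Agent.Solvable.Basics

/-!
# A group with a prescribed normalizer of an elementary abelian `3^3`: first local facts

The Sylow `3`-subgroup is that of the normalizer, fusion in `J` is controlled by the normalizer
and the centralizer of a central element is the Sylow subgroup.
-/

set_option autoImplicit false
set_option maxRecDepth 100000
set_option linter.style.haveILetI false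

namespace CfsgLib.ThreeLocalNine

open CfsgLib.AltNine

universe u

/-- The standing hypotheses. -/
structure Setup {G : Type u} [Group G] (φ : K →* G) : Prop where
  inj : Function.Injective φ
  norm : Subgroup.normalizer ((tr.map φ : Subgroup G) : Set G) = φ.range
  cores : ∀ x : K, orderOf x = 3 →
    Cfsg.pPrimeCore 3 (Subgroup.centralizer ({φ x} : Set G)) = ⊥

theorem card_tr : Nat.card tr = 27 := by
  rw [Nat.card_congr (show tr ≃ Fin 27 from
    { toFun := fun x => x.1.v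
      invFun := fun v => ⟨⟨0, v⟩, rfl⟩
      left_inv := fun x => Subtype.ext (by
        obtain ⟨⟨a, v⟩, hx⟩ := x
        obtain rfl : a = 0 := hx
        rfl)
      right_inv := fun _ => rfl }), Nat.card_fin]

theorem tr_commute {x y : K} (hx : x ∈ tr) (hy : y ∈ tr) : x * y = y * x := by
  obtain ⟨a, v⟩ := x
  obtain ⟨b, w⟩ := y
  obtain rfl : a = 0 := hx
  obtain rfl : b = 0 := hy
  exact tr_comm v w

theorem cent_tr_table : ∀ a : Fin 24, ∀ v : Fin 27,
    (∀ u : Fin 27, (⟨a, v⟩ : K) * ⟨0, u⟩ = ⟨0, u⟩ * ⟨a, v⟩) → a = 0 := by decide +kernel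

theorem mem_tr_of_commute {x : K} (h : ∀ y ∈ tr, x * y = y * x) : x ∈ tr :=
  cent_tr_table x.h x.v fun u => h ⟨0, u⟩ rfl

theorem cen_outer_table : ∀ a : Fin 24, ∀ v : Fin 27,
    (⟨a, v⟩ : K) * rep 5 = rep 5 * ⟨a, v⟩ → a ≠ 0 → cen (cls ⟨a, v⟩) = 9 := by decide +kernel

theorem tr_le_cent_rep {x : K} (hx : x ∈ tr) : x * rep 5 = rep 5 * x :=
  tr_commute hx (by decide)

theorem orderOf_rep : ∀ c : Fin 14, c ∈ ([3, 4, 5, 6] : List (Fin 14)) →
    rep c ^ 3 = 1 ∧ rep c ≠ 1 := by decide +kernel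

theorem orderOf_eq_three {x : K} (h : x ^ 3 = 1) (h1 : x ≠ 1) : orderOf x = 3 :=
  haveI : Fact (Nat.Prime 3) := ⟨Nat.prime_three⟩
  orderOf_eq_prime h h1

/-- A group with a normal `3`-complement and no normal subgroup of order prime to `3` is a
`3`-group. -/
theorem isPGroup_of_complement {C : Type u} [Group C] [Finite C]
    (h : Cfsg.HasNormalPComplement 3 C) (hcore : Cfsg.pPrimeCore 3 C = ⊥) : IsPGroup 3 C := by
  haveI : Fact (Nat.Prime 3) := ⟨Nat.prime_three⟩
  obtain ⟨Q, N, hN, hc⟩ := h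
  have hi : (Q : Subgroup C).index = Nat.card N := hc.index_eq_card
  have hNb : N = ⊥ := le_bot_iff.1 (hcore ▸ CfsgLib.Solvable.le_pPrimeCore 3 hN
    ((Nat.prime_three.coprime_iff_not_dvd.2 (hi ▸ Q.not_dvd_index)).symm))
  rw [hNb, Subgroup.card_bot] at hi
  intro x
  obtain ⟨k, hk⟩ := Q.2 ⟨x, (Subgroup.index_eq_one.1 hi) ▸ Subgroup.mem_top x⟩
  exact ⟨k, congrArg Subtype.val hk⟩

variable {G : Type u} [Group G] {φ : K →* G}

/-- The elementary abelian subgroup. -/
def core (φ : K →* G) : Subgroup G := tr.map φ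

/-- The Sylow subgroup of the normalizer centralizing the central element. -/
def pp (φ : K →* G) : Subgroup G := (Subgroup.centralizer ({rep 5} : Set K)).map φ

theorem core_le_pp : core φ ≤ pp φ :=
  Subgroup.map_mono fun _ hx => Subgroup.mem_centralizer_singleton_iff.2 (tr_le_cent_rep hx)

theorem core_comm {x y : G} (hx : x ∈ core φ) (hy : y ∈ core φ) : x * y = y * x := by
  obtain ⟨a, ha, rfl⟩ := hx
  obtain ⟨b, hb, rfl⟩ := hy
  rw [← map_mul, ← map_mul, tr_commute ha hb]

theorem pp_le_range : pp φ ≤ φ.range := by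
  rintro _ ⟨x, -, rfl⟩
  exact ⟨x, rfl⟩

theorem core_comm' : IsMulCommutative (core φ) :=
  ⟨⟨fun a b => Subtype.ext (core_comm a.2 b.2)⟩⟩

namespace Setup

variable (h : Setup φ)
include h

theorem card_map (A : Subgroup K) : Nat.card (A.map φ) = Nat.card A :=
  (Nat.card_congr (A.equivMapOfInjective φ h.inj).toEquiv).symm

theorem card_core : Nat.card (core φ) = 27 := (h.card_map tr).trans card_tr

theorem card_pp : Nat.card (pp φ) = 81 := by
  rw [pp, h.card_map, card_centralizer, cls_rep]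
  rfl

theorem isPGroup_pp : IsPGroup 3 (pp φ) := IsPGroup.of_card (n := 4) (h.card_pp.trans rfl)

theorem card_range : Nat.card φ.range = 648 := by
  rw [← Nat.card_congr (MonoidHom.ofInjective h.inj).toEquiv, Nat.card_eq_fintype_card, card_K]

theorem mem_range_of_fix {g : G} (hg : ∀ x ∈ core φ, g * x * g⁻¹ ∈ core φ) : g ∈ φ.range := by
  haveI : Finite (core φ) := Nat.finite_of_card_ne_zero (by rw [h.card_core]; norm_num)
  rw [← h.norm, Subgroup.mem_normalizer_iff]
  intro x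
  refine ⟨fun hx => hg x hx, fun hx => ?_⟩
  let f : core φ → core φ := fun y => ⟨g * y * g⁻¹, hg y y.2⟩
  have hf : Function.Injective f := fun a b e => Subtype.ext (by
    have := congrArg Subtype.val e
    exact mul_left_cancel (mul_right_cancel this))
  obtain ⟨y, hy⟩ := Finite.surjective_of_injective hf ⟨_, hx⟩
  have e : g * (y : G) * g⁻¹ = g * x * g⁻¹ := congrArg Subtype.val hy
  rw [← mul_left_cancel (mul_right_cancel e)]
  exact y.2

theorem mem_core_of_centralizes {g : G} (hg : ∀ x ∈ core φ, g * x = x * g) : g ∈ core φ := by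
  obtain ⟨k, rfl⟩ := h.mem_range_of_fix (g := g) fun x hx => by
    rw [hg x hx, mul_inv_cancel_right]; exact hx
  exact ⟨k, mem_tr_of_commute fun y hy => h.inj (by rw [map_mul, map_mul]; exact hg _ ⟨y, hy, rfl⟩),
    rfl⟩

variable [Finite G]

/-- An abelian subgroup of the Sylow subgroup has order at most `27`, with equality only for `J`. -/
theorem abelian_pp {A : Subgroup G} (hA : A ≤ pp φ) (hc : ∀ x ∈ A, ∀ y ∈ A, x * y = y * x) :
    Nat.card A ≤ 27 ∧ (Nat.card A = 27 → A = core φ) := by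
  by_cases hle : A ≤ core φ
  · have h1 := Nat.le_of_dvd (by rw [h.card_core]; norm_num) (Subgroup.card_dvd_of_le hle)
    rw [h.card_core] at h1
    exact ⟨h1, fun e => CfsgLib.Solvable.eq_of_le_of_card_le hle (by rw [e, h.card_core])⟩
  obtain ⟨_, hxA, hxJ⟩ := SetLike.not_le_iff_exists.1 hle
  obtain ⟨x, hx, rfl⟩ := hA hxA
  have hAx : A ≤ (Subgroup.centralizer ({x} : Set K)).map φ := by
    intro y hy
    obtain ⟨k, -, rfl⟩ := hA hy
    refine ⟨k, Subgroup.mem_centralizer_singleton_iff.2 (h.inj ?_), rfl⟩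
    rw [map_mul, map_mul]; exact hc _ hy _ hxA
  have hx0 : x.h ≠ 0 := fun e => hxJ ⟨x, e, rfl⟩
  have h9 : Nat.card A ∣ 9 := by
    have := Subgroup.card_dvd_of_le hAx
    rwa [h.card_map, card_centralizer, cen_outer_table x.h x.v
      (Subgroup.mem_centralizer_singleton_iff.1 hx) hx0] at this
  have := Nat.le_of_dvd (by norm_num) h9
  exact ⟨by omega, fun e => by omega⟩

/-- The Sylow subgroup of the normalizer is a Sylow subgroup. -/
theorem sylow_exists : ∃ S : Sylow 3 G, (S : Subgroup G) = pp φ := by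
  haveI : Fact (Nat.Prime 3) := ⟨Nat.prime_three⟩
  obtain ⟨S, hS⟩ := h.isPGroup_pp.exists_le_sylow
  refine ⟨S, le_antisymm ?_ hS⟩
  have hR : ∀ R : Subgroup G, IsPGroup 3 R → pp φ ≤ R → R ≤ φ.range → R = pp φ := by
    intro R hR hle hrange
    refine (CfsgLib.Solvable.eq_of_le_of_card_le hle ?_).symm
    obtain ⟨k, hk⟩ := hR.exists_card_eq
    have hd := Subgroup.card_dvd_of_le hrange
    rw [h.card_range, hk] at hd
    rw [hk, h.card_pp]
    have hk5 : k ≤ 4 := by
      by_contra hlt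
      exact absurd ((pow_dvd_pow 3 (show 5 ≤ k by omega)).trans hd) (by norm_num)
    calc 3 ^ k ≤ 3 ^ 4 := Nat.pow_le_pow_right (by norm_num) hk5
      _ = 81 := by norm_num
  by_contra hne
  have hlt : (pp φ).subgroupOf (S : Subgroup G) < ⊤ := lt_top_iff_ne_top.2 fun e => hne
    (Subgroup.subgroupOf_eq_top.1 e)
  haveI := S.2.isNilpotent
  obtain ⟨⟨g, hgS⟩, hgn, hgP⟩ := SetLike.exists_of_lt
    (Group.normalizerCondition_of_isNilpotent _ hlt)
  have hgn' : ∀ x ∈ pp φ, g * x * g⁻¹ ∈ pp φ := fun x hx =>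
    ((Subgroup.mem_normalizer_iff.1 hgn) ⟨x, hS hx⟩).1 hx
  have hgr : g ∈ φ.range := by
    have e : (core φ).map (MulAut.conj g).toMonoidHom = core φ := by
      refine (h.abelian_pp ?_ ?_).2 ?_
      · rintro _ ⟨x, hx, rfl⟩; exact hgn' x (core_le_pp hx)
      · rintro _ ⟨x, hx, rfl⟩ _ ⟨y, hy, rfl⟩
        rw [← map_mul, ← map_mul, core_comm hx hy]
      · rw [← Nat.card_congr ((core φ).equivMapOfInjective _ (MulAut.conj g).injective).toEquiv,
          h.card_core]
    exact h.mem_range_of_fix fun x hx => e ▸ ⟨x, hx, rfl⟩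
  have := hR ((S : Subgroup G) ⊓ φ.range) (S.2.to_le inf_le_left) (le_inf hS pp_le_range)
    inf_le_right
  exact hgP (show g ∈ pp φ by rw [← this]; exact ⟨hgS, hgr⟩)

/-- Two abelian subgroups of order `27` in a common `3`-subgroup are equal. -/
theorem abelian_unique {Q A B : Subgroup G} (hQ : IsPGroup 3 Q) (hA : A ≤ Q) (hB : B ≤ Q)
    (hAc : ∀ x ∈ A, ∀ y ∈ A, x * y = y * x) (hBc : ∀ x ∈ B, ∀ y ∈ B, x * y = y * x)
    (hA7 : Nat.card A = 27) (hB7 : Nat.card B = 27) : A = B := by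
  haveI : Fact (Nat.Prime 3) := ⟨Nat.prime_three⟩
  obtain ⟨T, hT⟩ := hQ.exists_le_sylow
  obtain ⟨S, hS⟩ := h.sylow_exists
  obtain ⟨u, rfl⟩ := MulAction.exists_smul_eq G T S
  have key : ∀ C : Subgroup G, C ≤ Q → (∀ x ∈ C, ∀ y ∈ C, x * y = y * x) → Nat.card C = 27 →
      C.map (MulAut.conj u).toMonoidHom = core φ := by
    intro C hC hCc hC7
    refine (h.abelian_pp ?_ ?_).2 ?_
    · rw [← hS, Sylow.coe_subgroup_smul]
      exact Subgroup.map_mono (hC.trans hT)
    · rintro _ ⟨x, hx, rfl⟩ _ ⟨y, hy, rfl⟩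
      rw [← map_mul, ← map_mul, hCc x hx y hy]
    · rw [← Nat.card_congr (C.equivMapOfInjective _ (MulAut.conj u).injective).toEquiv, hC7]
  exact Subgroup.map_injective (MulAut.conj u).injective
    ((key A hA hAc hA7).trans (key B hB hBc hB7).symm)

/-- Fusion in the core is controlled by the normalizer. -/
theorem fusion {x y : K} (hx : x ∈ tr) (hy : y ∈ tr) {g : G} (hg : g * φ x * g⁻¹ = φ y) :
    ∃ k : K, k * x * k⁻¹ = y ∧ (φ k)⁻¹ * g * φ x = φ x * ((φ k)⁻¹ * g) := by
  haveI : Fact (Nat.Prime 3) := ⟨Nat.prime_three⟩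
  set C := Subgroup.centralizer ({φ y} : Set G)
  set J' := (core φ).map (MulAut.conj g).toMonoidHom
  have hJC : core φ ≤ C := fun z hz =>
    Subgroup.mem_centralizer_singleton_iff.2 (core_comm hz ⟨y, hy, rfl⟩)
  have hJ'C : J' ≤ C := by
    rintro _ ⟨z, hz, rfl⟩
    refine Subgroup.mem_centralizer_singleton_iff.2 ?_
    rw [← hg]
    show (MulAut.conj g) z * (MulAut.conj g) (φ x) = (MulAut.conj g) (φ x) * (MulAut.conj g) z
    rw [← map_mul, ← map_mul, core_comm hz ⟨x, hx, rfl⟩]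
  have h27 : ∀ u : G, Nat.card ((core φ).map (MulAut.conj u).toMonoidHom) = 27 := fun u => by
    rw [← Nat.card_congr ((core φ).equivMapOfInjective _ (MulAut.conj u).injective).toEquiv,
      h.card_core]
  have hp : ∀ u : G, IsPGroup 3 ((core φ).map (MulAut.conj u).toMonoidHom) := fun u =>
    IsPGroup.of_card (n := 3) ((h27 u).trans rfl)
  have hpJ : IsPGroup 3 ((core φ).subgroupOf C) :=
    (IsPGroup.of_card (n := 3) (h.card_core.trans rfl)).of_equiv
      (Subgroup.subgroupOfEquivOfLe hJC).symm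
  have hpJ' : IsPGroup 3 (J'.subgroupOf C) :=
    (hp g).of_equiv (Subgroup.subgroupOfEquivOfLe hJ'C).symm
  obtain ⟨Q1, hQ1⟩ := hpJ.exists_le_sylow
  obtain ⟨Q2, hQ2⟩ := hpJ'.exists_le_sylow
  obtain ⟨c, hc⟩ := MulAction.exists_smul_eq C Q2 Q1
  have hQp : IsPGroup 3 ((Q1 : Subgroup C).map C.subtype) := Q1.2.map _
  have e : (core φ).map (MulAut.conj ((c : G) * g)).toMonoidHom = core φ := by
    refine h.abelian_unique hQp ?_ ?_ ?_ (fun a ha b hb => core_comm ha hb) (h27 _) h.card_core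
    · rintro _ ⟨z, hz, rfl⟩
      have hz' : MulAut.conj g z ∈ J' := ⟨z, hz, rfl⟩
      refine ⟨c * ⟨_, hJ'C hz'⟩ * c⁻¹, ?_, by simp [mul_assoc]⟩
      rw [← hc, Sylow.coe_subgroup_smul]
      exact ⟨⟨_, hJ'C hz'⟩, hQ2 hz', rfl⟩
    · exact fun z hz => ⟨⟨z, hJC hz⟩, hQ1 hz, rfl⟩
    · rintro _ ⟨a, ha, rfl⟩ _ ⟨b, hb, rfl⟩
      rw [← map_mul, ← map_mul, core_comm ha hb]
  obtain ⟨k, hk⟩ := h.mem_range_of_fix (g := (c : G) * g) fun z hz => by
    have : MulAut.conj ((c : G) * g) z ∈ core φ := e ▸ ⟨z, hz, rfl⟩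
    simpa [mul_assoc] using this
  have hcc : (c : G) * φ y = φ y * c := Subgroup.mem_centralizer_singleton_iff.1 c.2
  have hkxy : φ k * φ x * (φ k)⁻¹ = φ y := by
    rw [hk]
    calc (c : G) * g * φ x * ((c : G) * g)⁻¹ = (c : G) * (g * φ x * g⁻¹) * (c : G)⁻¹ := by group
      _ = _ := by rw [hg, hcc, mul_inv_cancel_right]
  refine ⟨k, h.inj ?_, ?_⟩
  · rw [map_mul, map_mul, map_inv, hkxy]
  · calc (φ k)⁻¹ * g * φ x = (φ k)⁻¹ * (g * φ x * g⁻¹) * g := by group
      _ = (φ k)⁻¹ * (φ k * φ x * (φ k)⁻¹) * g := by rw [hg, hkxy]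
      _ = _ := by group

theorem cls_eq_of_isConj {x y : K} (hx : x ∈ tr) (hy : y ∈ tr) (hc : IsConj (φ x) (φ y)) :
    cls x = cls y := by
  obtain ⟨g, hg⟩ := isConj_iff.1 hc
  obtain ⟨k, hk, -⟩ := h.fusion hx hy hg
  exact isConj_iff_cls.1 (isConj_iff.2 ⟨k, hk⟩)

/-- The centralizer of the central element of the Sylow subgroup is that subgroup. -/
theorem centralizer_c : Subgroup.centralizer ({φ (rep 5)} : Set G) = pp φ := by
  haveI : Fact (Nat.Prime 3) := ⟨Nat.prime_three⟩
  set C := Subgroup.centralizer ({φ (rep 5)} : Set G)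
  have hPC : pp φ ≤ C := by
    rintro _ ⟨x, hx, rfl⟩
    rw [Subgroup.mem_centralizer_singleton_iff, ← map_mul, ← map_mul,
      Subgroup.mem_centralizer_singleton_iff.1 hx]
  obtain ⟨S, hS⟩ := h.sylow_exists
  have hSC : (S : Subgroup G) ≤ C := hS ▸ hPC
  let SC : Sylow 3 C := S.subtype hSC
  have hSCe : (SC : Subgroup C) = (pp φ).subgroupOf C := by
    rw [Sylow.coe_subtype, hS]
  have hcomp : Cfsg.HasNormalPComplement 3 C := by
    refine CfsgLib.ZJ.ZKind.hasNormalPComplement (by norm_num)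
      (CfsgLib.ZJ.zkind_centerThompsonA (by norm_num)) C SC ?_
    have hmap : (SC : Subgroup C).map C.subtype = pp φ := by
      rw [hSCe, Subgroup.map_subgroupOf_eq_of_le hPC]
    have hJ : Cfsg.thompsonSubgroupAOf (pp φ) = core φ := by
      rw [CfsgLib.ZJ.thompsonSubgroupAOf_eq_fam]
      refine le_antisymm (sSup_le ?_) (le_sSup ⟨core_comm', core_le_pp,
        fun B hB hBP => (h.abelian_pp hBP fun x hx y hy =>
          setLike_mul_comm (S := Subgroup G) hx hy).1.trans h.card_core.ge⟩)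
      rintro A ⟨hA, hAP, hmax⟩
      have h27 := h.abelian_pp hAP fun x hx y hy => setLike_mul_comm (S := Subgroup G) hx hy
      refine (h27.2 (le_antisymm h27.1 ?_)).le
      rw [← h.card_core]
      exact hmax _ core_comm' core_le_pp
    have hZ : (Cfsg.centerThompsonAOf (SC : Subgroup C)).map C.subtype = core φ := by
      rw [← (CfsgLib.ZJ.zkind_centerThompsonA.{u} (p := 3) (by norm_num)).map C G C.subtype _
        C.subtype_injective, hmap]
      show Cfsg.thompsonSubgroupAOf (pp φ) ⊓ _ = _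
      rw [hJ]
      exact inf_eq_left.2 fun x hx => Subgroup.mem_centralizer_iff.2 fun y hy => core_comm hy hx
    set N := Subgroup.normalizer ((Cfsg.centerThompsonAOf (SC : Subgroup C) : Subgroup C) : Set C)
    have hN : IsPGroup 3 N := by
      refine h.isPGroup_pp.of_injective
        ((C.subtype.comp N.subtype).codRestrict (pp φ) fun n => ?_) fun a b e => ?_
      · have hr : ((n : C) : G) ∈ φ.range := h.mem_range_of_fix fun x hx => by
          rw [← hZ] at hx ⊢
          obtain ⟨w, hw, rfl⟩ := hx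
          exact ⟨(n : C) * w * (n : C)⁻¹, (Subgroup.mem_normalizer_iff.1 n.2 w).1 hw, rfl⟩
        obtain ⟨k, hk⟩ := hr
        refine ⟨k, Subgroup.mem_centralizer_singleton_iff.2 (h.inj ?_), hk⟩
        rw [map_mul, map_mul, hk]
        exact Subgroup.mem_centralizer_singleton_iff.1 (n : C).2
      · exact Subtype.ext (Subtype.ext (congrArg Subtype.val e :))
    obtain ⟨R⟩ := (inferInstance : Nonempty (Sylow 3 N))
    refine ⟨R, ⊥, inferInstance, ?_⟩
    rw [show (R : Subgroup N) = ⊤ from (hN.to_subgroup ⊤ |> R.3 <| le_top).symm]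
    exact Subgroup.isComplement'_bot_top
  obtain ⟨h3, h1⟩ := orderOf_rep 5 (by decide)
  have hp := isPGroup_of_complement hcomp (h.cores (rep 5) (orderOf_eq_three h3 h1))
  rw [← hS]
  exact S.3 hp hSC

end Setup

end CfsgLib.ThreeLocalNine
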