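import Cfsg.Agent.ThreeLocalNine.Tabs
import Cfsg.Agent.AltNine.Monomial

/-!
# Tables connecting the configurations with the model
-/

set_option autoImplicit false
set_option maxRecDepth 100000
set_option linter.style.longLine false

namespace CfsgLib.ThreeLocalNine

open CfsgLib.AltNine

/-- The marked element of a class in case I. -/
def labOne : Fin 14 → Option (Fin 10) :=
  ![none, none, none, some 9, some 7, some 6, some 6, none, some 8, some 2, some 0, some 1, some 5,
    some 5]

/-- The marked element of a class in case II. -/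
def labTwo : Fin 14 → Option (Fin 11) :=
  ![none, none, none, some 9, some 7, some 6, some 10, none, some 8, some 2, some 0, some 1,
    some 5, some 5]

/-- The marked element of a class in case III. -/
def labThree : Fin 14 → Option (Fin 9) :=
  ![none, none, none, some 0, some 1, some 2, some 2, none, some 3, some 4, some 5, some 6, some 7,
    some 8]

/-- Class sizes inside the centralizer of the central element. -/
def wP : Fin 14 → ℕ := ![1, 0, 0, 6, 12, 8, 18, 0, 0, 0, 18, 18, 0, 0]

/-- An entry of a row of coefficients. -/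
def coAt (row : List ℤ) (m : ℕ) : ℤ := row.getD m 0

/-- The coefficient of an induced character. -/
def cTh (row : List ℤ) (j : Fin 15) : ℤ :=
  ((List.range 11).map fun m => coAt row m * (combTab.getD m []).getD j 0).sum

/-- The value of the combination of induced characters. -/
def hVal (row : List ℤ) (c : Fin 14) : Z12 :=
  Z12.sumL ((List.finRange 15).map fun j => Z12.smul (cTh row j) (thetaVal j (rep c)))

/-- The weighted sum of values over the classes with a given mark. -/
def liftZ {n : ℕ} (lab : Fin 14 → Option (Fin n)) (cn : Fin n → ℕ) (V : Fin 14 → Z12) (k : Fin n) :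
    Z12 :=
  Z12.sumL ((List.finRange 14).map fun c =>
    if lab c = some k then Z12.smul (cn k / cen c : ℕ) (V c) else Z12.ofInt 0)

/-- The values of the four parts. -/
def pTab : Fin 4 → List (ℤ × ℤ) :=
  ![[(0, 0), (0, 0), (0, 0), (-12, 0), (-12, 0), (0, 0), (0, 0), (0, 0), (0, 0), (-432, 0)],
    [(0, 0), (0, 0), (0, 0), (3, 1), (3, -1), (0, 0), (0, 0), (0, 0), (0, 0), (-432, 0)],
    [(0, 0), (0, 0), (0, 0), (3, -1), (3, 1), (0, 0), (0, 0), (0, 0), (0, 0), (-432, 0)],
    [(0, 0), (0, 0), (0, 0), (0, 0), (0, 0), (-6, 0), (0, 0), (0, 0), (-30, 0), (-270, 0)]]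

/-- A value of a part. -/
def pAt {n : ℕ} (m : Fin 4) (k : Fin n) : ℤ × ℤ := (pTab m).getD k (0, 0)

/-- The conditions on the marks. -/
def LabOk {n : ℕ} (lab : Fin 14 → Option (Fin n)) (cn : Fin n → ℕ) (w : Fin n → ℤ) : Prop :=
  (∀ c, ∀ k, lab c = some k → cn k / cen c * cen c = cn k) ∧ lab 0 = none ∧
    (∀ c, c ≠ 0 → lab c = none → wP c = 0) ∧
    ∀ k, ∑ c, (if lab c = some k then (wP c : ℤ) else 0) = w k

theorem labOk : LabOk labOne cnOne wOne ∧ LabOk labTwo cnTwo wTwo ∧
    LabOk labThree cnThree wThree := by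
  refine ⟨?_, ?_, ?_⟩ <;> unfold LabOk <;> decide +kernel

/-- A row of a table decomposes into the parts. -/
def RowOk {n : ℕ} (lab : Fin 14 → Option (Fin n)) (cn : Fin n → ℕ) (row : List ℤ)
    (vals : List (ℤ × ℤ)) : Prop :=
  (∀ c, lab c = none → hVal row c = Z12.ofInt 0) ∧
  ∀ k : Fin n, liftZ lab cn (hVal row) k = Z12.ofInt (liftZ lab cn (hVal row) k).a ∧
    (vals.getD k (0, 0)).1 = 2 * (liftZ lab cn (hVal row) k).a +
      ∑ m : Fin 4, coAt row (11 + m) * (pAt m k).1 ∧
    (vals.getD k (0, 0)).2 = ∑ m : Fin 4, coAt row (11 + m) * (pAt m k).2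

theorem rows_one : ∀ i : Fin 10, RowOk labOne cnOne (coefOne.getD i []) (phiOne.getD i []) := by
  unfold RowOk
  decide +kernel

theorem rows_two : ∀ i : Fin 11, RowOk labTwo cnTwo (coefTwo.getD i []) (phiTwo.getD i []) := by
  unfold RowOk
  decide +kernel

theorem rows_three : ∀ b : Fin 9, (∀ c, labThree c = none → alphaVal b c = Z12.ofInt 0) ∧
    ∀ k : Fin 9, Z12.smul 2 (liftZ labThree cnThree (alphaVal b) k) =
      ⟨(tblThree.ab b k).1, 2 * (tblThree.ab b k).2, 0, -(tblThree.ab b k).2⟩ := by
  decide +kernel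

theorem core_count_table : ∀ c : Fin 14,
    ((Finset.univ : Finset K).filter fun x => x * rep 5 = rep 5 * x ∧ cls x = c).card = wP c := by
  decide +kernel

end CfsgLib.ThreeLocalNine
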