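import Cfsg.Agent.ThreeLocalNine.Labels
import Cfsg.Agent.AltNine.Monomial
import Cfsg.Agent.Char.Values
import Mathlib.RingTheory.RootsOfUnity.Complex
import Mathlib.GroupTheory.SpecificGroups.Dihedral

/-!
# Integral inner products with generalized characters of small subgroups

A cyclic group of order fifteen and a product of a cyclic group of order three with a dihedral
group of order eight give the parts of the tables not visible in the normalizer.
-/

set_option autoImplicit false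
set_option maxRecDepth 100000
set_option linter.style.haveILetI false

namespace CfsgLib.ThreeLocalNine

open scoped ComplexConjugate
open CfsgLib.AltNine Equiv

universe u

/-- A cube root of unity. -/
noncomputable def om : ℂ := Complex.exp (2 * Real.pi * Complex.I / (3 : ℕ))

/-- A fifth root of unity. -/
noncomputable def ze : ℂ := Complex.exp (2 * Real.pi * Complex.I / (5 : ℕ))

/-- A square root of `-15`. -/
noncomputable def rt : ℂ := (om - om ^ 2) * (ze + ze ^ 4 - ze ^ 2 - ze ^ 3)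

theorem om_pow : om ^ 3 = 1 := (Complex.isPrimitiveRoot_exp 3 (by norm_num)).pow_eq_one

theorem ze_pow : ze ^ 5 = 1 := (Complex.isPrimitiveRoot_exp 5 (by norm_num)).pow_eq_one

theorem om_sum : 1 + om + om ^ 2 = 0 := by
  have h := (Complex.isPrimitiveRoot_exp 3 (by norm_num)).geom_sum_eq_zero (by norm_num)
  simpa [Finset.sum_range_succ, om] using h

theorem ze_sum : 1 + ze + ze ^ 2 + ze ^ 3 + ze ^ 4 = 0 := by
  have h := (Complex.isPrimitiveRoot_exp 5 (by norm_num)).geom_sum_eq_zero (by norm_num)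
  simpa [Finset.sum_range_succ, ze] using h

theorem conj_root {x : ℂ} {n : ℕ} (hn : n ≠ 0) (h : x ^ n = 1) : conj x = x ^ (n - 1) := by
  have hx : ‖x‖ = 1 := Complex.norm_eq_one_of_pow_eq_one h hn
  rw [← Complex.inv_eq_conj hx]
  exact inv_eq_of_mul_eq_one_left (by rw [← pow_succ, Nat.sub_add_cancel (Nat.one_le_iff_ne_zero.2 hn), h])

theorem conj_om : conj om = om ^ 2 := conj_root (by norm_num) om_pow

theorem conj_ze : conj ze = ze ^ 4 := conj_root (by norm_num) ze_pow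

theorem rt_sq : rt ^ 2 = ((-15 : ℤ) : ℂ) := by
  have h1 : (om - om ^ 2) ^ 2 = -3 := by
    linear_combination (om - 2) * om_pow + om_sum
  have h2 : (ze + ze ^ 4 - ze ^ 2 - ze ^ 3) ^ 2 = 5 := by
    linear_combination (ze ^ 3 - 2 * ze ^ 2 - ze + 4) * ze_pow - 1 * ze_sum
  rw [rt, mul_pow, h1, h2]
  norm_num

theorem conj_rt : conj rt = ((-1 : ℤ) : ℂ) * rt := by
  simp only [rt, map_mul, map_sub, map_add, map_pow, conj_om, conj_ze, Int.cast_neg, Int.cast_one]
  have e1 : (om ^ 2) ^ 2 = om := by linear_combination om * om_pow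
  have z2 : (ze ^ 4) ^ 2 = ze ^ 3 := by linear_combination ze ^ 3 * ze_pow
  have z3 : (ze ^ 4) ^ 3 = ze ^ 2 := by linear_combination (ze ^ 7 + ze ^ 2) * ze_pow
  have z4 : (ze ^ 4) ^ 4 = ze := by linear_combination (ze ^ 11 + ze ^ 6 + ze) * ze_pow
  rw [e1, z2, z3, z4]
  ring

/-- The sum over the classes of order fifteen. -/
noncomputable def pairA (j : Fin 3) : ℂ :=
  (om ^ 2 - 1) * (ze ^ (4 * j.1 % 5) + ze ^ (j.1 % 5)) +
    (om - 1) * (ze ^ (3 * j.1 % 5) + ze ^ (2 * j.1 % 5))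

/-- The sum over the other class. -/
noncomputable def pairB (j : Fin 3) : ℂ :=
  (om ^ 2 - 1) * (ze ^ (3 * j.1 % 5) + ze ^ (2 * j.1 % 5)) +
    (om - 1) * (ze ^ (4 * j.1 % 5) + ze ^ (j.1 % 5))

theorem pair_values : pairA 0 = -6 ∧ pairB 0 = -6 ∧ pairA 1 = (3 - rt) / 2 ∧
    pairB 1 = (3 + rt) / 2 ∧ pairA 2 = (3 + rt) / 2 ∧ pairB 2 = (3 - rt) / 2 := by
  refine ⟨?_, ?_, ?_, ?_, ?_, ?_⟩ <;> norm_num [pairA, pairB, rt]
  · linear_combination 2 * om_sum
  · linear_combination 2 * om_sum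
  · linear_combination ((om + om ^ 2 - 2) / 2) * ze_sum - (1 / 2) * om_sum
  · linear_combination ((om + om ^ 2 - 2) / 2) * ze_sum - (1 / 2) * om_sum
  · linear_combination ((om + om ^ 2 - 2) / 2) * ze_sum - (1 / 2) * om_sum
  · linear_combination ((om + om ^ 2 - 2) / 2) * ze_sum - (1 / 2) * om_sum

/-- The cyclic group of order fifteen. -/
abbrev Q15 := Multiplicative (ZMod 3) × Multiplicative (ZMod 5)

/-- Its image in the model. -/
def eta15 : Q15 →* CMod where
  toFun q := (q.1, f5 ^ (Multiplicative.toAdd q.2).val)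
  map_one' := by decide +kernel
  map_mul' := by decide +kernel

/-- The product with the dihedral group. -/
abbrev Q24 := Multiplicative (ZMod 3) × DihedralGroup 4

/-- An involution inverting the element of order four. -/
def tW : A6 := ⟨swap 1 4 * swap 2 5, Perm.mem_alternatingGroup.2 (by decide)⟩

/-- The image of the dihedral group. -/
def dih : DihedralGroup 4 → A6
  | DihedralGroup.r i => W ^ i.val
  | DihedralGroup.sr i => tW * W ^ i.val

/-- The image of the product. -/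
def eta24 : Q24 →* CMod where
  toFun q := (q.1, dih q.2)
  map_one' := by decide +kernel
  map_mul' := by decide +kernel

/-- A linear character of the group of order fifteen. -/
noncomputable def lin15 (e j : ℕ) : Q15 →* ℂˣ where
  toFun q := Units.mk0 (om ^ (e * (Multiplicative.toAdd q.1).val) *
      ze ^ (j * (Multiplicative.toAdd q.2).val))
    (mul_ne_zero (pow_ne_zero _ fun h => by simpa [h] using om_pow)
      (pow_ne_zero _ fun h => by simpa [h] using ze_pow))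
  map_one' := Units.ext (by simp)
  map_mul' a b := Units.ext (by
    simp only [Units.val_mul, Units.val_mk0, Prod.fst_mul, Prod.snd_mul, toAdd_mul, ZMod.val_add]
    rw [pow_eq_pow_mod _ om_pow, pow_eq_pow_mod _ ze_pow, Nat.mul_mod, Nat.mod_mod, ← Nat.mul_mod,
      Nat.mul_mod j, Nat.mod_mod, ← Nat.mul_mod, ← pow_eq_pow_mod _ om_pow,
      ← pow_eq_pow_mod _ ze_pow, mul_add, mul_add, pow_add, pow_add]
    ring)

/-- A linear character of the product. -/
noncomputable def lin24 (e : ℕ) : Q24 →* ℂˣ :=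
  (lin15 e 0).comp ((MonoidHom.inl _ _).comp (MonoidHom.fst _ _))

/-- The targets of the elements of order fifteen. -/
def tgt15 (a : Fin 3) (b : Fin 5) : CMod :=
  if b = 0 then mA else if (a = 1) = (b = 1 ∨ b = 4) then mP else mQ

/-- The targets of the elements of the product. -/
def tgt24 : DihedralGroup 4 → CMod
  | DihedralGroup.r i => if i = 0 then mA else if i = 2 then m8 else m12
  | DihedralGroup.sr _ => m8

theorem conj_table15 : ∀ b : Fin 5,
    (∃ σ : Perm (Fin 6), Perm.sign σ = 1 ∧ σ * ((f5 ^ b.1 : A6) : Perm (Fin 6)) * σ⁻¹ =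
      ((tgt15 1 b).2 : Perm (Fin 6))) ∧
    (∃ σ : Perm (Fin 6), Perm.sign σ = 1 ∧
      σ * (swap 1 2 * ((f5 ^ b.1 : A6) : Perm (Fin 6)) * (swap 1 2)⁻¹) * σ⁻¹ =
      ((tgt15 2 b).2 : Perm (Fin 6))) := by decide +kernel

theorem conj_table24 : ∀ d : DihedralGroup 4,
    (∃ σ : Perm (Fin 6), Perm.sign σ = 1 ∧ σ * (dih d : Perm (Fin 6)) * σ⁻¹ =
      ((tgt24 d).2 : Perm (Fin 6))) ∧
    (∃ σ : Perm (Fin 6), Perm.sign σ = 1 ∧
      σ * (swap 1 2 * (dih d : Perm (Fin 6)) * (swap 1 2)⁻¹) * σ⁻¹ =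
      ((tgt24 d).2 : Perm (Fin 6))) := by decide +kernel

theorem tgt_fst : (∀ a b, (tgt15 a b).1 = Multiplicative.ofAdd 1) ∧
    ∀ d, (tgt24 d).1 = Multiplicative.ofAdd 1 := by decide +kernel

theorem isConj_cmod {m t : CMod} (h1 : t.1 = m.1) {σ : Perm (Fin 6)} (hs : Perm.sign σ = 1)
    (h2 : σ * (m.2 : Perm (Fin 6)) * σ⁻¹ = (t.2 : Perm (Fin 6))) : IsConj m t :=
  isConj_iff.2 ⟨((1 : Multiplicative (ZMod 3)), (⟨σ, Perm.mem_alternatingGroup.2 hs⟩ : A6)),
    Prod.ext (by simp [h1]) (Subtype.ext (by simpa using h2))⟩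

variable {G : Type u} [Group G] [Fintype G] {φ : K →* G} {ψ : CMod →* G}

namespace Glue

variable (hg : Glue φ ψ)
include hg

theorem isConj_of_tables {x : A6} {t1 t2 : CMod} (ht1 : t1.1 = Multiplicative.ofAdd 1)
    (ht2 : t2.1 = Multiplicative.ofAdd 1)
    (h1 : ∃ σ : Perm (Fin 6), Perm.sign σ = 1 ∧ σ * (x : Perm (Fin 6)) * σ⁻¹ =
      (t1.2 : Perm (Fin 6)))
    (h2 : ∃ σ : Perm (Fin 6), Perm.sign σ = 1 ∧
      σ * (swap 1 2 * (x : Perm (Fin 6)) * (swap 1 2)⁻¹) * σ⁻¹ = (t2.2 : Perm (Fin 6))) :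
    IsConj (ψ (Multiplicative.ofAdd 1, x)) (ψ t1) ∧
      IsConj (ψ (Multiplicative.ofAdd 2, x)) (ψ t2) := by
  obtain ⟨σ, hs, e⟩ := h1
  obtain ⟨τ, ht, e'⟩ := h2
  refine ⟨ψ.map_isConj (isConj_cmod ht1 hs e), ?_⟩
  have h3 : IsConj (ψ (Multiplicative.ofAdd 2, x)) (ψ (flipMod (Multiplicative.ofAdd 2, x))) :=
    isConj_iff.2 ⟨φ kInv, (hg.flip _).symm⟩
  refine h3.trans (ψ.map_isConj (isConj_cmod ?_ ht ?_))
  · rw [ht2]; rfl
  · simpa [flipMod, conj6_val] using e'

theorem isConj15 (b : Fin 5) :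
    IsConj (ψ (Multiplicative.ofAdd 1, f5 ^ b.1)) (ψ (tgt15 1 b)) ∧
      IsConj (ψ (Multiplicative.ofAdd 2, f5 ^ b.1)) (ψ (tgt15 2 b)) :=
  hg.isConj_of_tables (tgt_fst.1 1 b) (tgt_fst.1 2 b) (conj_table15 b).1 (conj_table15 b).2

theorem isConj24 (d : DihedralGroup 4) :
    IsConj (ψ (Multiplicative.ofAdd 1, dih d)) (ψ (tgt24 d)) ∧
      IsConj (ψ (Multiplicative.ofAdd 2, dih d)) (ψ (tgt24 d)) :=
  hg.isConj_of_tables (tgt_fst.2 d) (tgt_fst.2 d) (conj_table24 d).1 (conj_table24 d).2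

theorem exists_part15 {χ : G → ℂ} (hχ : Cfsg.IsIrrCharacter G χ) (j : Fin 3) :
    ∃ n : ℤ, (n : ℂ) = χ (φ (rep 3)) * (-3) / 15 +
      χ (ψ mP) * pairA j / 15 + χ (ψ mQ) * pairB j / 15 := by
  classical
  set f : Q15 → ℂ := (fun q => (lin15 1 j.1 q : ℂ)) - fun q => (lin15 0 j.1 q : ℂ)
  have hf : Cfsg.IsGeneralizedCharacter Q15 f := CfsgLib.Char.IsGeneralized.sub
    (CfsgLib.Char.IsCharacter.isGeneralized (CfsgLib.Char.isCharacter_ofHom _))
    (CfsgLib.Char.IsCharacter.isGeneralized (CfsgLib.Char.isCharacter_ofHom _))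
  obtain ⟨n, hn⟩ := CfsgLib.Char.IsGeneralized.exists_classInner_eq_int
    (CfsgLib.Char.IsGeneralized.comp (CfsgLib.Char.IsIrrCharacter.isGeneralized hχ) (ψ.comp eta15))
    hf
  refine ⟨n, hn.symm.trans ?_⟩
  have hcl := CfsgLib.Char.IsIrrCharacter.isClassFunction hχ
  have ev : ∀ a : Fin 3, a ≠ 0 → ∀ b : Fin 5,
      χ (ψ (eta15 (Multiplicative.ofAdd (a.1 : ZMod 3), Multiplicative.ofAdd (b.1 : ZMod 5)))) =
        χ (ψ (tgt15 a b)) := by
    intro a ha b
    have e : eta15 (Multiplicative.ofAdd (a.1 : ZMod 3), Multiplicative.ofAdd (b.1 : ZMod 5)) =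
        (Multiplicative.ofAdd (a.1 : ZMod 3), f5 ^ b.1) := by
      simp [eta15, ZMod.val_natCast, Nat.mod_eq_of_lt b.2]
    rw [e]
    obtain ⟨h1, h2⟩ := hg.isConj15 b
    fin_cases a
    · exact absurd rfl ha
    · exact CfsgLib.Char.IsClassFunction.apply_eq_of_isConj hcl h1
    · exact CfsgLib.Char.IsClassFunction.apply_eq_of_isConj hcl h2
  have hval : ∀ a : Fin 3, ∀ b : Fin 5,
      conj (f (Multiplicative.ofAdd (a.1 : ZMod 3), Multiplicative.ofAdd (b.1 : ZMod 5))) =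
        ((om ^ 2) ^ a.1 - 1) * ze ^ (4 * j.1 * b.1 % 5) := by
    intro a b
    simp only [f, Pi.sub_apply, lin15, MonoidHom.coe_mk, OneHom.coe_mk, Units.val_mk0, toAdd_ofAdd,
      ZMod.val_natCast, Nat.mod_eq_of_lt a.2, Nat.mod_eq_of_lt b.2, map_sub, map_mul, map_pow,
      conj_om, conj_ze, one_mul, zero_mul, pow_zero, ← pow_mul]
    rw [← pow_eq_pow_mod _ ze_pow, mul_assoc]
    ring
  have hsum : ∀ F : Q15 → ℂ, ∑ q, F q = ∑ a : Fin 3, ∑ b : Fin 5,
      F (Multiplicative.ofAdd (a.1 : ZMod 3), Multiplicative.ofAdd (b.1 : ZMod 5)) := by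
    intro F
    rw [← Fintype.sum_prod_type']
    refine (Fintype.sum_bijective _ ?_ _ _ fun _ => rfl).symm
    rw [Fintype.bijective_iff_injective_and_card]
    exact ⟨by decide +kernel, by decide +kernel⟩
  have h15 : Nat.card Q15 = 15 := by simp
  rw [Cfsg.classInner, h15, hsum]
  simp only [MonoidHom.coe_comp, Function.comp_apply, hval]
  have hterm : ∀ a : Fin 3, ∀ b : Fin 5,
      χ (ψ (eta15 (Multiplicative.ofAdd (a.1 : ZMod 3), Multiplicative.ofAdd (b.1 : ZMod 5)))) *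
          (((om ^ 2) ^ a.1 - 1) * ze ^ (4 * j.1 * b.1 % 5)) =
        χ (ψ (tgt15 a b)) * (((om ^ 2) ^ a.1 - 1) * ze ^ (4 * j.1 * b.1 % 5)) := by
    intro a b
    by_cases ha : a = 0
    · subst ha; simp
    · rw [ev a ha b]
  rw [Finset.sum_congr rfl fun a _ => Finset.sum_congr rfl fun b _ => hterm a b, ← hg.psi_mA]
  have h4 : (om ^ 2) ^ 2 = om := by linear_combination om * om_pow
  simp only [Fin.sum_univ_three, Fin.sum_univ_five, tgt15, pairA, pairB, Fin.isValue, Fin.reduceEq,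
    Fin.val_zero, Fin.val_one, Fin.val_two, if_true, if_false, false_or, or_false, eq_iff_iff,
    iff_true, iff_false, not_true, not_false_iff, pow_zero, pow_one, sub_self, zero_mul, mul_zero,
    h4]
  fin_cases j <;> norm_num <;> linear_combination (χ (ψ mA) / 15) * om_sum

theorem exists_part24 {χ : G → ℂ} (hχ : Cfsg.IsIrrCharacter G χ) :
    ∃ n : ℤ, (n : ℂ) = -χ (φ (rep 3)) / 8 - 5 * χ (φ (rep 8)) / 8 - χ (φ (rep 12)) / 4 := by
  classical
  set f : Q24 → ℂ := (fun q => (lin24 1 q : ℂ)) - fun q => (lin24 0 q : ℂ)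
  have hf : Cfsg.IsGeneralizedCharacter Q24 f := CfsgLib.Char.IsGeneralized.sub
    (CfsgLib.Char.IsCharacter.isGeneralized (CfsgLib.Char.isCharacter_ofHom _))
    (CfsgLib.Char.IsCharacter.isGeneralized (CfsgLib.Char.isCharacter_ofHom _))
  obtain ⟨n, hn⟩ := CfsgLib.Char.IsGeneralized.exists_classInner_eq_int
    (CfsgLib.Char.IsGeneralized.comp (CfsgLib.Char.IsIrrCharacter.isGeneralized hχ) (ψ.comp eta24))
    hf
  refine ⟨n, hn.symm.trans ?_⟩
  have hcl := CfsgLib.Char.IsIrrCharacter.isClassFunction hχ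
  have hval : ∀ a : Fin 3, ∀ d, conj (f (Multiplicative.ofAdd (a.1 : ZMod 3), d)) =
      (om ^ 2) ^ a.1 - 1 := by
    intro a d
    simp [f, lin24, lin15, ZMod.val_natCast, Nat.mod_eq_of_lt a.2, conj_om, ← pow_mul]
  have ev : ∀ a : Fin 3, a ≠ 0 → ∀ d,
      χ (ψ (eta24 (Multiplicative.ofAdd (a.1 : ZMod 3), d))) = χ (ψ (tgt24 d)) := by
    intro a ha d
    obtain ⟨h1, h2⟩ := hg.isConj24 d
    fin_cases a
    · exact absurd rfl ha
    · exact CfsgLib.Char.IsClassFunction.apply_eq_of_isConj hcl h1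
    · exact CfsgLib.Char.IsClassFunction.apply_eq_of_isConj hcl h2
  have hsum : ∀ F : Q24 → ℂ, ∑ q, F q = ∑ a : Fin 3, ∑ d : DihedralGroup 4,
      F (Multiplicative.ofAdd (a.1 : ZMod 3), d) := by
    intro F
    rw [← Fintype.sum_prod_type']
    refine (Fintype.sum_bijective _ ?_ _ _ fun _ => rfl).symm
    rw [Fintype.bijective_iff_injective_and_card]
    exact ⟨by decide +kernel, by decide +kernel⟩
  have h24 : Nat.card Q24 = 24 := by simp [DihedralGroup.card]
  have hD : ∀ F : DihedralGroup 4 → ℂ, ∑ d, F d =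
      ∑ i : Fin 4, (F (DihedralGroup.r (i.1 : ZMod 4)) + F (DihedralGroup.sr (i.1 : ZMod 4))) := by
    intro F
    have : ∑ d, F d = ∑ p : Fin 4 × Bool,
        F (if p.2 then DihedralGroup.r (p.1.1 : ZMod 4) else DihedralGroup.sr (p.1.1 : ZMod 4)) := by
      refine (Fintype.sum_bijective (fun p : Fin 4 × Bool => if p.2 = true then
        DihedralGroup.r (p.1.1 : ZMod 4) else DihedralGroup.sr (p.1.1 : ZMod 4)) ?_ _ _
        fun _ => rfl).symm
      rw [Fintype.bijective_iff_injective_and_card]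
      exact ⟨by decide +kernel, by decide +kernel⟩
    rw [this, Fintype.sum_prod_type]
    simp
  obtain ⟨e8, e12, -⟩ := hg.psi_models
  rw [Cfsg.classInner, h24, hsum]
  simp only [MonoidHom.coe_comp, Function.comp_apply, hval]
  have hterm : ∀ a : Fin 3, ∀ d,
      χ (ψ (eta24 (Multiplicative.ofAdd (a.1 : ZMod 3), d))) * ((om ^ 2) ^ a.1 - 1) =
        χ (ψ (tgt24 d)) * ((om ^ 2) ^ a.1 - 1) := by
    intro a d
    by_cases ha : a = 0
    · subst ha; simp
    · rw [ev a ha d]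
  have h4 : (om ^ 2) ^ 2 = om := by linear_combination om * om_pow
  rw [Finset.sum_congr rfl fun a _ => Finset.sum_congr rfl fun d _ => hterm a d, Fin.sum_univ_three,
    hD, hD, hD, ← hg.psi_mA, ← e8, ← e12]
  simp only [Fin.sum_univ_four, tgt24, Fin.val_zero, Fin.val_one, Fin.val_two, pow_zero, pow_one,
    sub_self, mul_zero, h4]
  have i0 : ((((0 : Fin 4) : ℕ) : ZMod 4) = 0) := rfl
  simp [show (1 : ZMod 4) ≠ 0 by decide, show (1 : ZMod 4) ≠ 2 by decide,
    show (2 : ZMod 4) ≠ 0 by decide, show (3 : ZMod 4) ≠ 0 by decide,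
    show (3 : ZMod 4) ≠ 2 by decide]
  linear_combination ((χ (ψ mA) + 5 * χ (ψ m8) + 2 * χ (ψ m12)) / 24) * om_sum

end Glue

end CfsgLib.ThreeLocalNine
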