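import Cfsg.Agent.ThreeLocalNine.Searched
import Cfsg.Agent.ThreeLocalNine.Arith

/-!
# The surviving systems of columns

Four of the five shapes are contradictory; the remaining one determines the order and a degree.
-/

set_option autoImplicit false
set_option maxRecDepth 100000
set_option maxHeartbeats 1000000

namespace CfsgLib.ThreeLocalNine

open CfsgLib.AltNine (dot)

/-- A combination of the monomials at a column. -/
def fval (C : Cfg) (f : List ℤ) (col : List ℤ) : ℤ :=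
  dot f ((List.finRange 7).map fun k => C.mon k col)

theorem Cfg.Reduced.comb {C : Cfg} {S : List (List ℤ)} {D : ℕ → ℤ} {g : ℤ} (h : C.Reduced S D g)
    (f vals : List ℤ) (hf : f.length = 7) (o R : ℤ) (hv : S.map (fval C f) = vals) (ho : f.sum = o)
    (hR : dot f ((List.finRange 7).map fun k : Fin 7 => C.rhs.getD k 0) = R) :
    ((List.range S.length).map fun j => (vals.getD j 0 : ℚ) / D j).sum + o = (R : ℚ) / g := by
  obtain ⟨a, b, c, d, e, i, l, rfl⟩ : ∃ a b c d e i l, f = [a, b, c, d, e, i, l] := by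
    match f, hf with
    | [a, b, c, d, e, i, l], _ => exact ⟨a, b, c, d, e, i, l, rfl⟩
  subst hv ho hR
  have hs : (List.range S.length).map (fun j =>
      (((S.map (fval C [a, b, c, d, e, i, l])).getD j 0 : ℤ) : ℚ) / D j) =
      (List.range S.length).map (fun j => (a : ℚ) * ((C.mon 0 (S.getD j []) : ℚ) / D j)
        + b * ((C.mon 1 (S.getD j []) : ℚ) / D j) + c * ((C.mon 2 (S.getD j []) : ℚ) / D j)
        + d * ((C.mon 3 (S.getD j []) : ℚ) / D j) + e * ((C.mon 4 (S.getD j []) : ℚ) / D j)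
        + i * ((C.mon 5 (S.getD j []) : ℚ) / D j) + l * ((C.mon 6 (S.getD j []) : ℚ) / D j)) := by
    refine List.map_congr_left fun j hj => ?_
    have hj' : j < (S.map (fval C [a, b, c, d, e, i, l])).length := by
      simpa using List.mem_range.1 hj
    rw [getD_lt _ hj', List.getElem_map, ← getD_lt [] (List.mem_range.1 hj)]
    simp only [fval, List.finRange_succ, List.finRange_zero, List.map_cons, List.map_nil, dot,
      Fin.reduceSucc, Int.cast_add, Int.cast_mul]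
    push_cast
    ring
  rw [hs]
  simp only [List.sum_map_add, List.sum_map_mul_left]
  have k0 := h.cubic 0
  have k1 := h.cubic 1
  have k2 := h.cubic 2
  have k3 := h.cubic 3
  have k4 := h.cubic 4
  have k5 := h.cubic 5
  have k6 := h.cubic 6
  simp only [List.finRange_succ, List.finRange_zero, List.map_cons, List.map_nil, dot,
    Fin.reduceSucc, List.sum_cons, List.sum_nil]
  push_cast
  linear_combination (a : ℚ) * k0 + (b : ℚ) * k1 + (c : ℚ) * k2 + (d : ℚ) * k3 + (e : ℚ) * k4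
    + (i : ℚ) * k5 + (l : ℚ) * k6

/-- The coefficients of one of the linear equations. -/
theorem Cfg.Reduced.row {C : Cfg} {S : List (List ℤ)} {D : ℕ → ℤ} {g : ℤ} (h : C.Reduced S D g)
    (i : ℕ) (hi : i < C.dim) (vals : List ℤ) (t : ℤ) (hv : S.map (C.entry i) = vals)
    (ht : C.trivAt i = t) :
    ((List.range S.length).map fun j => D j * vals.getD j 0).sum + t = 0 := by
  subst hv ht
  rw [← h.lin i hi]
  refine congrArg (fun l => List.sum l + C.trivAt i) (List.map_congr_left fun j hj => ?_)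
  have hj' : j < (S.map (C.entry i)).length := by simpa using List.mem_range.1 hj
  rw [getD_lt _ hj', List.getElem_map, ← getD_lt [] (List.mem_range.1 hj)]

/-- The only possible system in the first case. -/
def shapeGood : List (List ℤ) := cfgOne.shapes.getD 0 []

theorem shapeGood_solve {D : ℕ → ℤ} {g : ℤ} (h : cfgOne.Reduced shapeGood D g) :
    g = 181440 ∧ D 7 = -8 := by
  have hsq := h.sq
  have r4 := h.res 4 (by decide)
  have r5 := h.res 5 (by decide)
  have n2 := h.nz 2 (by decide)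
  have n4 := h.nz 4 (by decide)
  have n5 := h.nz 5 (by decide)
  have n7 := h.nz 7 (by decide)
  have n11 := h.nz 11 (by decide)
  have l0 := h.row 0 (by decide) [0, 0, 0, 0, 0, 0, 0, 0, 0, 0, 0, 0, 0, 0, -1, 1] 0 (by decide) (by decide)
  have l1 := h.row 1 (by decide) [0, 0, 0, 0, 0, 0, 0, 0, 0, 0, 0, 0, 1, 1, 0, 0] 0 (by decide) (by decide)
  have l5 := h.row 5 (by decide) [0, 0, 0, 0, -1, -1, 0, 0, 0, 0, 0, 0, 1, 0, 0, 0] 0 (by decide) (by decide)
  have l7 := h.row 7 (by decide) [0, 0, 1, 0, 0, -1, 0, 0, 0, 0, 0, 0, 0, 0, 1, 0] (-1) (by decide) (by decide)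
  have e1 := h.comb [2, 0, -10, -21, 0, 55, 55]
    [0, 0, 0, 0, -8505, -4860, 0, 0, 0, 0, 0, 0, 0, 0, 0, 0] rfl 81 10497600
    (by decide) (by decide) (by decide)
  have e2 := h.comb [-1, 0, 5, 3, 0, 10, 10]
    [0, 0, 0, 0, 1215, 0, 0, 0, 0, 0, 0, -270, 0, 0, 0, 0] rfl 27 7873200
    (by decide) (by decide) (by decide)
  have e3 := h.comb [1, -1, -5, 0, 5, 0, 0]
    [0, 0, -162, 0, 0, 0, 0, 0, 0, 0, 0, 0, -162, 162, 0, 0] rfl 0 (-2187000)
    (by decide) (by decide) (by decide)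
  have e4 := h.comb [0, 0, -1, 1, 0, 0, 0]
    [0, 0, 0, 0, 0, 0, 0, 30, 0, 0, 0, 0, 0, 0, 30, 30] rfl 0 (-991440)
    (by decide) (by decide) (by decide)
  have hlen : shapeGood.length = 16 := by decide
  have d4 : dot cfgOne.rf (shapeGood.getD 4 []) % 81 = 24 := by decide
  have d5 : dot cfgOne.rf (shapeGood.getD 5 []) % 81 = 78 := by decide
  simp [hlen, List.range_succ] at hsq l0 l1 l5 l7 e1 e2 e3 e4
  have gpos : 0 < g := by
    nlinarith [mul_self_nonneg (D 0), mul_self_nonneg (D 1), mul_self_nonneg (D 2),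
      mul_self_nonneg (D 3), mul_self_nonneg (D 4), mul_self_nonneg (D 5), mul_self_nonneg (D 6),
      mul_self_nonneg (D 7), mul_self_nonneg (D 8), mul_self_nonneg (D 9), mul_self_nonneg (D 10),
      mul_self_nonneg (D 11), mul_self_nonneg (D 12), mul_self_nonneg (D 13), mul_self_nonneg (D 14),
      mul_self_nonneg (D 15)]
  have hg0 : (g : ℚ) ≠ 0 := by exact_mod_cast gpos.ne'
  have q4 : (D 4 : ℚ) ≠ 0 := by exact_mod_cast n4
  have q5 : (D 5 : ℚ) ≠ 0 := by exact_mod_cast n5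
  have q11 : (D 11 : ℚ) ≠ 0 := by exact_mod_cast n11
  field_simp at e1 e2
  have f1 : g * (105 * -D 5 + 60 * -D 4 + -D 4 * -D 5) = 129600 * (-D 4 * -D 5) := by
    have : (g : ℚ) * (105 * -(D 5 : ℚ) + 60 * -(D 4 : ℚ) + -(D 4 : ℚ) * -(D 5 : ℚ)) =
        129600 * (-(D 4 : ℚ) * -(D 5 : ℚ)) := by linarith
    exact_mod_cast this
  have f2 : g * (-D 4 * -D 11 - 45 * -D 11 + 10 * -D 4) = 291600 * (-D 4 * -D 11) := by
    have : (g : ℚ) * (-(D 4 : ℚ) * -(D 11 : ℚ) - 45 * -(D 11 : ℚ) + 10 * -(D 4 : ℚ)) =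
        291600 * (-(D 4 : ℚ) * -(D 11 : ℚ)) := by linarith
    exact_mod_cast this
  have hAB : -D 4 * -D 4 + -D 5 * -D 5 < g := by
    nlinarith [mul_self_nonneg (D 0), mul_self_nonneg (D 1), mul_self_nonneg (D 2),
      mul_self_nonneg (D 3), mul_self_nonneg (D 6),
      mul_self_nonneg (D 7), mul_self_nonneg (D 8), mul_self_nonneg (D 9), mul_self_nonneg (D 10),
      mul_self_nonneg (D 11), mul_self_nonneg (D 12), mul_self_nonneg (D 13), mul_self_nonneg (D 14),
      mul_self_nonneg (D 15)]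
  obtain ⟨hA, hB, -, hg⟩ := pair_solve (by omega) (by omega) (neg_ne_zero.2 n11) hAB f1 f2
  refine ⟨hg, ?_⟩
  have h12 : D 12 = 21 := by omega
  have h13 : D 13 = -21 := by omega
  rw [hg, h12, h13] at e3
  have q2 : (D 2 : ℚ) ≠ 0 := by exact_mod_cast n2
  push_cast at e3
  field_simp at e3
  have h2 : D 2 = -48 := by
    have : (D 2 : ℚ) = -48 := by linarith
    exact_mod_cast this
  have h14 : D 14 = -35 := by omega
  have h15 : D 15 = -35 := by omega
  rw [hg, h14, h15] at e4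
  have q7 : (D 7 : ℚ) ≠ 0 := by exact_mod_cast n7
  push_cast at e4
  field_simp at e4
  have : (D 7 : ℚ) = -8 := by linarith
  exact_mod_cast this

theorem shapeBad_one {D : ℕ → ℤ} {g : ℤ} (h : cfgOne.Reduced (cfgOne.shapes.getD 1 []) D g) :
    False := by
  set S := cfgOne.shapes.getD 1 [] with hS
  have hlen : S.length = 15 := by rw [hS]; decide
  have hsq := h.sq
  have r3 := h.res 3 (by omega)
  have r4 := h.res 4 (by omega)
  have n1 := h.nz 1 (by omega)
  have n3 := h.nz 3 (by omega)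
  have n4 := h.nz 4 (by omega)
  have n10 := h.nz 10 (by omega)
  have l0 := h.row 0 (by decide) [0, 0, 0, 0, 0, 0, 0, 0, 0, 0, 0, 0, 0, -1, 1] 0 (by rw [hS]; decide) (by decide)
  have l1 := h.row 1 (by decide) [0, 0, 0, 0, 0, 0, 0, 0, 0, 0, 0, 1, 1, 0, 0] 0 (by rw [hS]; decide) (by decide)
  have l4 := h.row 4 (by decide) [0, 0, 0, 0, 0, -1, -1, 0, 0, 0, 0, -1, 0, 0, 0] 1 (by rw [hS]; decide) (by decide)
  have l5 := h.row 5 (by decide) [0, 0, 0, -1, -1, 0, 0, 0, 0, 0, 0, 1, 0, 0, 0] 0 (by rw [hS]; decide) (by decide)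
  have l7 := h.row 7 (by decide) [0, 1, 0, 0, -1, 0, 0, 0, 0, 0, 0, 0, 0, 1, 0] (-1) (by rw [hS]; decide) (by decide)
  have l8 := h.row 8 (by decide) [1, 0, 0, 1, 0, 1, 0, 0, 0, 0, 0, 0, 0, 0, 1] 0 (by rw [hS]; decide) (by decide)
  have l9 := h.row 9 (by decide) [1, 0, 0, 0, 1, 0, 1, 0, 0, 0, 1, 0, 0, 0, 0] 0 (by rw [hS]; decide) (by decide)
  have e1 := h.comb [2, 0, -10, -21, 0, 55, 55]
    [0, 0, 0, -8505, -4860, 0, 0, 0, 0, 0, 0, 0, 0, 0, 0] rfl 81 10497600
    (by rw [hS]; decide) (by decide) (by decide)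
  have e2 := h.comb [-1, 0, 5, 3, 0, 10, 10]
    [0, 0, 0, 1215, 0, 0, 0, 0, 0, 0, -270, 0, 0, 0, 0] rfl 27 7873200
    (by rw [hS]; decide) (by decide) (by decide)
  have e3 := h.comb [1, -1, -5, 0, 5, 0, 0]
    [0, -162, 0, 0, 0, 0, 0, 0, 0, 0, 0, -162, 162, 0, 0] rfl 0 (-2187000)
    (by rw [hS]; decide) (by decide) (by decide)
  have e4 := h.comb [0, 0, -1, 1, 0, 0, 0]
    [135, 0, 0, 0, 0, -15, 120, 0, 0, 0, 0, 0, 0, 30, 30] rfl 0 (-991440)
    (by rw [hS]; decide) (by decide) (by decide)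
  have d3 : dot cfgOne.rf (S.getD 3 []) % 81 = 24 := by rw [hS]; decide
  have d4 : dot cfgOne.rf (S.getD 4 []) % 81 = 78 := by rw [hS]; decide
  simp [hlen, List.range_succ] at hsq l0 l1 l4 l5 l7 l8 l9 e1 e2 e3 e4
  have gpos : 0 < g := by
    nlinarith [mul_self_nonneg (D 0), mul_self_nonneg (D 1), mul_self_nonneg (D 2),
      mul_self_nonneg (D 3), mul_self_nonneg (D 4), mul_self_nonneg (D 5), mul_self_nonneg (D 6),
      mul_self_nonneg (D 7), mul_self_nonneg (D 8), mul_self_nonneg (D 9), mul_self_nonneg (D 10),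
      mul_self_nonneg (D 11), mul_self_nonneg (D 12), mul_self_nonneg (D 13), mul_self_nonneg (D 14)]
  have hg0 : (g : ℚ) ≠ 0 := by exact_mod_cast gpos.ne'
  have q3 : (D 3 : ℚ) ≠ 0 := by exact_mod_cast n3
  have q4 : (D 4 : ℚ) ≠ 0 := by exact_mod_cast n4
  have q10 : (D 10 : ℚ) ≠ 0 := by exact_mod_cast n10
  field_simp at e1 e2
  have f1 : g * (105 * -D 4 + 60 * -D 3 + -D 3 * -D 4) = 129600 * (-D 3 * -D 4) := by
    have : (g : ℚ) * (105 * -(D 4 : ℚ) + 60 * -(D 3 : ℚ) + -(D 3 : ℚ) * -(D 4 : ℚ)) =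
        129600 * (-(D 3 : ℚ) * -(D 4 : ℚ)) := by linarith
    exact_mod_cast this
  have f2 : g * (-D 3 * -D 10 - 45 * -D 10 + 10 * -D 3) = 291600 * (-D 3 * -D 10) := by
    have : (g : ℚ) * (-(D 3 : ℚ) * -(D 10 : ℚ) - 45 * -(D 10 : ℚ) + 10 * -(D 3 : ℚ)) =
        291600 * (-(D 3 : ℚ) * -(D 10 : ℚ)) := by linarith
    exact_mod_cast this
  have hAB : -D 3 * -D 3 + -D 4 * -D 4 < g := by
    nlinarith [mul_self_nonneg (D 0), mul_self_nonneg (D 1), mul_self_nonneg (D 2),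
      mul_self_nonneg (D 5), mul_self_nonneg (D 6),
      mul_self_nonneg (D 7), mul_self_nonneg (D 8), mul_self_nonneg (D 9), mul_self_nonneg (D 10),
      mul_self_nonneg (D 11), mul_self_nonneg (D 12), mul_self_nonneg (D 13), mul_self_nonneg (D 14)]
  obtain ⟨hA, hB, hC, hg⟩ := pair_solve (by omega) (by omega) (neg_ne_zero.2 n10) hAB f1 f2
  have h11 : D 11 = 21 := by omega
  have h12 : D 12 = -21 := by omega
  rw [hg, h11, h12] at e3
  have q1 : (D 1 : ℚ) ≠ 0 := by exact_mod_cast n1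
  push_cast at e3
  field_simp at e3
  have h1 : D 1 = -48 := by
    have : (D 1 : ℚ) = -48 := by linarith
    exact_mod_cast this
  have h13 : D 13 = -35 := by omega
  have h14 : D 14 = -35 := by omega
  have h0 : D 0 = 45 := by omega
  have h5 : D 5 = -115 := by omega
  have h6 : D 6 = 95 := by omega
  rw [hg, h0, h5, h6, h13, h14] at e4
  norm_num at e4

theorem shapeBad_two {D : ℕ → ℤ} {g : ℤ} (h : cfgTwo.Reduced (cfgTwo.shapes.getD 0 []) D g) :
    False := by
  set S := cfgTwo.shapes.getD 0 [] with hS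
  have hlen : S.length = 16 := by rw [hS]; decide
  have hsq := h.sq
  have n0 := h.nz 0 (by omega)
  have n2 := h.nz 2 (by omega)
  have n12 := h.nz 12 (by omega)
  have l1 := h.row 1 (by decide) [0, 0, 0, 0, 0, 0, 0, 0, 0, 0, 0, 0, -1, 1, 0, 0] 0 (by rw [hS]; decide) (by decide)
  have l2 := h.row 2 (by decide) [0, 0, 0, 0, 0, 0, 0, 0, 0, 0, 0, 1, 1, 0, 0, 0] 0 (by rw [hS]; decide) (by decide)
  have l3 := h.row 3 (by decide) [0, 0, 0, 0, 0, 0, 0, 0, 0, 1, -1, 0, 0, 0, 0, 0] 1 (by rw [hS]; decide) (by decide)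
  have l6 := h.row 6 (by decide) [0, 0, 0, 0, 0, 0, 0, 0, 0, -1, 0, 0, 1, 0, -1, 0] 0 (by rw [hS]; decide) (by decide)
  have l7 := h.row 7 (by decide) [0, 0, 0, -1, 0, 0, 0, 0, -1, 0, 0, 0, 0, 0, 1, 0] 0 (by rw [hS]; decide) (by decide)
  have l8 := h.row 8 (by decide) [0, 0, 1, 0, 0, 0, 0, 0, -1, 0, 0, 1, 0, 0, 0, 0] 1 (by rw [hS]; decide) (by decide)
  have l10 := h.row 10 (by decide) [1, 0, 0, 1, 0, 0, 0, 0, 0, 0, 1, 0, 0, 1, 0, 0] 0 (by rw [hS]; decide) (by decide)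
  have e1 := h.comb [0, 0, -1, 1, 0, 0, 0]
    [0, 0, 0, 0, 0, 0, 0, 0, 0, 0, 0, -30, 30, 30, 0, 0] rfl 0 (-991440)
    (by rw [hS]; decide) (by decide) (by decide)
  have e2 := h.comb [0, 0, -1, 1, 0, -5, 5]
    [-270, 0, 270, 0, 0, 0, 0, 0, 0, 0, 0, 0, 0, 0, 0, 0] rfl 0 (-422820)
    (by rw [hS]; decide) (by decide) (by decide)
  simp [hlen, List.range_succ] at hsq l1 l2 l3 l6 l7 l8 l10 e1 e2
  have gpos : 0 < g := by
    nlinarith [mul_self_nonneg (D 0), mul_self_nonneg (D 1), mul_self_nonneg (D 2),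
      mul_self_nonneg (D 3), mul_self_nonneg (D 4), mul_self_nonneg (D 5), mul_self_nonneg (D 6),
      mul_self_nonneg (D 7), mul_self_nonneg (D 8), mul_self_nonneg (D 9), mul_self_nonneg (D 10),
      mul_self_nonneg (D 11), mul_self_nonneg (D 12), mul_self_nonneg (D 13), mul_self_nonneg (D 14),
      mul_self_nonneg (D 15)]
  have h11 : D 11 = -D 12 := by omega
  have h13 : D 13 = D 12 := by omega
  have h0 : D 0 = D 8 - 1 - 2 * D 12 := by omega
  have h2 : D 2 = D 8 - 1 + D 12 := by omega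
  rw [h11, h13] at e1
  have hg0 : (g : ℚ) ≠ 0 := by exact_mod_cast gpos.ne'
  have q12 : (D 12 : ℚ) ≠ 0 := by exact_mod_cast n12
  have q0 : (D 0 : ℚ) ≠ 0 := by exact_mod_cast n0
  have q2 : (D 2 : ℚ) ≠ 0 := by exact_mod_cast n2
  push_cast at e1
  field_simp at e1 e2
  have eg : g = -11016 * D 12 := by
    have : (g : ℚ) = -11016 * (D 12 : ℚ) := by linarith
    exact_mod_cast this
  have e3 : 270 * g * (D 0 - D 2) = -422820 * (D 0 * D 2) := by
    have : 270 * (g : ℚ) * ((D 0 : ℚ) - D 2) = -422820 * ((D 0 : ℚ) * D 2) := by linarith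
    exact_mod_cast this
  rw [h0, h2, eg] at e3
  have key : 422820 * ((D 8 - 1) * (D 8 - 1)) - 422820 * ((D 8 - 1) * D 12) +
      8077320 * (D 12 * D 12) = 0 := by linarith
  nlinarith [mul_self_nonneg (2 * (D 8 - 1) - D 12), mul_self_pos.2 n12]

theorem shapeBad_three {D : ℕ → ℤ} {g : ℤ} (h : cfgThree.Reduced (cfgThree.shapes.getD 0 []) D g) :
    False := by
  set S := cfgThree.shapes.getD 0 [] with hS
  have hlen : S.length = 13 := by rw [hS]; decide
  have hsq := h.sq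
  have e1 := h.comb [-5, 0, -11, 0, 0, 8, 8] [0, 0, 0, 0, 0, 0, 0, 0, 0, 0, 0, 0, 0] rfl 0 1889568
    (by rw [hS]; decide) (by decide) (by decide)
  simp [hlen, List.range_succ] at hsq e1
  have gpos : 0 < g := by
    nlinarith [mul_self_nonneg (D 0), mul_self_nonneg (D 1), mul_self_nonneg (D 2),
      mul_self_nonneg (D 3), mul_self_nonneg (D 4), mul_self_nonneg (D 5), mul_self_nonneg (D 6),
      mul_self_nonneg (D 7), mul_self_nonneg (D 8), mul_self_nonneg (D 9), mul_self_nonneg (D 10),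
      mul_self_nonneg (D 11), mul_self_nonneg (D 12)]
  have hg0 : (g : ℚ) ≠ 0 := by exact_mod_cast gpos.ne'
  field_simp at e1
  norm_num at e1

theorem shapeBad_four {D : ℕ → ℤ} {g : ℤ} (h : cfgThree.Reduced (cfgThree.shapes.getD 1 []) D g) :
    False := by
  set S := cfgThree.shapes.getD 1 [] with hS
  have hlen : S.length = 12 := by rw [hS]; decide
  have hsq := h.sq
  have n0 := h.nz 0 (by omega)
  have n1 := h.nz 1 (by omega)
  have n3 := h.nz 3 (by omega)
  have n4 := h.nz 4 (by omega)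
  have l4 := h.row 4 (by decide) [0, 0, 0, 1, 1, 0, 0, 0, 0, 0, 0, 1] 1 (by rw [hS]; decide) (by decide)
  have l2 := h.row 2 (by decide) [0, 0, 0, 0, 0, 0, 0, 1, -1, 0, 0, 1] 0 (by rw [hS]; decide) (by decide)
  have l3 := h.row 3 (by decide) [0, 0, 0, 0, 0, 1, 1, 0, 0, 0, 0, -1] 0 (by rw [hS]; decide) (by decide)
  have l6 := h.row 6 (by decide) [0, 1, 0, 0, 0, 1, 0, 0, 1, 0, 0, 0] 1 (by rw [hS]; decide) (by decide)
  have l7 := h.row 7 (by decide) [1, 0, 0, 0, 1, 1, 0, 1, 0, 0, 0, 0] 0 (by rw [hS]; decide) (by decide)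
  have e0 := h.comb [0, 1, -3, -3, 1, 2, 2] [81, 0, 0, 0, 0, 0, 0, 0, 0, 0, 0, 0] rfl 0 472392
    (by rw [hS]; decide) (by decide) (by decide)
  have e1 := h.comb [-2, -3, -2, 0, -3, 8, 2] [0, -162, 0, 0, 0, 0, 0, 0, 0, 0, 0, 0] rfl 0 489888
    (by rw [hS]; decide) (by decide) (by decide)
  have e3 := h.comb [2, -1, 2, -6, -1, 2, 2] [0, 0, 0, 108, 0, 0, 0, 0, 0, 0, 0, 0] rfl 0 472392
    (by rw [hS]; decide) (by decide) (by decide)
  have e4 := h.comb [-1, -1, -1, 0, -1, 2, 2] [0, 0, 0, 0, -54, 0, 0, 0, 0, 0, 0, 0] rfl 0 472392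
    (by rw [hS]; decide) (by decide) (by decide)
  simp [hlen, List.range_succ] at hsq l2 l3 l4 l6 l7 e0 e1 e3 e4
  have gpos : 0 < g := by
    nlinarith [mul_self_nonneg (D 0), mul_self_nonneg (D 1), mul_self_nonneg (D 2),
      mul_self_nonneg (D 3), mul_self_nonneg (D 4), mul_self_nonneg (D 5), mul_self_nonneg (D 6),
      mul_self_nonneg (D 7), mul_self_nonneg (D 8), mul_self_nonneg (D 9), mul_self_nonneg (D 10),
      mul_self_nonneg (D 11)]
  have hg0 : (g : ℚ) ≠ 0 := by exact_mod_cast gpos.ne'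
  have q0 : (D 0 : ℚ) ≠ 0 := by exact_mod_cast n0
  have q1 : (D 1 : ℚ) ≠ 0 := by exact_mod_cast n1
  have q3 : (D 3 : ℚ) ≠ 0 := by exact_mod_cast n3
  have q4 : (D 4 : ℚ) ≠ 0 := by exact_mod_cast n4
  field_simp at e0 e1 e3 e4
  have rel : D 1 = D 0 + D 3 + 2 * D 4 := by omega
  have rel' : (D 1 : ℚ) = D 0 + D 3 + 2 * D 4 := by exact_mod_cast rel
  have : (0 : ℚ) < g := by exact_mod_cast gpos
  linarith

theorem not_two {ι : Type*} [Fintype ι] {z : ι → ℕ → ℤ} {d : ι → ℤ} {g : ℤ}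
    (h : cfgTwo.System z d g) : False := by
  obtain ⟨S, hS, D, hR, -⟩ := h.reduce valid_two
  rcases List.mem_singleton.1 (show S ∈ [cfgTwo.shapes.getD 0 []] from hS) with rfl
  exact shapeBad_two hR

theorem not_three {ι : Type*} [Fintype ι] {z : ι → ℕ → ℤ} {d : ι → ℤ} {g : ℤ}
    (h : cfgThree.System z d g) : False := by
  obtain ⟨S, hS, D, hR, -⟩ := h.reduce valid_three
  have hS' : S ∈ [cfgThree.shapes.getD 0 [], cfgThree.shapes.getD 1 []] := hS
  simp only [List.mem_cons, List.not_mem_nil, or_false] at hS'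
  rcases hS' with rfl | rfl
  · exact shapeBad_three hR
  · exact shapeBad_four hR

/-- The first case: the order, and a character of degree eight. -/
theorem solve_one {ι : Type*} [Fintype ι] {z : ι → ℕ → ℤ} {d : ι → ℤ} {g : ℤ}
    (h : cfgOne.System z d g) : g = 181440 ∧ ∃ χ, ∃ s : ℤ, (s = 1 ∨ s = -1) ∧ s * d χ = -8 ∧
      shapeGood.getD 7 [] = CfsgLib.AltNine.vecRev cfgOne.dim fun i => s * z χ i := by
  obtain ⟨S, hS, D, hR, hD⟩ := h.reduce valid_one
  have hS' : S ∈ [shapeGood, cfgOne.shapes.getD 1 []] := hS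
  simp only [List.mem_cons, List.not_mem_nil, or_false] at hS'
  rcases hS' with rfl | rfl
  · obtain ⟨hg, h7⟩ := shapeGood_solve hR
    obtain ⟨χ, s, hs, hd, hcol⟩ := hD 7 (by decide)
    exact ⟨hg, χ, s, hs, by omega, hcol⟩
  · exact (shapeBad_one hR).elim

end CfsgLib.ThreeLocalNine
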