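import Cfsg.Agent.ThreeLocalNine.Triples
import Cfsg.Agent.ThreeLocalNine.Parts
import Cfsg.Agent.ThreeLocalNine.CaseTabs
import Cfsg.Agent.ThreeLocalNine.Shapes

/-!
# The three configurations as systems

Two are impossible; the remaining one determines the order and a character of degree eight.
-/

set_option autoImplicit false
set_option maxRecDepth 100000
set_option linter.style.haveILetI false
set_option linter.unusedSectionVars false

namespace CfsgLib.ThreeLocalNine

open scoped ComplexConjugate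
open CfsgLib.AltNine Equiv

universe u

variable {G : Type u} [Group G] [Fintype G] {φ : K →* G}

theorem classInner_model (f₁ f₂ : K → ℂ) :
    Cfsg.classInner f₁ f₂ = (648 : ℂ)⁻¹ * ∑ x, f₁ x * conj (f₂ x) := by
  rw [Cfsg.classInner, Nat.card_eq_fintype_card, card_K]; norm_num

theorem sum_over_classes {n : ℕ} (lab : Fin 14 → Option (Fin n)) (r : Fin n → G) (cn : Fin n → ℕ)
    (hlab : ∀ c k, lab c = some k → IsConj (φ (rep c)) (r k)) (hcn : ∀ k, cn k ≠ 0)
    (hdiv : ∀ c k, lab c = some k → cn k / cen c * cen c = cn k) (V : Fin 14 → Z12)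
    (hV : ∀ c, lab c = none → V c = Z12.ofInt 0) {χ : G → ℂ} (hχ : Cfsg.IsIrrCharacter G χ) :
    (648 : ℂ)⁻¹ * ∑ x : K, χ (φ x) * conj (Z12.toC (V (cls x))) =
      ∑ k, χ (r k) * conj (Z12.toC (liftZ lab cn V k)) / cn k := by
  classical
  have hcl := CfsgLib.Char.IsIrrCharacter.isClassFunction hχ
  rw [Finset.sum_congr rfl fun x _ => show χ (φ x) * conj (Z12.toC (V (cls x))) =
      (fun c => χ (φ (rep c)) * conj (Z12.toC (V c))) (cls x) by
    rw [CfsgLib.Char.IsClassFunction.apply_eq_of_isConj hcl (φ.map_isConj (isConj_rep x))],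
    sum_eq_sum_cls (fun c => χ (φ (rep c)) * conj (Z12.toC (V c))), Finset.mul_sum]
  simp only [liftZ, ← Z12.sum_toC, map_sum, Finset.mul_sum, Finset.sum_div]
  rw [Finset.sum_comm]
  refine Finset.sum_congr rfl fun c _ => ?_
  cases hl : lab c with
  | none => simp [hV c hl, Z12.toC_ofInt]
  | some k₀ =>
    rw [Finset.sum_eq_single k₀ (fun k _ hk => by
      rw [if_neg fun e => hk (Option.some.inj e).symm]; simp [Z12.toC_ofInt]) (by simp),
      if_pos rfl, Z12.toC_smul,
      CfsgLib.Char.IsClassFunction.apply_eq_of_isConj hcl (hlab c k₀ hl), map_mul, map_intCast]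
    have h1 := congrArg (Nat.cast (R := ℂ)) (size_mul_cen c)
    have h2 := congrArg (Nat.cast (R := ℂ)) (hdiv c k₀ hl)
    push_cast at h1 h2
    have h3 : (cn k₀ : ℂ) ≠ 0 := by exact_mod_cast hcn k₀
    have h4 : (648 : ℂ)⁻¹ * size c = ((cn k₀ / cen c : ℕ) : ℂ) / cn k₀ := by
      rw [inv_mul_eq_iff_eq_mul₀ (by norm_num : (648 : ℂ) ≠ 0), mul_div_assoc', eq_div_iff h3]
      linear_combination ((cn k₀ / cen c : ℕ) : ℂ) * h1 - (size c : ℂ) * h2
    rw [Int.cast_natCast]
    linear_combination (χ (r k₀) * conj (Z12.toC (V c))) * h4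

/-- The congruence for the degree. -/
theorem congruence {n : ℕ} (lab : Fin 14 → Option (Fin n)) (r : Fin n → G) (cn : Fin n → ℕ)
    (w : Fin n → ℤ) (hok : LabOk lab cn w)
    (hlab : ∀ c k, lab c = some k → IsConj (φ (rep c)) (r k))
    {χ : G → ℂ} (hχ : Cfsg.IsIrrCharacter G χ) :
    ∃ m : ℤ, χ 1 + ∑ k, (w k : ℂ) * χ (r k) = 81 * m := by
  classical
  obtain ⟨-, h0, hnone, hw⟩ := hok
  set P := Subgroup.centralizer ({rep 5} : Set K)
  obtain ⟨m, hm⟩ := CfsgLib.Char.IsGeneralized.exists_classInner_eq_int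
    (CfsgLib.Char.IsGeneralized.comp (CfsgLib.Char.IsIrrCharacter.isGeneralized hχ)
      (φ.comp P.subtype)) (CfsgLib.Char.isGeneralized_one (G := P))
  refine ⟨m, ?_⟩
  have hP : Nat.card P = 81 := by rw [card_centralizer, cls_rep]; rfl
  rw [Cfsg.classInner, hP] at hm
  have hcl := CfsgLib.Char.IsIrrCharacter.isClassFunction hχ
  have hs : ∑ x : P, χ (φ (x : K)) = ∑ c, (wP c : ℂ) * χ (φ (rep c)) := by
    rw [← Finset.sum_subtype ((Finset.univ : Finset K).filter fun x => x * rep 5 = rep 5 * x)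
      (fun x => by simp [P, Subgroup.mem_centralizer_singleton_iff]) fun x : K => χ (φ x),
      ← Finset.sum_fiberwise _ cls]
    refine Finset.sum_congr rfl fun c _ => ?_
    rw [Finset.filter_filter, Finset.sum_congr rfl (g := fun _ => χ (φ (rep c))) fun x hx => ?_,
      Finset.sum_const, core_count_table, nsmul_eq_mul]
    rw [CfsgLib.Char.IsClassFunction.apply_eq_of_isConj hcl (φ.map_isConj (isConj_rep x)),
      (Finset.mem_filter.1 hx).2.2]
  have hw' : ∀ k, (w k : ℂ) * χ (r k) =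
      ∑ c, if lab c = some k then (wP c : ℂ) * χ (φ (rep c)) else 0 := by
    intro k
    rw [← hw k]
    push_cast
    rw [Finset.sum_mul]
    refine Finset.sum_congr rfl fun c _ => ?_
    split_ifs with e
    · rw [CfsgLib.Char.IsClassFunction.apply_eq_of_isConj hcl (hlab c k e)]
    · ring
  rw [Finset.sum_congr rfl fun k _ => hw' k, Finset.sum_comm]
  simp only [MonoidHom.coe_comp, Subgroup.coe_subtype, Function.comp_apply, map_one, mul_one, hs]
    at hm
  rw [← Finset.add_sum_erase _ _ (Finset.mem_univ (0 : Fin 14))] at hm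
  rw [← Finset.add_sum_erase _ _ (Finset.mem_univ (0 : Fin 14)), h0]
  have hr0 : rep 0 = (1 : K) := by decide +kernel
  have hrest : ∀ c ∈ (Finset.univ : Finset (Fin 14)).erase 0,
      (∑ k, if lab c = some k then (wP c : ℂ) * χ (φ (rep c)) else 0) =
        (wP c : ℂ) * χ (φ (rep c)) := by
    intro c hc
    cases hl : lab c with
    | none => simp [hnone c (Finset.ne_of_mem_erase hc) hl]
    | some k => simp
  rw [Finset.sum_congr rfl hrest]
  simp only [hr0, map_one, show wP 0 = 1 from rfl, Nat.cast_one, one_mul] at hm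
  simp only [reduceCtorEq, if_false, Finset.sum_const_zero, zero_add]
  linear_combination 81 * hm

/-- The value of a part, as a complex number. -/
noncomputable def pVal {n : ℕ} (m : Fin 4) (k : Fin n) : ℂ :=
  ((pAt m k).1 + (pAt m k).2 * rt) / 2

/-- Integrality of a row. -/
theorem row_int {n : ℕ} (lab : Fin 14 → Option (Fin n)) (r : Fin n → G) (cn : Fin n → ℕ)
    (w : Fin n → ℤ) (hok : LabOk lab cn w)
    (hlab : ∀ c k, lab c = some k → IsConj (φ (rep c)) (r k)) (hcn : ∀ k, cn k ≠ 0)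
    {χ : G → ℂ} (hχ : Cfsg.IsIrrCharacter G χ)
    (hparts : ∀ m : Fin 4, ∃ z : ℤ, (z : ℂ) = ∑ k, χ (r k) * conj (pVal m k) / cn k)
    {row : List ℤ} {vals : List (ℤ × ℤ)} (hrow : RowOk lab cn row vals) :
    ∃ z : ℤ, ∑ k : Fin n, χ (r k) *
      conj ((((vals.getD k (0, 0)).1 : ℂ) + (vals.getD k (0, 0)).2 * rt) / 2) / cn k = z := by
  obtain ⟨hnone, hk⟩ := hrow
  set F : K → ℂ := ∑ j : Fin 15, cTh row j • theta j
  have hF : Cfsg.IsGeneralizedCharacter K F := CfsgLib.Char.isGeneralized_sum _ fun j _ =>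
    CfsgLib.Char.IsGeneralized.zsmul (CfsgLib.Char.IsCharacter.isGeneralized (isCharacter_theta j)) _
  have hFv : ∀ x, F x = Z12.toC (hVal row (cls x)) := by
    intro x
    rw [CfsgLib.Char.IsClassFunction.apply_eq_of_isConj
      (CfsgLib.Char.IsGeneralized.isClassFunction hF) (isConj_rep x)]
    simp only [F, Finset.sum_apply]
    rw [hVal,
      ← Z12.sum_toC]
    refine Finset.sum_congr rfl fun j _ => ?_
    rw [Pi.smul_apply, theta_eq, Z12.toC_smul, zsmul_eq_mul]
  obtain ⟨z0, hz0⟩ := CfsgLib.Char.IsGeneralized.exists_classInner_eq_int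
    (CfsgLib.Char.IsGeneralized.comp (CfsgLib.Char.IsIrrCharacter.isGeneralized hχ) φ) hF
  choose zm hzm using hparts
  refine ⟨z0 + ∑ m : Fin 4, coAt row (11 + (m : ℕ)) * zm m, ?_⟩
  rw [classInner_model] at hz0
  simp only [hFv] at hz0
  rw [sum_over_classes lab r cn hlab hcn hok.1 (hVal row) hnone hχ] at hz0
  push_cast
  rw [← hz0]
  simp only [hzm, Finset.mul_sum]
  rw [Finset.sum_comm (γ := Fin 4), ← Finset.sum_add_distrib]
  refine Finset.sum_congr rfl fun k _ => ?_
  obtain ⟨h1, h2, h3⟩ := hk k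
  rw [h1, Z12.toC_ofInt, h2, h3]
  simp only [pVal, map_div₀, map_add, map_mul, map_intCast, map_ofNat, map_sum, conj_rt,
    Fin.sum_univ_four]
  push_cast
  try simp only [Fin.sum_univ_four]
  ring

theorem labOne_conj (hg' : ∃ ψ, Glue φ ψ) :
    IsConj (φ (rep 13)) (φ (rep 12)) := hg'.elim fun _ hg => hg.isConj_twelve

namespace Setup

variable (h : Setup φ)
include h

variable {ψ : CMod →* G} (hg : Glue φ ψ)

include hg in
theorem parts_one {χ : G → ℂ} (hχ : Cfsg.IsIrrCharacter G χ) (m : Fin 4) :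
    ∃ z : ℤ, (z : ℂ) = ∑ k, χ (rOne φ ψ k) * conj (pVal m k) / cnOne k := by
  obtain ⟨a0, b0, a1, b1, a2, b2⟩ := pair_values
  obtain ⟨n0, h0⟩ := hg.exists_part15 hχ 0
  obtain ⟨n1, h1⟩ := hg.exists_part15 hχ 1
  obtain ⟨n2, h2⟩ := hg.exists_part15 hχ 2
  obtain ⟨n3, h3⟩ := hg.exists_part24 hχ
  fin_cases m
  · refine ⟨n0, h0.trans ?_⟩
    simp [Fin.sum_univ_succ, rOne, cnOne, pVal, pAt, pTab, a0, b0, conj_rt, map_ofNat]
    ring
  · refine ⟨n1, h1.trans ?_⟩
    simp [Fin.sum_univ_succ, rOne, cnOne, pVal, pAt, pTab, a1, b1, conj_rt, map_ofNat]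
    ring
  · refine ⟨n2, h2.trans ?_⟩
    simp [Fin.sum_univ_succ, rOne, cnOne, pVal, pAt, pTab, a2, b2, conj_rt, map_ofNat]
    ring
  · refine ⟨n3, h3.trans ?_⟩
    simp [Fin.sum_univ_succ, rOne, cnOne, pVal, pAt, pTab, conj_rt, map_ofNat]
    ring

theorem fac_count_three {fus : Bool} (hf : fus = true ↔ IsConj (φ (rep 6)) (φ (rep 5)))
    (ha : Subgroup.centralizer ({φ (rep 3)} : Set G) ≤ φ.range) (k : Fin 7) :
    Nat.card {t : G × G // IsConj (φ (cR (orient k).1)) t.1 ∧
      IsConj (φ (cR (orient k).2.1)) t.2 ∧ t.1 * t.2 = φ (cR (orient k).2.2)} =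
      inCount fus (orient k).1 (orient k).2.1 (orient k).2.2 := by
  obtain ⟨-, -, -, a, b, c⟩ := count_values k
  rw [card_pairs_eq, h.card_fac_three hf ha a b c]

include hg in
theorem fac_count {fus : Bool} (hf : fus = true ↔ IsConj (φ (rep 6)) (φ (rep 5))) (k : Fin 7) :
    Nat.card {t : G × G // IsConj (φ (cR (orient k).1)) t.1 ∧
      IsConj (φ (cR (orient k).2.1)) t.2 ∧ t.1 * t.2 = φ (cR (orient k).2.2)} =
      inCount fus (orient k).1 (orient k).2.1 (orient k).2.2 +
        ∑ i, outCount (orient k).1 (orient k).2.1 (orient k).2.2 i := by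
  obtain ⟨-, -, -, a, b, c⟩ := count_values k
  rw [card_pairs_eq, hg.card_fac h hf a b c]

/-- The third configuration is impossible. -/
theorem not_case_three (hs : IsConj (φ (rep 6)) (φ (rep 5)))
    (ha : Subgroup.centralizer ({φ (rep 3)} : Set G) ≤ φ.range) : False := by
  have hlab : ∀ c k, labThree c = some k → IsConj (φ (rep c)) (rThree φ k) := by
    intro c k e
    have : lcThree k = c ∨ c = 6 ∧ lcThree k = 5 := by revert c k; decide +kernel
    rcases this with rfl | ⟨rfl, e5⟩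
    · exact IsConj.refl _
    · rw [rThree, e5]; exact hs
  have hint : ∀ χ, Cfsg.IsIrrCharacter G χ → ∀ b : Fin 9,
      ∃ n : ℤ, tblThree.pairing ((Real.sqrt 3 : ℝ) : ℂ) (rThree φ) χ b = n := by
    intro χ hχ b
    obtain ⟨n, hn⟩ := CfsgLib.Char.IsGeneralized.exists_classInner_eq_int
      (CfsgLib.Char.IsGeneralized.comp (CfsgLib.Char.IsIrrCharacter.isGeneralized hχ) φ)
      (isGeneralized_alpha b)
    refine ⟨n, ?_⟩
    rw [← hn, classInner_model]
    simp only [alpha_eq]
    rw [sum_over_classes labThree (rThree φ) cnThree hlab (by decide) labOk.2.2.1 (alphaVal b)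
      (rows_three b).1 hχ]
    refine Finset.sum_congr rfl fun k _ => ?_
    have e := congrArg Z12.toC ((rows_three b).2 k)
    rw [Z12.toC_smul] at e
    have hz : 2 * Z12.zeta - Z12.zeta ^ 3 = ((Real.sqrt 3 : ℝ) : ℂ) := by
      rw [Z12.zeta_cube, Z12.zeta]; ring
    have hv : tblThree.val ((Real.sqrt 3 : ℝ) : ℂ) b k =
        Z12.toC (liftZ labThree cnThree (alphaVal b) k) := by
      rw [Table.val, ← hz]
      simp only [Z12.toC] at e ⊢
      push_cast at e
      linear_combination -(1 / 2 : ℂ) * e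
    rw [hv]
    rfl
  obtain ⟨ι, _, ch, z, d, hS, -⟩ := tblThree.exists_system tblThree_valid
    (δ := ((Real.sqrt 3 : ℝ) : ℂ)) (by rw [Z12.sqrt_three_sq]; simp [tblThree])
    (by simp [tblThree, Complex.conj_ofReal]) (rThree φ) (h.cn_three ha)
    h.ne_one_three (h.dist_three ha) hint
    (fun χ hχ => congruence labThree (rThree φ) cnThree wThree labOk.2.2 hlab hχ)
    (fun k => by
      have hc : ∀ p, rThree φ (tblThree.core p) = φ (cR p) := fun p => by fin_cases p <;> rfl
      rw [hc, hc, hc, h.fac_count_three (fus := true) (iff_of_true rfl hs) ha]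
      exact (count_values k).1)
  exact not_three hS

include hg in
/-- The second configuration is impossible. -/
theorem not_case_two (hns : ¬ IsConj (φ (rep 6)) (φ (rep 5))) : False := by
  have hlab : ∀ c k, labTwo c = some k → IsConj (φ (rep c)) (rTwo φ ψ k) := by
    intro c k e
    have : ∀ c : Fin 14, ∀ k : Fin 11, labTwo c = some k →
        (c, k) ∈ [((3 : Fin 14), (9 : Fin 11)), (4, 7), (5, 6), (6, 10), (8, 8), (9, 2), (10, 0),
          (11, 1), (12, 5), (13, 5)] := by decide +kernel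
    have := this c k e
    simp only [List.mem_cons, Prod.mk.injEq, List.not_mem_nil, or_false] at this
    rcases this with e | e | e | e | e | e | e | e | e | e <;> obtain ⟨rfl, rfl⟩ := e
    all_goals first | exact IsConj.refl _ | exact hg.isConj_twelve
  have hparts : ∀ χ, Cfsg.IsIrrCharacter G χ → ∀ m : Fin 4,
      ∃ z : ℤ, (z : ℂ) = ∑ k, χ (rTwo φ ψ k) * conj (pVal m k) / cnTwo k := by
    intro χ hχ m
    obtain ⟨z, hz⟩ := h.parts_one hg hχ m
    refine ⟨z, hz.trans ?_⟩
    rw [Fin.sum_univ_castSucc (n := 10)]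
    have h10 : pVal m (Fin.last 10) = 0 := by
      fin_cases m <;> simp [pVal, pAt, pTab]
    rw [h10, map_zero, mul_zero, zero_div, add_zero]
    refine Finset.sum_congr rfl fun k _ => ?_
    rw [h.rTwo_castSucc hg]
    have hcc : ∀ k : Fin 10, cnTwo k.castSucc = cnOne k := by decide
    rw [hcc]
    rfl
  obtain ⟨ι, _, ch, z, d, hS, -⟩ := tblTwo.exists_system tblTwo_valid (δ := rt)
    rt_sq conj_rt (rTwo φ ψ) (h.cn_two hg hns) (h.ne_one_two hg hns) (h.dist_two hg hns)
    (fun χ hχ i => row_int labTwo (rTwo φ ψ) cnTwo wTwo labOk.2.1 hlab (by decide) hχ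
      (hparts χ hχ) (rows_two i))
    (fun χ hχ => congruence labTwo (rTwo φ ψ) cnTwo wTwo labOk.2.1 hlab hχ)
    (fun k => by
      have hc : ∀ p, rTwo φ ψ (tblTwo.core p) = φ (cR p) := fun p => by fin_cases p <;> rfl
      rw [hc, hc, hc, h.fac_count hg (fus := false) (iff_of_false Bool.false_ne_true hns), (count_values k).2.1,
        (count_values k).2.2.1]
      fin_cases k <;> rfl)
  exact not_two hS

include hg in
theorem lab_one (hs : IsConj (φ (rep 6)) (φ (rep 5))) :
    ∀ c k, labOne c = some k → IsConj (φ (rep c)) (rOne φ ψ k) := by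
  intro c k e
  have : ∀ c : Fin 14, ∀ k : Fin 10, labOne c = some k →
      (c, k) ∈ [((3 : Fin 14), (9 : Fin 10)), (4, 7), (5, 6), (6, 6), (8, 8), (9, 2), (10, 0),
        (11, 1), (12, 5), (13, 5)] := by decide +kernel
  have := this c k e
  simp only [List.mem_cons, Prod.mk.injEq, List.not_mem_nil, or_false] at this
  rcases this with e | e | e | e | e | e | e | e | e | e <;> obtain ⟨rfl, rfl⟩ := e
  all_goals first | exact IsConj.refl _ | exact hg.isConj_twelve | exact hs

include hg in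
/-- The first configuration gives the order and a character of degree eight. -/
theorem case_one (hs : IsConj (φ (rep 6)) (φ (rep 5))) :
    Nat.card G = 181440 ∧ ∃ χ, Cfsg.IsIrrCharacter G χ ∧ χ 1 = 8 ∧
      ∀ i : Fin 10, tblOne.pairing rt (rOne φ ψ) χ i = if i = 4 then -1 else 0 := by
  obtain ⟨ι, _, ch, z, d, hS, hch⟩ := tblOne.exists_system tblOne_valid (δ := rt)
    rt_sq conj_rt (rOne φ ψ) (h.cn_one hg) (h.ne_one_one hg) (h.dist_one hg)
    (fun χ hχ i => row_int labOne (rOne φ ψ) cnOne wOne labOk.1 (h.lab_one hg hs) (by decide) hχ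
      (h.parts_one hg hχ) (rows_one i))
    (fun χ hχ => congruence labOne (rOne φ ψ) cnOne wOne labOk.1 (h.lab_one hg hs) hχ)
    (fun k => by
      have hc : ∀ p, rOne φ ψ (tblOne.core p) = φ (cR p) := fun p => by fin_cases p <;> rfl
      rw [hc, hc, hc, h.fac_count hg (fus := true) (iff_of_true rfl hs), (count_values k).1,
        (count_values k).2.2.1]
      fin_cases k <;> rfl)
  obtain ⟨hg', χ, s, hs', hd, hcol⟩ := solve_one hS
  obtain ⟨hirr, hdeg, hpair⟩ := hch χ
  obtain ⟨n, hn0, hn⟩ := CfsgLib.Char.IsIrrCharacter.exists_degree hirr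
  have hdn : d χ = (n : ℤ) := by
    have : ((d χ : ℤ) : ℂ) = ((n : ℤ) : ℂ) := by rw [← hdeg, hn]; simp
    exact Int.cast_injective this
  have hs1 : s = -1 := by
    rcases hs' with rfl | rfl
    · omega
    · rfl
  subst hs1
  refine ⟨by exact_mod_cast hg', ch χ, hirr, ?_, fun i => ?_⟩
  · rw [hdeg, show d χ = 8 by omega]; norm_num
  · rw [hpair i]
    have hent := congrArg (fun l => l.getD (10 - 1 - i.1) 0) hcol
    simp only [show cfgOne.dim = 10 from rfl, getD_vecRev _ 10 _ i.2] at hent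
    have hcol' : ∀ i : Fin 10, (shapeGood.getD 7 []).getD (10 - 1 - i.1) 0 =
        if i = 4 then 1 else 0 := by decide +kernel
    rw [hcol' i] at hent
    split_ifs at hent ⊢ with h4
    · rw [show z χ i = -1 by omega]; norm_num
    · rw [show z χ i = 0 by omega]; norm_num

end Setup

end CfsgLib.ThreeLocalNine
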