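import Cfsg.Agent.ThreeLocalNine.CentB
import Cfsg.Agent.ThreeNine.Main

/-!
# The centralizer of the first class of the core

It lies in the normalizer or is the product of its centre with an alternating group of degree six.
-/

set_option autoImplicit false
set_option maxRecDepth 100000
set_option linter.style.haveILetI false

namespace CfsgLib.ThreeLocalNine

open CfsgLib.AltNine

universe u

/-- The form vanishing on the complement of the first representative. -/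
def formA : Form where
  th v := (((v : ℕ) % 3 : ℕ) : ZMod 3)
  add := by decide +kernel

theorem formA_card : Nat.card formA.ker = 9 := by
  rw [Nat.card_congr (show formA.ker ≃ {v : Fin 27 // formA.th v = 0} from
    { toFun := fun x => ⟨(x : K).v, (Form.mem_ker.1 x.2).2⟩
      invFun := fun v => ⟨⟨0, v.1⟩, Form.mem_ker.2 ⟨rfl, v.2⟩⟩
      left_inv := fun x => Subtype.ext (by
        obtain ⟨⟨a, v⟩, hx⟩ := x
        obtain rfl : a = 0 := (Form.mem_ker.1 hx).1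
        rfl)
      right_inv := fun _ => rfl }), Nat.card_eq_fintype_card]
  decide +kernel

/-- The element of order four commuting with the first representative. -/
def wA : K := ⟨4, 0⟩

/-- Its square. -/
def tA : K := ⟨1, 0⟩

theorem wA_table : wA * rep 3 = rep 3 * wA ∧ wA ^ 4 = 1 ∧ tA * rep 3 = rep 3 * tA ∧
    tA = wA * wA ∧ formA.th (rep 3).v ≠ 0 ∧
    ∀ v : Fin 27, formA.th v = 0 → tA * ⟨0, v⟩ * tA⁻¹ = (⟨0, v⟩ : K)⁻¹ := by decide +kernel

theorem centA_table : ∀ a : Fin 24, ∀ v : Fin 27, (⟨a, v⟩ : K) * rep 3 = rep 3 * ⟨a, v⟩ →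
    a ∈ ([0, 1, 4, 5] : List (Fin 24)) ∧ (⟨a, 0⟩ : K) * rep 3 = rep 3 * ⟨a, 0⟩ ∧
      (⟨a, 0⟩ : K) ^ 4 = 1 ∧ (⟨a, v⟩ : K) = ⟨a, 0⟩ * ⟨0, v⟩ := by decide +kernel

theorem cross_table : ∀ u : Fin 27, formA.th u = 0 → u ≠ 0 →
    (cls (rep 3 * ⟨0, u⟩) = 4 ∨ cls (rep 3 * ⟨0, u⟩) = 5) ∧
      ∀ v : Fin 27, formA.th v = 0 → ∃ i j : Fin 3,
        (⟨0, v⟩ : K) = ⟨0, u⟩ ^ (i : ℕ) * (wA * ⟨0, u⟩ * wA⁻¹) ^ (j : ℕ) := by decide +kernel

theorem joint_table : ∀ u : Fin 27, formA.th u = 0 → u ≠ 0 → ∀ a : Fin 24, ∀ v : Fin 27,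
    (⟨a, v⟩ : K) * rep 3 = rep 3 * ⟨a, v⟩ → (⟨a, v⟩ : K) * ⟨0, u⟩ = ⟨0, u⟩ * ⟨a, v⟩ → a = 0 := by
  decide +kernel

theorem two_classes : ∃ u v : Fin 27, formA.th u = 0 ∧ formA.th v = 0 ∧
    cls (⟨0, u⟩ : K) = 3 ∧ cls (⟨0, v⟩ : K) = 4 := ⟨3, 12, by decide +kernel⟩

theorem normA_count : ((Finset.univ : Finset (Fin 24 × Fin 27)).filter fun p =>
    p.1 ∈ ([0, 1, 4, 5] : List (Fin 24)) ∧ formA.th p.2 = 0).card = 36 := by decide +kernel

/-- Conjugation-invariance of a Sylow subgroup passes to elements of order three. -/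
theorem exists_order_three {M : Type u} [Group M] [Finite M] {N : Subgroup M} (hN : N.Normal)
    (hne : N ≠ ⊥) (hcore : Cfsg.pPrimeCore 3 M = ⊥) (Q : Sylow 3 M) :
    ∃ q ∈ (Q : Subgroup M), q ≠ 1 ∧ q ∈ N := by
  haveI : Fact (Nat.Prime 3) := ⟨Nat.prime_three⟩
  have h3 : 3 ∣ Nat.card N := by
    by_contra h
    exact hne (le_bot_iff.1 (hcore ▸ CfsgLib.Solvable.le_pPrimeCore 3 hN
      ((Nat.prime_three.coprime_iff_not_dvd.2 h).symm)))
  obtain ⟨y, hy⟩ := exists_prime_orderOf_dvd_card' 3 h3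
  have hy' : orderOf (y : M) = 3 := by rw [Subgroup.orderOf_coe, hy]
  have hp : IsPGroup 3 (Subgroup.zpowers (y : M)) :=
    IsPGroup.of_card (p := 3) (n := 1) (by rw [Nat.card_zpowers, hy', pow_one])
  obtain ⟨R, hR⟩ := hp.exists_le_sylow
  obtain ⟨g, rfl⟩ := MulAction.exists_smul_eq M Q R
  have hyR : (y : M) ∈ ((g • Q : Sylow 3 M) : Subgroup M) := hR (Subgroup.mem_zpowers _)
  rw [Sylow.coe_subgroup_smul] at hyR
  obtain ⟨q, hq, hqy⟩ := hyR
  have hqy' : g * q * g⁻¹ = y := hqy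
  refine ⟨q, hq, fun e => ?_, ?_⟩
  · rw [e, mul_one, mul_inv_cancel] at hqy'
    rw [← hqy', orderOf_one] at hy'
    norm_num at hy'
  · rw [show q = g⁻¹ * y * g⁻¹⁻¹ by rw [← hqy']; group]
    exact hN.conj_mem _ y.2 _

variable {G : Type u} [Group G] [Finite G] {φ : K →* G}

theorem Setup.cent_le (h : Setup φ) {y : K} (hy : cls y = 4 ∨ cls y = 5) :
    Subgroup.centralizer ({φ y} : Set G) ≤ φ.range := by
  intro g hg
  rw [Subgroup.mem_centralizer_singleton_iff] at hg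
  obtain ⟨k, hk⟩ := isConj_iff.1 (isConj_rep y)
  have hk' : φ k * φ y * (φ k)⁻¹ = φ (rep (cls y)) := by
    rw [← map_mul, ← map_inv, ← map_mul, hk]
  have hmem : φ k * g * (φ k)⁻¹ ∈ Subgroup.centralizer ({φ (rep (cls y))} : Set G) := by
    rw [Subgroup.mem_centralizer_singleton_iff, ← hk']
    calc φ k * g * (φ k)⁻¹ * (φ k * φ y * (φ k)⁻¹) = φ k * (g * φ y) * (φ k)⁻¹ := by group
      _ = φ k * (φ y * g) * (φ k)⁻¹ := by rw [hg]
      _ = _ := by group
  have hr : φ k * g * (φ k)⁻¹ ∈ φ.range := by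
    rcases hy with e | e <;> rw [e] at hmem
    · exact h.centralizer_b hmem
    · rw [h.centralizer_c] at hmem; exact pp_le_range hmem
  have := mul_mem (mul_mem (inv_mem (MonoidHom.mem_range.2 ⟨k, rfl⟩)) hr)
    (MonoidHom.mem_range.2 ⟨k, rfl⟩)
  simpa [mul_assoc] using this

theorem Split.exists_ker {x : K} {F : Form} {M : Subgroup G} (_ : Split φ x F M) (hx : x ∈ tr)
    (hFx : F.th x.v ≠ 0) {y : K} (hy : y ∈ tr) :
    ∃ e ∈ F.ker, ∃ j : ℕ, y = e * x ^ j := by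
  obtain ⟨j, hj⟩ := zmod_three_mult (F.th y.v) (F.th x.v) hFx
  refine ⟨y * (x ^ (j : ℕ))⁻¹, ?_, j, by simp⟩
  have hz : y * (x ^ (j : ℕ))⁻¹ ∈ tr := mul_mem hy (inv_mem (pow_mem hx _))
  refine Form.mem_ker.2 ⟨hz, ?_⟩
  have e4 := congrArg Multiplicative.toAdd
    (F.hom.map_mul ⟨_, hz⟩ (⟨x, hx⟩ ^ (j : ℕ)))
  have e5 : (⟨_, hz⟩ : tr) * ⟨x, hx⟩ ^ (j : ℕ) = ⟨y, hy⟩ := Subtype.ext (by simp)
  rw [e5, map_pow] at e4
  change F.th y.v = F.th (y * (x ^ (j : ℕ))⁻¹).v + (j : ℕ) • F.th x.v at e4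
  rw [hj] at e4
  simpa using e4.symm

theorem Split.mem_range_of_fix {x : K} {F : Form} {M : Subgroup G} (hM : Split φ x F M)
    (h : Setup φ) (hx : x ∈ tr) (hFx : F.th x.v ≠ 0) {n : G}
    (hn : n ∈ Subgroup.centralizer ({φ x} : Set G))
    (hfix : ∀ z ∈ F.ker.map φ, n * z * n⁻¹ ∈ F.ker.map φ) : n ∈ φ.range := by
  refine h.mem_range_of_fix fun z hz => ?_
  obtain ⟨y, hy, rfl⟩ := hz
  obtain ⟨e, he, j, rfl⟩ := hM.exists_ker hx hFx hy
  obtain ⟨w, hw, hw'⟩ := hfix _ ⟨e, he, rfl⟩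
  have e1 : n * φ (x ^ j) * n⁻¹ = φ (x ^ j) := by
    rw [map_pow, ((show Commute n (φ x) from
      Subgroup.mem_centralizer_singleton_iff.1 hn).pow_right _).eq, mul_inv_cancel_right]
  refine ⟨w * x ^ j, mul_mem (Form.mem_ker.1 hw).1 (pow_mem hx _), ?_⟩
  rw [map_mul, map_mul, hw']
  calc n * φ e * n⁻¹ * φ (x ^ j) = n * φ e * n⁻¹ * (n * φ (x ^ j) * n⁻¹) := by rw [e1]
    _ = _ := by group

/-- The dichotomy for the centralizer of the first class. -/
theorem Setup.centralizer_a (h : Setup φ) :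
    Subgroup.centralizer ({φ (rep 3)} : Set G) ≤ φ.range ∨
      ∃ M : Subgroup G, Split φ (rep 3) formA M ∧ Nonempty (M ≃* alternatingGroup (Fin 6)) := by
  classical
  haveI : Fact (Nat.Prime 3) := ⟨Nat.prime_three⟩
  obtain ⟨hw1, hw4, ht1, htw, hFx, hti⟩ := wA_table
  have hx : rep 3 ∈ tr := mem_tr_iff_cls.2 (by rw [cls_rep]; decide)
  have h81 : ¬ 81 ∣ cen (cls (rep 3)) := by rw [cls_rep]; decide
  obtain ⟨M, hM⟩ := h.exists_split hx h81 formA hFx ht1 (by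
    rintro ⟨a, v⟩ hy h0
    obtain rfl : a = 0 := hy
    exact hti v h0)
  obtain ⟨Q, hQ⟩ := hM.exists_sylow h hx h81 hFx formA_card
  obtain ⟨h3, h1⟩ := orderOf_rep 3 (by decide)
  have hcore := hM.pPrimeCore_eq_bot (h.cores (rep 3) (orderOf_eq_three h3 h1))
  have hmemQ : ∀ m : M, m ∈ (Q : Subgroup M) ↔ (m : G) ∈ formA.ker.map φ := fun m => by
    rw [← hQ]
    exact ⟨fun hm => ⟨m, hm, rfl⟩, fun ⟨d, hd, e⟩ => Subtype.ext e ▸ hd⟩
  have hrep : ∀ q : M, q ∈ (Q : Subgroup M) →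
      ∃ u : Fin 27, formA.th u = 0 ∧ φ ⟨0, u⟩ = (q : G) ∧ (q ≠ 1 → u ≠ 0) := by
    intro q hq
    obtain ⟨⟨a, u⟩, hu, hq'⟩ := (hmemQ q).1 hq
    obtain ⟨hu1, hu2⟩ := Form.mem_ker.1 hu
    obtain rfl : a = 0 := hu1
    refine ⟨u, hu2, hq', fun hq1 e => hq1 (Subtype.ext ?_)⟩
    rw [← hq', e]
    exact map_one φ
  have hin : ∀ u : Fin 27, formA.th u = 0 → ∃ q : M, q ∈ (Q : Subgroup M) ∧ (q : G) = φ ⟨0, u⟩ := by
    intro u hu
    have : φ (⟨0, u⟩ : K) ∈ formA.ker.map φ := ⟨_, Form.mem_ker.2 ⟨rfl, hu⟩, rfl⟩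
    exact ⟨⟨_, hM.ker_le this⟩, (hmemQ _).2 this, rfl⟩
  have hQc : ∀ a ∈ (Q : Subgroup M), ∀ b ∈ (Q : Subgroup M), a * b = b * a := fun a ha b hb => by
    obtain ⟨u, -, hu', -⟩ := hrep a ha
    obtain ⟨v, -, hv', -⟩ := hrep b hb
    refine Subtype.ext ?_
    show (a : G) * b = b * a
    rw [← hu', ← hv', ← map_mul, ← map_mul, tr_comm]
  have hQ3 : ∀ a ∈ (Q : Subgroup M), a ^ 3 = 1 := fun a ha => by
    obtain ⟨u, -, hu', -⟩ := hrep a ha
    refine Subtype.ext ?_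
    show (a : G) ^ 3 = 1
    rw [← hu', ← map_pow, tr_cube, map_one]
  have hQ9 : Nat.card (Q : Subgroup M) = 9 := by
    rw [Nat.card_congr ((Q : Subgroup M).equivMapOfInjective _ M.subtype_injective).toEquiv, hQ,
      h.card_map, formA_card]
  have hkey : ∀ n : M, ∀ k : K, φ k = (n : G) → k * rep 3 = rep 3 * k := fun n k hk => h.inj (by
    rw [map_mul, map_mul, hk]
    exact Subgroup.mem_centralizer_singleton_iff.1 (hM.le n.2))
  -- non-trivial elements of the Sylow subgroup are self-centralising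
  have hcentQ : ∀ q ∈ (Q : Subgroup M), q ≠ 1 → ∀ g : M, g * q = q * g → g ∈ (Q : Subgroup M) := by
    intro q hq hq1 g hg
    obtain ⟨u, hu0, hu', hune⟩ := hrep q hq
    have hu := hune hq1
    have hgq : (g : G) * φ ⟨0, u⟩ = φ ⟨0, u⟩ * g := by rw [hu']; exact congrArg Subtype.val hg
    have hgx : (g : G) * φ (rep 3) = φ (rep 3) * g :=
      Subgroup.mem_centralizer_singleton_iff.1 (hM.le g.2)
    obtain ⟨k, hk⟩ : (g : G) ∈ φ.range :=
      h.cent_le (cross_table u hu0 hu).1 (Subgroup.mem_centralizer_singleton_iff.2 (by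
        rw [map_mul]
        exact ((show Commute (g : G) (φ (rep 3)) from hgx).mul_right hgq).eq))
    have hk0 : k ∈ tr := joint_table u hu0 hu k.h k.v (hkey g k hk)
      (h.inj (by rw [map_mul, map_mul, hk]; exact hgq))
    rw [hmemQ]
    exact ⟨k, Form.mem_ker.2 ⟨hk0, (hM.mem k hk0).1 (by rw [hk]; exact g.2)⟩, hk⟩
  let w : M := ⟨φ wA, hM.four wA hw1 hw4⟩
  have hwQ : ∀ q ∈ (Q : Subgroup M), w * q * w⁻¹ ∈ (Q : Subgroup M) := by
    intro q hq
    obtain ⟨u, hu0, hu', -⟩ := hrep q hq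
    rw [hmemQ]
    have hn : wA * ⟨0, u⟩ * wA⁻¹ ∈ tr := tr_normal.conj_mem _ rfl _
    refine ⟨_, Form.mem_ker.2 ⟨hn, (hM.mem _ hn).1 ?_⟩, ?_⟩
    · rw [map_mul, map_mul, map_inv, hu']
      exact (w * q * w⁻¹).2
    · rw [map_mul, map_mul, map_inv, hu']; rfl
  -- irreducibility
  have hirr : ∀ X : Subgroup M, X ≤ (Q : Subgroup M) → (∀ z ∈ X, w * z * w⁻¹ ∈ X) →
      ∀ q ∈ X, q ≠ 1 → (Q : Subgroup M) ≤ X := by
    intro X hXQ hXw q hq hq1 r hr
    obtain ⟨u, hu0, hu', hune⟩ := hrep q (hXQ hq)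
    obtain ⟨v, hv0, hv', -⟩ := hrep r hr
    obtain ⟨i, j, hij⟩ := (cross_table u hu0 (hune hq1)).2 v hv0
    have : r = q ^ (i : ℕ) * (w * q * w⁻¹) ^ (j : ℕ) := Subtype.ext (by
      rw [← hv', hij, map_mul, map_pow, map_pow, map_mul, map_mul, map_inv, hu']
      rfl)
    rw [this]
    exact mul_mem (pow_mem hq _) (pow_mem (hXw q hq) _)
  have hbig : ∀ N : Subgroup M, N.Normal → N ≠ ⊥ → (Q : Subgroup M) ≤ N := by
    intro N hN hne
    obtain ⟨q, hq, hq1, hqN⟩ := exists_order_three hN hne hcore Q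
    exact (hirr (N ⊓ Q) inf_le_right (fun z hz => ⟨hN.conj_mem z hz.1 w, hwQ z hz.2⟩) q ⟨hqN, hq⟩
      hq1).trans inf_le_left
  by_cases hQn : (Q : Subgroup M).Normal
  · left
    intro c hc
    obtain ⟨m, hm, j, rfl⟩ := hM.gen c hc
    refine mul_mem (hM.mem_range_of_fix h hx hFx (hM.le hm) ?_) (pow_mem (MonoidHom.mem_range.2 ⟨rep 3, rfl⟩) j)
    intro z hz
    exact (hmemQ (⟨m, hm⟩ * ⟨z, hM.ker_le hz⟩ * ⟨m, hm⟩⁻¹)).1
      (hQn.conj_mem _ ((hmemQ ⟨z, hM.ker_le hz⟩).2 hz) _)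
  right
  set L : Subgroup M := Subgroup.normalClosure ((Q : Subgroup M) : Set M)
  haveI hLn : L.Normal := Subgroup.normalClosure_normal
  have hQL : (Q : Subgroup M) ≤ L := Subgroup.subset_normalClosure
  let QL : Sylow 3 L := Q.subtype hQL
  have hQLe : ∀ l : L, l ∈ (QL : Subgroup L) ↔ (l : M) ∈ (Q : Subgroup M) := fun l => Iff.rfl
  have hLcore : Cfsg.pPrimeCore 3 L = ⊥ := by
    have hn : ((Cfsg.pPrimeCore 3 L).map L.subtype).Normal := ⟨by
      rintro _ ⟨l, hl, rfl⟩ m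
      let f : L ≃* L :=
        { toFun := fun y => ⟨m * y * m⁻¹, hLn.conj_mem y y.2 m⟩
          invFun := fun y => ⟨m⁻¹ * y * m, by
            have := hLn.conj_mem y y.2 m⁻¹
            rwa [inv_inv] at this⟩
          left_inv := fun y => Subtype.ext (by simp [mul_assoc])
          right_inv := fun y => Subtype.ext (by simp [mul_assoc])
          map_mul' := fun a b => Subtype.ext (by simp [mul_assoc]) }
      refine ⟨f l, ?_, rfl⟩
      exact CfsgLib.Solvable.le_pPrimeCore 3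
        ((CfsgLib.Solvable.pPrimeCore_normal 3).map f.toMonoidHom f.surjective) (by
          rw [← Nat.card_congr ((Cfsg.pPrimeCore 3 L).equivMapOfInjective _ f.injective).toEquiv]
          exact CfsgLib.Solvable.coprime_card_pPrimeCore 3) ⟨l, hl, rfl⟩⟩
    have h0 : (Cfsg.pPrimeCore 3 L).map L.subtype = ⊥ := le_bot_iff.1 (hcore ▸
      CfsgLib.Solvable.le_pPrimeCore 3 hn (by
        rw [← Nat.card_congr ((Cfsg.pPrimeCore 3 L).equivMapOfInjective _ L.subtype_injective).toEquiv]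
        exact CfsgLib.Solvable.coprime_card_pPrimeCore 3))
    exact (Subgroup.map_eq_bot_iff_of_injective _ L.subtype_injective).1 h0
  have hfrat : ∀ m : M, ∃ n : M, (∀ q ∈ (Q : Subgroup M), n * q * n⁻¹ ∈ (Q : Subgroup M)) ∧
      ∃ l ∈ L, m = l * n := by
    intro m
    have hsup := Sylow.normalizer_sup_eq_top QL
    have hmap : (QL : Subgroup L).map L.subtype = (Q : Subgroup M) :=
      Subgroup.map_subgroupOf_eq_of_le hQL
    rw [hmap, sup_comm] at hsup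
    have hm : m ∈ L ⊔ Subgroup.normalizer ((Q : Subgroup M) : Set M) := by rw [hsup]; trivial
    rw [← SetLike.mem_coe, Subgroup.coe_mul_of_right_le_normalizer_left L _
      (by rw [Subgroup.normalizer_eq_top_iff.2 hLn]; exact le_top)] at hm
    obtain ⟨l, hl, n, hn, rfl⟩ := hm
    exact ⟨n, fun q hq => (Subgroup.mem_normalizer_iff.1 hn q).1 hq, l, hl, rfl⟩
  have hQLn : ¬ (QL : Subgroup L).Normal := fun hn => hQn ⟨fun q hq m => by
    obtain ⟨n, hnQ, l, hl, rfl⟩ := hfrat m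
    have := hn.conj_mem ⟨_, hQL (hnQ q hq)⟩ (hnQ q hq) ⟨l, hl⟩
    rw [show l * n * q * (l * n)⁻¹ = l * (n * q * n⁻¹) * l⁻¹ by group]
    exact this⟩
  haveI : Nontrivial L := by
    haveI : Nontrivial (Q : Subgroup M) := Finite.one_lt_card_iff_nontrivial.1 (by rw [hQ9]; norm_num)
    obtain ⟨⟨q, hq⟩, hq1⟩ := exists_ne (1 : (Q : Subgroup M))
    exact ⟨⟨⟨q, hQL hq⟩, 1, fun e => hq1 (Subtype.ext (congrArg Subtype.val e :))⟩⟩
  haveI : IsSimpleGroup L := ⟨fun K' hK' => by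
    by_contra! hcon
    obtain ⟨hne, hnetop⟩ := hcon
    obtain ⟨q, hq, hq1, hqK⟩ := exists_order_three hK' hne hLcore QL
    by_cases hQK : ∀ r : L, (r : M) ∈ (Q : Subgroup M) → r ∈ K'
    · apply hnetop
      have hL : L ≤ K'.map L.subtype := by
        refine (Subgroup.closure_le _).2 fun z hz => ?_
        obtain ⟨r, hr, hc⟩ := Group.mem_conjugatesOfSet_iff.1 hz
        obtain ⟨m, rfl⟩ := isConj_iff.1 hc
        obtain ⟨n, hnQ, l, hl, rfl⟩ := hfrat m
        exact ⟨⟨l, hl⟩ * ⟨_, hQL (hnQ r hr)⟩ * ⟨l, hl⟩⁻¹,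
          hK'.conj_mem _ (hQK _ (hnQ r hr)) _, by simp [mul_assoc]⟩
      refine eq_top_iff.2 fun z _ => ?_
      obtain ⟨y, hy, e⟩ := hL z.2
      rwa [← show y = z from Subtype.ext e]
    push Not at hQK
    obtain ⟨r, hrQ, hrK⟩ := hQK
    let cw : L →* L :=
      { toFun := fun y => ⟨w * y * w⁻¹, hLn.conj_mem y y.2 w⟩
        map_one' := Subtype.ext (by simp)
        map_mul' := fun a b => Subtype.ext (by simp [mul_assoc]) }
    have hcs : Function.Surjective cw := fun y =>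
      ⟨⟨w⁻¹ * y * w⁻¹⁻¹, hLn.conj_mem y y.2 w⁻¹⟩, Subtype.ext (by simp [cw, mul_assoc])⟩
    set K2 := K'.map cw
    have hK2 : K2.Normal := hK'.map cw hcs
    have hdisj : K' ⊓ K2 = ⊥ := by
      by_contra hne'
      haveI := hK'
      haveI := hK2
      obtain ⟨p, hp, hp1, hpK, hpK2⟩ := exists_order_three (inferInstance : (K' ⊓ K2).Normal)
        hne' hLcore QL
      -- `p` and its twist generate the Sylow subgroup
      obtain ⟨p', hp', hpe⟩ := hpK2
      have hp'Q : (p' : M) ∈ (Q : Subgroup M) := by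
        have e : w * (p' : M) * w⁻¹ = p := congrArg Subtype.val hpe
        have hw2 := hwQ _ (hwQ _ (hwQ _ ((hQLe p).1 hp)))
        have hw4' : w ^ 4 = 1 := Subtype.ext (by show φ wA ^ 4 = 1; rw [← map_pow, hw4, map_one])
        rw [← e] at hw2
        have : w * (w * (w * (w * (p' : M) * w⁻¹) * w⁻¹) * w⁻¹) * w⁻¹ =
            w ^ 4 * p' * (w ^ 4)⁻¹ := by simp [pow_succ, mul_assoc]
        rw [this, hw4', one_mul, inv_one, mul_one] at hw2
        exact hw2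
      have hp'1 : (p' : M) ≠ 1 := fun e => hp1 (by
        rw [← hpe, show p' = 1 from Subtype.ext e, map_one])
      obtain ⟨u, hu0, hu', hune⟩ := hrep _ hp'Q
      obtain ⟨v, hv0, hv', -⟩ := hrep (r : M) hrQ
      obtain ⟨i, j, hij⟩ := (cross_table u hu0 (hune hp'1)).2 v hv0
      refine hrK ?_
      have : r = p' ^ (i : ℕ) * p ^ (j : ℕ) := Subtype.ext (Subtype.ext (by
        rw [← hv', hij, map_mul, map_pow, map_pow, map_mul, map_mul, map_inv, hu', ← hpe]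
        rfl))
      rw [this]
      exact mul_mem (pow_mem hp' _) (pow_mem hpK _)
    -- the two commute, so the first is inside the Sylow subgroup
    have hq' : cw q ∈ K2 := ⟨q, hqK, rfl⟩
    have hcwQ : ((cw q : L) : M) ∈ (Q : Subgroup M) := hwQ _ ((hQLe q).1 hq)
    have hcw1 : ((cw q : L) : M) ≠ 1 := fun e => hq1 (Subtype.ext (by
      have e' : w * (q : M) * w⁻¹ = 1 := e
      rwa [conj_eq_one_iff] at e'))
    have hKQ : ∀ k ∈ K', (k : M) ∈ (Q : Subgroup M) := fun k hk =>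
      hcentQ _ hcwQ hcw1 _ (congrArg Subtype.val
        (Subgroup.commute_of_normal_of_disjoint K' K2 hK' hK2 (disjoint_iff.2 hdisj) k _ hk hq').eq)
    apply hQLn
    refine ⟨fun p hp l => ?_⟩
    obtain ⟨u, hu0, hu', hune⟩ := hrep _ ((hQLe q).1 hq)
    obtain ⟨v, hv0, hv', -⟩ := hrep _ ((hQLe p).1 hp)
    have hqne : (q : M) ≠ 1 := fun e => hq1 (Subtype.ext e)
    obtain ⟨i, j, hij⟩ := (cross_table u hu0 (hune hqne)).2 v hv0
    have hpe : p = q ^ (i : ℕ) * cw q ^ (j : ℕ) := Subtype.ext (Subtype.ext (by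
      rw [← hv', hij, map_mul, map_pow, map_pow, map_mul, map_mul, map_inv, hu']
      rfl))
    rw [hpe, show l * (q ^ (i : ℕ) * cw q ^ (j : ℕ)) * l⁻¹ =
      (l * q ^ (i : ℕ) * l⁻¹) * (l * cw q ^ (j : ℕ) * l⁻¹) by group]
    refine mul_mem ((hQLe _).2 (hKQ _ (hK'.conj_mem _ (pow_mem hqK _) l))) ((hQLe _).2 ?_)
    obtain ⟨y, hy, hye⟩ := hK2.conj_mem _ (pow_mem hq' (j : ℕ)) l
    rw [← hye]
    exact hwQ _ (hKQ y hy)⟩
  have hS : CfsgLib.ThreeNine.Setup (QL : Subgroup L) := by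
    refine ⟨?_, fun a ha => Subtype.ext (hQ3 _ ((hQLe a).1 ha)),
      fun a ha b hb => Subtype.ext (hQc _ ((hQLe a).1 ha) _ ((hQLe b).1 hb)), ?_⟩
    · rw [← hQ9]
      exact Nat.card_congr (Subgroup.subgroupOfEquivOfLe hQL).toEquiv
    · intro s hs hs1
      refine le_antisymm (fun g hg => (hQLe g).2 (hcentQ _ ((hQLe s).1 hs)
        (fun e => hs1 (Subtype.ext e)) _ ?_)) fun g hg => ?_
      · exact congrArg Subtype.val (Subgroup.mem_centralizer_singleton_iff.1 hg)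
      · exact Subgroup.mem_centralizer_singleton_iff.2
          (Subtype.ext (hQc _ ((hQLe g).1 hg) _ ((hQLe s).1 hs)))
  obtain ⟨e⟩ := hS.iso_alternatingSix QL rfl (by
    obtain ⟨u, v, hu, hv, hcu, hcv⟩ := two_classes
    obtain ⟨a, ha, ha'⟩ := hin u hu
    obtain ⟨b, hb, hb'⟩ := hin v hv
    have hord : ∀ (z : M) (hz : z ∈ (Q : Subgroup M)), z ≠ 1 → orderOf (⟨z, hQL hz⟩ : L) = 3 := by
      intro z hz hz1
      refine orderOf_eq_prime (Subtype.ext (hQ3 z hz)) fun e => hz1 (congrArg Subtype.val e)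
    have hne1 : ∀ (z : M) (t : Fin 27) (c : Fin 14), c ≠ 0 → cls (⟨0, t⟩ : K) = c →
        (z : G) = φ ⟨0, t⟩ → z ≠ 1 := by
      intro z t c hc0 hc hz e
      rw [e] at hz
      have : (⟨0, t⟩ : K) = 1 := h.inj (by rw [map_one]; exact hz.symm)
      rw [this, show cls 1 = 0 from by decide +kernel] at hc
      exact hc0 hc.symm
    refine ⟨⟨a, hQL ha⟩, ⟨b, hQL hb⟩, hord a ha (hne1 a u 3 (by decide) hcu ha'),
      hord b hb (hne1 b v 4 (by decide) hcv hb'), fun g hg => ?_⟩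
    have hg' : ((g : M) : G) * φ ⟨0, u⟩ * ((g : M) : G)⁻¹ = φ ⟨0, v⟩ := by
      rw [← ha', ← hb']
      exact congrArg (fun z : L => ((z : M) : G)) hg
    have := h.cls_eq_of_isConj (x := ⟨0, u⟩) (y := ⟨0, v⟩) rfl rfl (isConj_iff.2 ⟨_, hg'⟩)
    rw [hcu, hcv] at this
    exact absurd this (by decide))
  have hcardL : Nat.card L = 360 := by
    rw [Nat.card_congr e.toEquiv, nat_card_alternatingGroup]
    simp [Nat.factorial]
  have hNL := (CfsgLib.InvChar.card_sylow_three hcardL QL).2.2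
  set NQ := Subgroup.normalizer ((Q : Subgroup M) : Set M)
  have hNM : Nat.card NQ ≤ 36 := by
    have hex : ∀ n : NQ, ∃ k : K, φ k = ((n : M) : G) := fun n =>
      hM.mem_range_of_fix h hx hFx (hM.le (n : M).2) fun z hz =>
        (hmemQ ((n : M) * ⟨z, hM.ker_le hz⟩ * (n : M)⁻¹)).1
          ((Subgroup.mem_normalizer_iff.1 n.2 _).1 ((hmemQ ⟨z, hM.ker_le hz⟩).2 hz))
    choose kf hkf using hex
    rw [← normA_count, ← Fintype.card_coe, ← Nat.card_eq_fintype_card]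
    refine Nat.card_le_card_of_injective (fun n => ⟨((kf n).h, (kf n).v), ?_⟩) fun a b hab => ?_
    · have hc := hkey (n : M) (kf n) (hkf n)
      obtain ⟨hl, ha0, ha4, hdec⟩ := centA_table _ _ hc
      refine Finset.mem_filter.2 ⟨Finset.mem_univ _, hl, (hM.mem ⟨0, (kf n).v⟩ rfl).1 ?_⟩
      have hk' : φ (kf n) = φ ⟨(kf n).h, 0⟩ * φ ⟨0, (kf n).v⟩ := by
        rw [← map_mul]; exact congrArg φ hdec
      rw [show φ (⟨0, (kf n).v⟩ : K) = (φ ⟨(kf n).h, 0⟩)⁻¹ * φ (kf n) by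
        rw [hk', inv_mul_cancel_left], hkf]
      exact mul_mem (inv_mem (hM.four _ ha0 ha4)) (n : M).2
    · have h' := congrArg Subtype.val hab
      simp only [Prod.mk.injEq] at h'
      have := congrArg φ (show kf a = kf b from K.ext h'.1 h'.2)
      rw [hkf, hkf] at this
      exact Subtype.ext (Subtype.ext this)
  have hNsub : (Subgroup.normalizer ((QL : Subgroup L) : Set L)).map L.subtype ≤ NQ := by
    rintro _ ⟨l, hl, rfl⟩
    rw [Subgroup.mem_normalizer_iff]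
    intro z
    refine ⟨fun hz => (Subgroup.mem_normalizer_iff.1 hl ⟨z, hQL hz⟩).1 hz, fun hz => ?_⟩
    have hzL : z ∈ L := by
      have := mul_mem (mul_mem (inv_mem l.2) (hQL hz)) l.2
      simpa [mul_assoc] using this
    exact (Subgroup.mem_normalizer_iff.1 hl ⟨z, hzL⟩).2 hz
  have heq : (Subgroup.normalizer ((QL : Subgroup L) : Set L)).map L.subtype = NQ :=
    CfsgLib.Solvable.eq_of_le_of_card_le hNsub (by
      rw [← Nat.card_congr (Subgroup.equivMapOfInjective _ _ L.subtype_injective).toEquiv, hNL]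
      exact hNM)
  have htop : L = ⊤ := by
    have hsup := Sylow.normalizer_sup_eq_top QL
    rw [show (QL : Subgroup L).map L.subtype = (Q : Subgroup M) from
      Subgroup.map_subgroupOf_eq_of_le hQL] at hsup
    rw [eq_top_iff, ← hsup, sup_le_iff]
    refine ⟨?_, le_rfl⟩
    show NQ ≤ L
    rw [← heq]
    exact Subgroup.map_subtype_le _
  exact ⟨M, hM, ⟨((MulEquiv.subgroupCongr htop).trans Subgroup.topEquiv).symm.trans e⟩⟩

end CfsgLib.ThreeLocalNine
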