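import Cfsg.Agent.ThreeLocalNine.Basic
import Cfsg.Agent.SmithTyrer.Main
import Mathlib.GroupTheory.Transfer

/-!
# Centralizers of the elements of the core: the transfer splitting, and the second class
-/

set_option autoImplicit false
set_option maxRecDepth 100000
set_option linter.style.haveILetI false

namespace CfsgLib.ThreeLocalNine

open CfsgLib.AltNine

universe u

/-- A linear form on the translations. -/
structure Form where
  /-- the form -/
  th : Fin 27 → ZMod 3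
  /-- additivity -/
  add : ∀ u v, th (av u v) = th u + th v

/-- The form on the core. -/
def Form.hom (F : Form) : tr →* Multiplicative (ZMod 3) where
  toFun x := Multiplicative.ofAdd (F.th (x : K).v)
  map_one' := by
    have h := F.add 0 0
    rw [(av_zero 0).1] at h
    show Multiplicative.ofAdd (F.th 0) = 1
    rw [show F.th 0 = 0 from (by simpa using h.symm), ofAdd_zero]
  map_mul' x y := by
    have hy : (y : K).h = 0 := y.2
    show Multiplicative.ofAdd (F.th ((x : K) * (y : K)).v) = _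
    rw [mul_def, hy, (act_one _).1, F.add, ofAdd_add]

/-- The kernel of a form, as a subgroup of the model. -/
def Form.ker (F : Form) : Subgroup K := F.hom.ker.map tr.subtype

theorem Form.mem_ker {F : Form} {x : K} : x ∈ F.ker ↔ x ∈ tr ∧ F.th x.v = 0 := by
  constructor
  · rintro ⟨⟨y, hy⟩, hy', rfl⟩
    exact ⟨hy, Multiplicative.ofAdd.injective (MonoidHom.mem_ker.1 hy')⟩
  · rintro ⟨h1, h2⟩
    exact ⟨⟨x, h1⟩, MonoidHom.mem_ker.2 (show Multiplicative.ofAdd (F.th x.v) = 1 by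
      rw [h2, ofAdd_zero]), rfl⟩

theorem zmod_three_facts : ∀ a : Multiplicative (ZMod 3),
    a ^ 3 = 1 ∧ (a * a = 1 → a = 1) ∧ (a ^ 4 = 1 → a = 1) := by decide

theorem zmod_three_gen : ∀ a b : Multiplicative (ZMod 3), b ≠ 1 → ∃ j : Fin 3, a = b ^ (j : ℕ) := by
  decide

theorem zmod_three_mult : ∀ a b : ZMod 3, b ≠ 0 → ∃ j : Fin 3, a = (j : ℕ) • b := by decide

theorem zmod_three_pow : ∀ a : Multiplicative (ZMod 3), ∀ j : Fin 3, a ≠ 1 → a ^ (j : ℕ) = 1 →
    (j : ℕ) = 0 := by decide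

theorem cube_tr_ne {i : ℕ} (hi : ¬ 3 ∣ i) {a : Multiplicative (ZMod 3)} (ha : a ^ i = 1) : a = 1 := by
  rw [← orderOf_eq_one_iff]
  exact Nat.eq_one_of_dvd_coprimes ((Nat.prime_three.coprime_iff_not_dvd).2 hi)
    (orderOf_dvd_of_pow_eq_one (zmod_three_facts a).1) (orderOf_dvd_of_pow_eq_one ha)

variable {G : Type u} [Group G] [Finite G] {φ : K →* G}

/-- The normal subgroup of index three in the centralizer of a core element. -/
structure Split (φ : K →* G) (x : K) (F : Form) (M : Subgroup G) : Prop where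
  le : M ≤ Subgroup.centralizer ({φ x} : Set G)
  conj : ∀ c ∈ Subgroup.centralizer ({φ x} : Set G), ∀ m ∈ M, c * m * c⁻¹ ∈ M
  gen : ∀ c ∈ Subgroup.centralizer ({φ x} : Set G), ∃ m ∈ M, ∃ j : ℕ, c = m * φ x ^ j
  mem : ∀ y ∈ tr, φ y ∈ M ↔ F.th y.v = 0
  four : ∀ k : K, k * x = x * k → k ^ 4 = 1 → φ k ∈ M

namespace Setup

variable (h : Setup φ)
include h

theorem core_le_centralizer {x : K} (hx : x ∈ tr) :
    core φ ≤ Subgroup.centralizer ({φ x} : Set G) := fun _ hz =>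
  Subgroup.mem_centralizer_singleton_iff.2 (core_comm hz ⟨x, hx, rfl⟩)

/-- The core is a Sylow subgroup of the centralizer of an element of the first two classes. -/
theorem core_sylow {x : K} (hx : x ∈ tr) (h81 : ¬ 81 ∣ cen (cls x)) :
    ∃ S : Sylow 3 (Subgroup.centralizer ({φ x} : Set G)),
      (S : Subgroup (Subgroup.centralizer ({φ x} : Set G))).map (Subgroup.subtype _) = core φ := by
  haveI : Fact (Nat.Prime 3) := ⟨Nat.prime_three⟩
  set C := Subgroup.centralizer ({φ x} : Set G)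
  have hJC : core φ ≤ C := h.core_le_centralizer hx
  obtain ⟨S, hS⟩ := ((IsPGroup.of_card (p := 3) (n := 3) (h.card_core.trans rfl)).of_equiv
    (Subgroup.subgroupOfEquivOfLe hJC).symm).exists_le_sylow
  refine ⟨S, ?_⟩
  set R := (S : Subgroup C).map C.subtype
  have hR : IsPGroup 3 R := S.2.map _
  have hJR : core φ ≤ R := fun z hz => ⟨⟨z, hJC hz⟩, hS hz, rfl⟩
  have hRC : R ≤ C := Subgroup.map_subtype_le _
  by_contra hne
  have hlt : (core φ).subgroupOf R < ⊤ := lt_top_iff_ne_top.2 fun e => hne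
    (le_antisymm (Subgroup.subgroupOf_eq_top.1 e) hJR)
  haveI := hR.isNilpotent
  obtain ⟨⟨g, hgR⟩, hgn, hgJ⟩ := SetLike.exists_of_lt
    (Group.normalizerCondition_of_isNilpotent _ hlt)
  have hgr : g ∈ φ.range := h.mem_range_of_fix fun z hz =>
    ((Subgroup.mem_normalizer_iff.1 hgn) ⟨z, hJR hz⟩).1 hz
  set T := R ⊓ φ.range
  have hT : IsPGroup 3 T := hR.to_le inf_le_left
  have hTC : T ≤ (Subgroup.centralizer ({x} : Set K)).map φ := by
    rintro z ⟨hz, k, rfl⟩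
    refine ⟨k, Subgroup.mem_centralizer_singleton_iff.2 (h.inj ?_), rfl⟩
    rw [map_mul, map_mul]
    exact Subgroup.mem_centralizer_singleton_iff.1 (hRC hz)
  have hJT : core φ ≤ T := le_inf hJR fun z ⟨k, _, e⟩ => ⟨k, e⟩
  obtain ⟨n, hn⟩ := hT.exists_card_eq
  have hd := Subgroup.card_dvd_of_le hTC
  rw [h.card_map, card_centralizer, hn] at hd
  have h27 := Subgroup.card_dvd_of_le hJT
  rw [h.card_core, hn] at h27
  have hn3 : n ≤ 3 := by
    by_contra hlt'
    exact h81 ((pow_dvd_pow 3 (show 4 ≤ n by omega)).trans hd)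
  have : core φ = T := CfsgLib.Solvable.eq_of_le_of_card_le hJT (by
    rw [hn, h.card_core]
    exact (Nat.pow_le_pow_right (by norm_num) hn3).trans (by norm_num))
  exact hgJ (show g ∈ core φ by rw [this]; exact ⟨hgR, hgr⟩)

omit h [Finite G] in
/-- A central element in a Sylow subgroup outside the kernel of a form survives the transfer. -/
theorem exists_hom_of_central {C : Type u} [Group C] [Finite C] (S : Sylow 3 C) {z : C}
    (hz : z ∈ (S : Subgroup C)) (hcen : ∀ c : C, c * z = z * c)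
    (f : (S : Subgroup C) →* Multiplicative (ZMod 3)) (hf : f ⟨z, hz⟩ ≠ 1) :
    ∃ ψ : C →* Multiplicative (ZMod 3), ψ z ≠ 1 := by
  haveI : Fact (Nat.Prime 3) := ⟨Nat.prime_three⟩
  refine ⟨MonoidHom.transfer f, fun e1 => hf ?_⟩
  have key : ∀ (k : ℕ) (g₀ : C), g₀⁻¹ * z ^ k * g₀ ∈ (S : Subgroup C) →
      g₀⁻¹ * z ^ k * g₀ = z ^ k := fun k g₀ _ => by
    rw [mul_assoc, ← ((show Commute g₀ z from hcen g₀).pow_right k).eq, inv_mul_cancel_left]
  have ev := MonoidHom.transfer_eq_pow f z key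
  refine cube_tr_ne S.not_dvd_index ?_
  rw [← map_pow, ← e1]
  exact ev.symm

/-- Transfer splits off a central element of the core. -/
theorem exists_split {x : K} (hx : x ∈ tr) (h81 : ¬ 81 ∣ cen (cls x)) (F : Form)
    (hFx : F.th x.v ≠ 0) {t : K} (htx : t * x = x * t)
    (hinv : ∀ y ∈ tr, F.th y.v = 0 → t * y * t⁻¹ = y⁻¹) : ∃ M, Split φ x F M := by
  haveI : Fact (Nat.Prime 3) := ⟨Nat.prime_three⟩
  set C := Subgroup.centralizer ({φ x} : Set G)
  obtain ⟨S, hS⟩ : ∃ S : Sylow 3 C, (S : Subgroup C).map C.subtype = core φ := h.core_sylow hx h81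
  let xC : C := ⟨φ x, Subgroup.mem_centralizer_singleton_iff.2 rfl⟩
  obtain ⟨ψ, hψx⟩ : ∃ ψ : C →* Multiplicative (ZMod 3), ψ xC ≠ 1 := by
    have hmemS : ∀ c : C, c ∈ (S : Subgroup C) → (c : G) ∈ core φ := fun c hc =>
      hS ▸ Subgroup.mem_map.2 ⟨c, hc, rfl⟩
    have hxS : xC ∈ (S : Subgroup C) := by
      have hx' : φ x ∈ (S : Subgroup C).map C.subtype := by rw [hS]; exact ⟨x, hx, rfl⟩
      obtain ⟨c, hc, e⟩ := Subgroup.mem_map.1 hx'
      exact (Subtype.ext (a2 := xC) e) ▸ hc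
    let ι : (S : Subgroup C) →* core φ :=
      { toFun := fun s => ⟨((s : C) : G), hmemS s.1 s.2⟩
        map_one' := rfl
        map_mul' := fun _ _ => rfl }
    let e : tr ≃* core φ := tr.equivMapOfInjective φ h.inj
    refine exists_hom_of_central S hxS
      (fun c => Subtype.ext (Subgroup.mem_centralizer_singleton_iff.1 c.2))
      (F.hom.comp (e.symm.toMonoidHom.comp ι)) ?_
    show F.hom (e.symm (ι ⟨xC, hxS⟩)) ≠ 1
    rw [show ι ⟨xC, hxS⟩ = e ⟨x, hx⟩ from Subtype.ext rfl, e.symm_apply_apply]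
    exact fun e1 => hFx (Multiplicative.ofAdd.injective (e1.trans ofAdd_zero.symm))
  have hfour : ∀ k : K, ∀ hk : k * x = x * k, k ^ 4 = 1 →
      ψ ⟨φ k, Subgroup.mem_centralizer_singleton_iff.2 (by rw [← map_mul, ← map_mul, hk])⟩ = 1 := by
    intro k hk hk4
    refine (zmod_three_facts _).2.2 ?_
    rw [← map_pow, show (⟨φ k, _⟩ : C) ^ 4 = 1 from Subtype.ext (by
      show φ k ^ 4 = 1
      rw [← map_pow, hk4, map_one]), map_one]
  let tC : C := ⟨φ t, Subgroup.mem_centralizer_singleton_iff.2 (by rw [← map_mul, ← map_mul, htx])⟩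
  have hker : ∀ y ∈ tr, ∀ hyC : φ y ∈ C, F.th y.v = 0 → ψ ⟨φ y, hyC⟩ = 1 := by
    intro y hy hyC h0
    refine (zmod_three_facts _).2.1 ?_
    have e2 : tC * ⟨φ y, hyC⟩ * tC⁻¹ = (⟨φ y, hyC⟩ : C)⁻¹ := Subtype.ext (by
      show φ t * φ y * (φ t)⁻¹ = (φ y)⁻¹
      rw [← map_inv φ t, ← map_mul, ← map_mul, hinv y hy h0, map_inv])
    have e3 := congrArg ψ e2
    rw [map_mul, map_mul, map_inv, map_inv, mul_comm (ψ tC), mul_assoc, mul_inv_cancel, mul_one] at e3
    calc ψ ⟨φ y, hyC⟩ * ψ ⟨φ y, hyC⟩ = (ψ ⟨φ y, hyC⟩)⁻¹ * ψ ⟨φ y, hyC⟩ := by rw [← e3]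
      _ = 1 := inv_mul_cancel _
  refine ⟨ψ.ker.map C.subtype, ?_⟩
  have hmem : ∀ (g : G) (hg : g ∈ C), g ∈ ψ.ker.map C.subtype ↔ ψ ⟨g, hg⟩ = 1 := fun g hg =>
    ⟨fun ⟨c, hc, e⟩ => Subtype.ext (a2 := (⟨g, hg⟩ : C)) e ▸ hc, fun h1 => ⟨⟨g, hg⟩, h1, rfl⟩⟩
  refine ⟨Subgroup.map_subtype_le _, ?_, ?_, ?_, ?_⟩
  · rintro c hc _ ⟨m, hm, rfl⟩
    exact ⟨⟨c, hc⟩ * m * ⟨c, hc⟩⁻¹, (MonoidHom.normal_ker ψ).conj_mem m hm _, rfl⟩
  · intro c hc
    obtain ⟨j, hj⟩ := zmod_three_gen (ψ ⟨c, hc⟩) (ψ xC) hψx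
    refine ⟨c * (φ x ^ (j : ℕ))⁻¹, ?_, j, by group⟩
    refine ⟨⟨c, hc⟩ * (xC ^ (j : ℕ))⁻¹, ?_, rfl⟩
    rw [SetLike.mem_coe, MonoidHom.mem_ker, map_mul, map_inv, map_pow, hj, mul_inv_cancel]
  · intro y hy
    have hyC := h.core_le_centralizer hx ⟨y, hy, rfl⟩
    rw [hmem _ hyC]
    refine ⟨fun h1 => ?_, hker y hy hyC⟩
    obtain ⟨j, hj⟩ := zmod_three_mult (F.th y.v) (F.th x.v) hFx
    -- remove the multiple of `x`
    have hxj : x ^ (j : ℕ) ∈ tr := pow_mem hx _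
    set z := y * (x ^ (j : ℕ))⁻¹
    have hz : z ∈ tr := mul_mem hy (inv_mem hxj)
    have hz0 : F.th z.v = 0 := by
      have e4 := congrArg Multiplicative.toAdd
        (F.hom.map_mul ⟨z, hz⟩ (⟨x, hx⟩ ^ (j : ℕ)))
      have e5 : (⟨z, hz⟩ : tr) * ⟨x, hx⟩ ^ (j : ℕ) = ⟨y, hy⟩ := Subtype.ext (by simp [z])
      rw [e5, map_pow] at e4
      change F.th y.v = F.th z.v + _ at e4
      change F.th y.v = F.th z.v + (j : ℕ) • F.th x.v at e4
      rw [hj] at e4
      simpa using e4.symm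
    have hzC := h.core_le_centralizer hx ⟨z, hz, rfl⟩
    have e6 : (⟨φ y, hyC⟩ : C) = ⟨φ z, hzC⟩ * xC ^ (j : ℕ) := Subtype.ext (by
      show φ y = φ z * φ x ^ (j : ℕ)
      rw [← map_pow, ← map_mul]; congr 1; simp [z])
    rw [e6, map_mul, hker z hz hzC hz0, one_mul, map_pow] at h1
    have hj0 : (j : ℕ) = 0 := zmod_three_pow _ j hψx h1
    rw [hj, hj0, zero_smul]
  · intro k hk hk4
    rw [hmem _ (Subgroup.mem_centralizer_singleton_iff.2 (by rw [← map_mul, ← map_mul, hk]))]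
    exact hfour k hk hk4

end Setup

namespace Split

variable {x : K} {F : Form} {M : Subgroup G} (hM : Split φ x F M)
include hM

/-- The kernel of the form inside the group. -/
theorem ker_le : F.ker.map φ ≤ M := by
  rintro _ ⟨y, hy, rfl⟩
  obtain ⟨h1, h2⟩ := Form.mem_ker.1 hy
  exact (hM.mem y h1).2 h2

theorem pPrimeCore_eq_bot (hc : Cfsg.pPrimeCore 3 (Subgroup.centralizer ({φ x} : Set G)) = ⊥) :
    Cfsg.pPrimeCore 3 M = ⊥ := by
  haveI : Fact (Nat.Prime 3) := ⟨Nat.prime_three⟩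
  set C := Subgroup.centralizer ({φ x} : Set G)
  have hco : (Nat.card (Cfsg.pPrimeCore 3 M)).Coprime 3 := CfsgLib.Solvable.coprime_card_pPrimeCore 3
  haveI : (Cfsg.pPrimeCore 3 M).Normal := CfsgLib.Solvable.pPrimeCore_normal 3
  let N : Subgroup C := (Cfsg.pPrimeCore 3 M).map (Subgroup.inclusion hM.le)
  have hN : N.Normal := ⟨by
    rintro _ ⟨m, hm, rfl⟩ c
    let f : M ≃* M :=
      { toFun := fun y => ⟨c * y * (c : G)⁻¹, hM.conj c c.2 y y.2⟩
        invFun := fun y => ⟨(c : G)⁻¹ * y * c, by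
          have := hM.conj _ (inv_mem c.2) y y.2
          rwa [inv_inv] at this⟩
        left_inv := fun y => Subtype.ext (by simp [mul_assoc])
        right_inv := fun y => Subtype.ext (by simp [mul_assoc])
        map_mul' := fun a b => Subtype.ext (by simp [mul_assoc]) }
    refine ⟨f m, ?_, rfl⟩
    have hle : (Cfsg.pPrimeCore 3 M).map f.toMonoidHom ≤ Cfsg.pPrimeCore 3 M :=
      CfsgLib.Solvable.le_pPrimeCore 3 ((CfsgLib.Solvable.pPrimeCore_normal 3).map _ f.surjective) (by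
        rwa [← Nat.card_congr ((Cfsg.pPrimeCore 3 M).equivMapOfInjective _ f.injective).toEquiv])
    exact hle ⟨m, hm, rfl⟩⟩
  have h0 : N = ⊥ := le_bot_iff.1 (hc ▸ CfsgLib.Solvable.le_pPrimeCore 3 hN (by
    rwa [← Nat.card_congr ((Cfsg.pPrimeCore 3 M).equivMapOfInjective _
      (Subgroup.inclusion_injective hM.le)).toEquiv]))
  exact (Subgroup.map_eq_bot_iff_of_injective _ (Subgroup.inclusion_injective hM.le)).1 h0

/-- The kernel of the form is a Sylow subgroup. -/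
theorem exists_sylow (h : Setup φ) (hx : x ∈ tr) (h81 : ¬ 81 ∣ cen (cls x)) (hFx : F.th x.v ≠ 0)
    (hcard : Nat.card F.ker = 9) :
    ∃ Q : Sylow 3 M, (Q : Subgroup M).map M.subtype = F.ker.map φ := by
  haveI : Fact (Nat.Prime 3) := ⟨Nat.prime_three⟩
  have hE : Nat.card (F.ker.map φ) = 9 := (h.card_map _).trans hcard
  obtain ⟨Q, hQ⟩ := ((IsPGroup.of_card (p := 3) (n := 2) (hE.trans rfl)).of_equiv
    (Subgroup.subgroupOfEquivOfLe hM.ker_le).symm).exists_le_sylow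
  have hsub : F.ker.map φ ≤ (Q : Subgroup M).map M.subtype := fun z hz =>
    ⟨⟨z, hM.ker_le hz⟩, hQ hz, rfl⟩
  refine ⟨Q, (CfsgLib.Solvable.eq_of_le_of_card_le hsub ?_).symm⟩
  rw [hE]
  set C := Subgroup.centralizer ({φ x} : Set G)
  obtain ⟨S, hS⟩ := h.core_sylow hx h81
  set R := (Q : Subgroup M).map M.subtype
  have hR : IsPGroup 3 R := Q.2.map _
  have hRC : R ≤ C := (Subgroup.map_subtype_le _).trans hM.le
  obtain ⟨T, hT⟩ := (hR.of_equiv (Subgroup.subgroupOfEquivOfLe hRC).symm).exists_le_sylow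
  obtain ⟨u, rfl⟩ := MulAction.exists_smul_eq C S T
  have hin : R ≤ (core φ ⊓ M).map (MulAut.conj (u : G)).toMonoidHom := by
    intro z hz
    have hz' : (⟨z, hRC hz⟩ : C) ∈ ((u • S : Sylow 3 C) : Subgroup C) := hT hz
    rw [Sylow.coe_subgroup_smul] at hz'
    obtain ⟨s, hs, hsz⟩ := hz'
    have hsz' : (u : G) * s * (u : G)⁻¹ = z := congrArg Subtype.val hsz
    refine ⟨s, ⟨hS ▸ ⟨s, hs, rfl⟩, ?_⟩, hsz'⟩
    have hzM : z ∈ M := Subgroup.map_subtype_le _ hz
    have := hM.conj _ (inv_mem u.2) z hzM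
    rw [← hsz'] at this
    simpa [mul_assoc] using this
  have hint : core φ ⊓ M ≤ F.ker.map φ := by
    rintro _ ⟨⟨y, hy, rfl⟩, hyM⟩
    exact ⟨y, Form.mem_ker.2 ⟨hy, (hM.mem y hy).1 hyM⟩, rfl⟩
  calc Nat.card R ≤ Nat.card ((core φ ⊓ M).map (MulAut.conj (u : G)).toMonoidHom) :=
        Nat.le_of_dvd Nat.card_pos (Subgroup.card_dvd_of_le hin)
    _ = Nat.card (core φ ⊓ M : Subgroup G) :=
        (Nat.card_congr ((core φ ⊓ M).equivMapOfInjective _ (MulAut.conj (u : G)).injective).toEquiv).symm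
    _ ≤ Nat.card (F.ker.map φ) := Nat.le_of_dvd Nat.card_pos (Subgroup.card_dvd_of_le hint)
    _ = 9 := hE

end Split

/-- The form vanishing on the complement of the second representative. -/
def formB : Form where
  th v := (((v : ℕ) % 3 + (v : ℕ) / 3 % 3 : ℕ) : ZMod 3)
  add := by decide +kernel

theorem formB_facts : Nat.card formB.ker = 9 := by
  rw [Nat.card_congr (show formB.ker ≃ {v : Fin 27 // formB.th v = 0} from
    { toFun := fun x => ⟨(x : K).v, (Form.mem_ker.1 x.2).2⟩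
      invFun := fun v => ⟨⟨0, v.1⟩, Form.mem_ker.2 ⟨rfl, v.2⟩⟩
      left_inv := fun x => Subtype.ext (by
        obtain ⟨⟨a, v⟩, hx⟩ := x
        obtain rfl : a = 0 := (Form.mem_ker.1 hx).1
        rfl)
      right_inv := fun _ => rfl }), Nat.card_eq_fintype_card]
  decide +kernel

/-- The involution commuting with the second representative. -/
def tB : K := ⟨8, 0⟩

theorem tB_table : tB * rep 4 = rep 4 * tB ∧ tB ^ 4 = 1 ∧ formB.th (rep 4).v ≠ 0 ∧
    ∀ v : Fin 27, formB.th v = 0 → tB * ⟨0, v⟩ * tB⁻¹ = (⟨0, v⟩ : K)⁻¹ := by decide +kernel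

theorem centB_table : ∀ a : Fin 24, ∀ v : Fin 27, (⟨a, v⟩ : K) * rep 4 = rep 4 * ⟨a, v⟩ →
    a = 0 ∨ (⟨a, v⟩ : K) = tB * ⟨0, v⟩ := by decide +kernel

theorem formB_split : ∀ v : Fin 27,
    ∃ j : Fin 3, formB.th ((⟨0, v⟩ : K) * (rep 4 ^ (j : ℕ))⁻¹).v = 0 := by decide +kernel

theorem Setup.centralizer_b (h : Setup φ) :
    Subgroup.centralizer ({φ (rep 4)} : Set G) ≤ φ.range := by
  haveI : Fact (Nat.Prime 3) := ⟨Nat.prime_three⟩
  haveI := Fintype.ofFinite G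
  obtain ⟨ht1, ht4, hFx, hti⟩ := tB_table
  have hx : rep 4 ∈ tr := mem_tr_iff_cls.2 (by rw [cls_rep]; decide)
  have h81 : ¬ 81 ∣ cen (cls (rep 4)) := by rw [cls_rep]; decide
  have hinv : ∀ y ∈ tr, formB.th y.v = 0 → tB * y * tB⁻¹ = y⁻¹ := by
    rintro ⟨a, v⟩ hy h0
    obtain rfl : a = 0 := hy
    exact hti v h0
  obtain ⟨M, hM⟩ := h.exists_split hx h81 formB hFx ht1 hinv
  obtain ⟨Q, hQ⟩ := hM.exists_sylow h hx h81 hFx formB_facts
  obtain ⟨h3, h1⟩ := orderOf_rep 4 (by decide)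
  have hcore := hM.pPrimeCore_eq_bot (h.cores (rep 4) (orderOf_eq_three h3 h1))
  have hmemQ : ∀ m : M, m ∈ (Q : Subgroup M) ↔ (m : G) ∈ formB.ker.map φ := fun m => by
    rw [← hQ]
    exact ⟨fun hm => ⟨m, hm, rfl⟩, fun ⟨d, hd, e⟩ => Subtype.ext e ▸ hd⟩
  have htM : φ tB ∈ M := hM.four tB ht1 ht4
  have hsplit : ∀ y ∈ tr, ∃ j : Fin 3, formB.th (y * (rep 4 ^ (j : ℕ))⁻¹).v = 0 := by
    rintro ⟨a, v⟩ hy
    obtain rfl : a = 0 := hy
    exact formB_split v
  -- the normalizer of the Sylow subgroup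
  have hN : ∀ n : M, n ∈ Subgroup.normalizer ((Q : Subgroup M) : Set M) →
      n ∈ (Q : Subgroup M) ∨ ∃ y ∈ formB.ker, (n : G) = φ (tB * y) := by
    intro n hn
    have hnx : (n : G) * φ (rep 4) = φ (rep 4) * n :=
      Subgroup.mem_centralizer_singleton_iff.1 (hM.le n.2)
    obtain ⟨k, hk⟩ := h.mem_range_of_fix (g := (n : G)) fun z hz => by
      obtain ⟨y, hy, rfl⟩ := hz
      obtain ⟨j, hj⟩ := hsplit y hy
      set e := y * (rep 4 ^ (j : ℕ))⁻¹
      have he : φ e ∈ formB.ker.map φ :=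
        ⟨e, Form.mem_ker.2 ⟨mul_mem hy (inv_mem (pow_mem hx _)), hj⟩, rfl⟩
      have he' : (n : G) * φ e * (n : G)⁻¹ ∈ formB.ker.map φ :=
        (hmemQ _).1 ((Subgroup.mem_normalizer_iff.1 hn ⟨φ e, hM.ker_le he⟩).1 ((hmemQ _).2 he))
      have e1 : (n : G) * φ (rep 4 ^ (j : ℕ)) * (n : G)⁻¹ = φ (rep 4 ^ (j : ℕ)) := by
        rw [map_pow, ((show Commute (n : G) (φ (rep 4)) from hnx).pow_right _).eq,
          mul_inv_cancel_right]
      have e2 : (n : G) * φ y * (n : G)⁻¹ = ((n : G) * φ e * (n : G)⁻¹) * φ (rep 4 ^ (j : ℕ)) := by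
        conv_rhs => rw [← e1]
        rw [show φ y = φ e * φ (rep 4 ^ (j : ℕ)) by rw [← map_mul]; congr 1; simp [e]]
        group
      rw [e2]
      obtain ⟨w, hw, hw'⟩ := he'
      exact hw' ▸ ⟨w * rep 4 ^ (j : ℕ), mul_mem (Form.mem_ker.1 hw).1 (pow_mem hx _), map_mul _ _ _⟩
    have hkc : k * rep 4 = rep 4 * k := h.inj (by rw [map_mul, map_mul, hk]; exact hnx)
    rcases centB_table k.h k.v hkc with h0 | h0
    · left
      rw [hmemQ]
      exact ⟨k, Form.mem_ker.2 ⟨h0, (hM.mem k h0).1 (by rw [hk]; exact n.2)⟩, hk⟩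
    · right
      refine ⟨⟨0, k.v⟩, Form.mem_ker.2 ⟨rfl, (hM.mem _ (rfl : (⟨0, k.v⟩ : K) ∈ tr)).1 ?_⟩, ?_⟩
      · have : φ (⟨0, k.v⟩ : K) = (φ tB)⁻¹ * n := by
          have hk' : φ k = φ tB * φ (⟨0, k.v⟩ : K) := by rw [← map_mul]; exact congrArg φ h0
          rw [← hk, hk', inv_mul_cancel_left]
        rw [this]; exact mul_mem (inv_mem htM) n.2
      · rw [← hk, ← h0]
  have hQc : ∀ a ∈ (Q : Subgroup M), ∀ b ∈ (Q : Subgroup M), a * b = b * a := fun a ha b hb => by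
    obtain ⟨u, hu, hu'⟩ := (hmemQ a).1 ha
    obtain ⟨v, hv, hv'⟩ := (hmemQ b).1 hb
    refine Subtype.ext ?_
    show (a : G) * b = b * a
    rw [← hu', ← hv', ← map_mul, ← map_mul, tr_commute (Form.mem_ker.1 hu).1 (Form.mem_ker.1 hv).1]
  have hinvQ : ∀ y ∈ formB.ker, ∀ q : M, q ∈ (Q : Subgroup M) →
      φ (tB * y) * (q : G) * (φ (tB * y))⁻¹ = (q : G)⁻¹ := by
    intro y hy q hq
    obtain ⟨u, hu, hu'⟩ := (hmemQ q).1 hq
    rw [← hu', ← map_inv φ (tB * y), ← map_mul, ← map_mul, ← map_inv]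
    congr 1
    obtain ⟨hy1, -⟩ := Form.mem_ker.1 hy
    obtain ⟨hu1, hu2⟩ := Form.mem_ker.1 hu
    rw [← hinv u hu1 hu2]
    calc tB * y * u * (tB * y)⁻¹ = tB * (y * u) * y⁻¹ * tB⁻¹ := by group
      _ = tB * (u * y) * y⁻¹ * tB⁻¹ := by rw [tr_commute hy1 hu1]
      _ = _ := by group
  have hQ9 : Nat.card (Q : Subgroup M) = 9 := by
    rw [Nat.card_congr ((Q : Subgroup M).equivMapOfInjective _ M.subtype_injective).toEquiv, hQ,
      h.card_map, formB_facts]
  have hcube : ∀ q : M, q ∈ (Q : Subgroup M) → (q : G) ^ 3 = 1 := fun q hq => by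
    obtain ⟨u, hu, hu'⟩ := (hmemQ q).1 hq
    rw [← hu', ← map_pow, pow_three_eq_one (Form.mem_ker.1 hu).1, map_one]
  set CQ := Subgroup.centralizer ((Q : Subgroup M) : Set M)
  set NQ := Subgroup.normalizer ((Q : Subgroup M) : Set M)
  have hnotC : ∀ y ∈ formB.ker, ∀ n : M, (n : G) = φ (tB * y) → n ∉ CQ := by
    intro y hy n hn hnC
    haveI : Nontrivial (Q : Subgroup M) := Finite.one_lt_card_iff_nontrivial.1 (by rw [hQ9]; norm_num)
    obtain ⟨⟨q, hq⟩, hq1⟩ := exists_ne (1 : (Q : Subgroup M))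
    have hc : (q : G) * n = n * q := congrArg Subtype.val (Subgroup.mem_centralizer_iff.1 hnC q hq)
    have h2 := hinvQ y hy q hq
    rw [← hn, ← hc, mul_inv_cancel_right] at h2
    have : (q : G) ^ 2 = 1 := by rw [pow_two]; nth_rewrite 1 [h2]; rw [inv_mul_cancel]
    exact hq1 (Subtype.ext (Subtype.ext (by
      have h3' := hcube q hq
      rw [pow_succ, this, one_mul] at h3'
      exact h3')))
  have hQC : (Q : Subgroup M) ≤ CQ := fun q hq => Subgroup.mem_centralizer_iff.2 fun z hz => hQc z hz q hq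
  have D : CfsgLib.SmithTyrer.InvData 3 Q := by
    refine ⟨by norm_num, ⟨⟨fun a b => Subtype.ext (hQc a a.2 b b.2)⟩⟩, ?_, ?_, ?_⟩
    · intro hcyc
      obtain ⟨q, hq⟩ := hcyc.exists_ofOrder_eq_natCard
      have : orderOf q ∣ 3 := orderOf_dvd_of_pow_eq_one (Subtype.ext (Subtype.ext (hcube q q.2)))
      rw [hq, hQ9] at this
      norm_num at this
    · show (CQ.subgroupOf NQ).index = 2
      have htN : (⟨φ tB, htM⟩ : M) ∈ NQ := by
        refine mem_normalizer_of_fix (hfix := fun q hq => ?_)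
        have := hinvQ 1 (one_mem _) q hq
        rw [mul_one] at this
        rw [show (⟨φ tB, htM⟩ : M) * q * (⟨φ tB, htM⟩ : M)⁻¹ = q⁻¹ from Subtype.ext this]
        exact inv_mem hq
      refine Subgroup.index_eq_two_iff.2 ⟨⟨_, htN⟩, fun n => ?_⟩
      simp only [Subgroup.mem_subgroupOf]
      rcases hN n n.2 with hn | ⟨y, hy, hn⟩
      · refine Or.inr ⟨hQC hn, fun hc => hnotC 1 (one_mem _) ⟨φ tB, htM⟩ (by rw [mul_one]) ?_⟩
        have := mul_mem (inv_mem (hQC hn)) hc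
        rwa [Subgroup.coe_mul, inv_mul_cancel_left] at this
      · refine Or.inl ⟨?_, hnotC y hy n hn⟩
        refine Subgroup.mem_centralizer_iff.2 fun q hq => Subtype.ext ?_
        show (q : G) * ((n : M) * φ tB) = (n : M) * φ tB * q
        have e1 := hinvQ y hy _ (inv_mem hq)
        have e2 := hinvQ 1 (one_mem _) q hq
        rw [mul_one] at e2
        rw [← hn, Subgroup.coe_inv, inv_inv] at e1
        calc (q : G) * ((n : M) * φ tB) = (n : M) * (q : G)⁻¹ * ((n : M) : G)⁻¹ * ((n : M) * φ tB) := by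
              rw [e1]
          _ = (n : M) * (φ tB * q * (φ tB)⁻¹) * φ tB := by rw [e2]; group
          _ = _ := by group
    · intro n hn
      rcases hN n hn with hn' | ⟨y, hy, hn'⟩
      · exact Or.inl (hQC hn')
      · exact Or.inr fun q hq => Subtype.ext (by
          show (n : G) * q * (n : G)⁻¹ = (q : G)⁻¹
          rw [hn']; exact hinvQ y hy q hq)
  haveI := Fintype.ofFinite M
  have hQn : (Q : Subgroup M).Normal :=
    CfsgLib.SmithTyrer.InvData.normal_aux (Nat.card M) M Q le_rfl D hcore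
  have hrange : ∀ m : M, (m : G) ∈ φ.range := by
    intro m
    have hm : m ∈ NQ := by simp only [NQ, Subgroup.normalizer_eq_top_iff.2 hQn, Subgroup.mem_top]
    rcases hN m hm with hm' | ⟨y, -, hm'⟩
    · obtain ⟨u, -, hu⟩ := (hmemQ m).1 hm'
      exact ⟨u, hu⟩
    · exact ⟨_, hm'.symm⟩
  intro c hc
  obtain ⟨m, hm, j, rfl⟩ := hM.gen c hc
  exact mul_mem (hrange ⟨m, hm⟩) (pow_mem (MonoidHom.mem_range.2 ⟨rep 4, rfl⟩) j)
where
  mem_normalizer_of_fix {M : Type u} [Group M] [Finite M] {Q : Subgroup M} {t : M}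
      (hfix : ∀ q ∈ Q, t * q * t⁻¹ ∈ Q) : t ∈ Subgroup.normalizer (Q : Set M) := by
    rw [Subgroup.mem_normalizer_iff]
    intro z
    refine ⟨hfix z, fun hz => ?_⟩
    let f : Q → Q := fun y => ⟨t * y * t⁻¹, hfix y y.2⟩
    obtain ⟨y, hy⟩ := Finite.surjective_of_injective (f := f) (fun a b e => Subtype.ext (by
      exact mul_left_cancel (mul_right_cancel (congrArg Subtype.val e)))) ⟨_, hz⟩
    rw [← mul_left_cancel (mul_right_cancel (congrArg Subtype.val hy :))]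
    exact y.2

end CfsgLib.ThreeLocalNine
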