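import Cfsg.Agent.ThreeLocalNine.Engine

/-!
# The three configurations of the characters
-/

set_option autoImplicit false
set_option linter.style.longLine false

namespace CfsgLib.ThreeLocalNine

/-- Combinations of induced characters of the model vanishing outside the classes used. -/
def combTab : List (List ℤ) :=
  [[1, 1, -1, 0, 0, 0, 0, 0, 0, 0, 0, 0, 0, 0, 0], [-1, 0, -1, 0, -1, 1, 0, 0, 0, 0, 0, 0, 0, 0, 0], [1, 0, -2, -1, 0, 0, 1, 0, 0, 0, 0, 0, 0, 0, 0], [0, 0, 0, -1, -1, 0, 0, 1, 0, 0, 0, 0, 0, 0, 0], [0, 0, 0, -1, -1, 0, 0, 0, 1, 0, 0, 0, 0, 0, 0], [0, 0, -1, -1, -1, 0, 0, 0, 0, 1, 0, 0, 0, 0, 0], [0, 0, -1, -1, -1, 0, 0, 0, 0, 0, 1, 0, 0, 0, 0], [0, 0, -1, -1, -1, 0, 0, 0, 0, 0, 0, 1, 0, 0, 0], [-1, 0, -1, -2, -1, 0, 0,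 0, 0, 0, 0, 0, 1, 0, 0], [1, 0, -2, -1, -2, 0, 0, 0, 0, 0, 0, 0, 0, 1, 0], [0, 0, -3, -3, -3, 0, 0, 0, 0, 0, 0, 0, 0, 0, 1]]

/-- The generalized characters over the generators. -/
def coefOne : List (List ℤ) :=
  [[0, 0, 0, 0, 0, 0, 1, -1, 0, 0, 0, 0, 0, 0, 0], [0, 0, 0, 0, 0, 0, 0, 0, 0, 0, 0, 0, -1, 1, 0], [0, -4, -2, 1, 0, 2, 1, 2, 0, 0, 0, -1, -2, -1, 3], [1, -3, -2, 2, 0, 1, 1, 1, 0, 0, 0, -1, -1, -1, 3], [0, 1, 1, -1, 0, -1, 0, 0, 0, 0, 0, 0, 1, 0, -1], [0, 0, 0, 0, 0, 2, 1, 1, -1, -1, 0, 0, -1, 0, 0], [0, 0, 0, 0, 0, 0, 0, 1, -1, 0, 0, 0, 0, 0, 0], [0, -2, -1, 1, 0, 1, 0, 1, 0, 0, 0, 0, -1, -1, 2], [-1, 0, 0, 0, 0, 0, 0, -1, 0, 1, 0, 0, 0, 0, 0], [0, 0, 0, 1, 0, 0, 0, 0, 0, 0, 0, 0, 0, 0, 0]]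

/-- Their induced values `(A + B √-15) / 2`. -/
def phiOne : List (List (ℤ × ℤ)) :=
  [[(6, 0), (-6, 0), (0, 0), (0, 0), (0, 0), (0, 0), (0, 0), (0, 0), (0, 0), (0, 0)],
    [(0, 0), (0, 0), (0, 0), (0, -2), (0, 2), (0, 0), (0, 0), (0, 0), (0, 0), (0, 0)],
    [(-6, 0), (0, 0), (0, 0), (3, -1), (3, 1), (6, 0), (0, 0), (0, 0), (-6, 0), (18, 0)],
    [(0, 0), (0, 0), (0, 0), (6, 0), (6, 0), (-6, 0), (0, 0), (0, 0), (-6, 0), (-54, 0)],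
    [(6, 0), (6, 0), (0, 0), (3, 1), (3, -1), (6, 0), (0, 0), (0, 0), (-6, 0), (18, 0)],
    [(0, 0), (0, 0), (0, 0), (-3, -1), (-3, 1), (0, 0), (18, 0), (12, 0), (0, 0), (-48, 0)],
    [(0, 0), (6, 0), (6, 0), (0, 0), (0, 0), (0, 0), (0, 0), (18, 0), (0, 0), (0, 0)],
    [(-6, 0), (0, 0), (0, 0), (-6, 0), (-6, 0), (0, 0), (0, 0), (0, 0), (-12, 0), (-36, 0)],
    [(0, 0), (-6, 0), (6, 0), (0, 0), (0, 0), (0, 0), (0, 0), (-18, 0), (0, 0), (0, 0)],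
    [(0, 0), (0, 0), (0, 0), (0, 0), (0, 0), (0, 0), (-18, 0), (-12, 0), (12, 0), (-60, 0)]]

/-- The generalized characters over the generators. -/
def coefTwo : List (List ℤ) :=
  [[0, 0, 0, 0, 0, 0, 0, 0, 0, 0, 0, 0, -1, 1, 0], [0, 0, 0, 0, 0, 1, 0, -1, 0, 0, 0, 0, 0, 0, 0], [0, 0, 0, 0, 0, -1, 1, 0, 0, 0, 0, 0, 0, 0, 0], [1, 0, 0, 0, 0, 0, 0, 0, 0, 0, 0, 0, 0, 0, 0], [0, -2, -1, 1, 0, 1, 0, 1, 0, 0, 0, 0, -1, -1, 2], [0, 2, 1, 0, 0, -1, -1, -1, 0, 0, 0, 0, 1, 1, -1], [-1, 1, 1, -1, 0, -1, 0, 0, 0, 0, 0, 0, 1, 0, -1], [0, -1, -1, -2, 0, 1, 1, 1, 0, 0, 0, 0, -1, 0, 0], [0, 0, 0, 0, 0, 0, 1, 0, -1, 0, 0, 0, 0, 0, 0], [0, 0, 0, 1, 0, 0, 0, 0, 0, 0, 0, 0, 0, 0, 0], [-1, 0, 0, 0, 0, 0, 0, -1, 0, 1, 0, 0, 0, 0, 0]]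

/-- Their induced values `(A + B √-15) / 2`. -/
def phiTwo : List (List (ℤ × ℤ)) :=
  [[(0, 0), (0, 0), (0, 0), (0, -2), (0, 2), (0, 0), (0, 0), (0, 0), (0, 0), (0, 0), (0, 0)],
    [(0, 0), (-6, 0), (0, 0), (0, 0), (0, 0), (0, 0), (0, 0), (0, 0), (0, 0), (0, 0), (6, 0)],
    [(6, 0), (0, 0), (0, 0), (0, 0), (0, 0), (0, 0), (0, 0), (0, 0), (0, 0), (0, 0), (-6, 0)],
    [(6, 0), (6, 0), (0, 0), (0, 0), (0, 0), (0, 0), (0, 0), (0, 0), (0, 0), (0, 0), (6, 0)],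
    [(-6, 0), (0, 0), (0, 0), (-6, 0), (-6, 0), (0, 0), (0, 0), (0, 0), (-12, 0), (-36, 0), (0, 0)],
    [(0, 0), (0, 0), (0, 0), (6, 0), (6, 0), (-6, 0), (0, 0), (0, 0), (-6, 0), (-54, 0), (0, 0)],
    [(0, 0), (0, 0), (0, 0), (3, 1), (3, -1), (6, 0), (0, 0), (0, 0), (-6, 0), (18, 0), (-6, 0)],
    [(0, 0), (0, 0), (0, 0), (-3, -1), (-3, 1), (0, 0), (18, 0), (12, 0), (0, 0), (-48, 0), (0, 0)],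
    [(6, 0), (0, 0), (6, 0), (0, 0), (0, 0), (0, 0), (0, 0), (18, 0), (0, 0), (0, 0), (0, 0)],
    [(0, 0), (0, 0), (0, 0), (0, 0), (0, 0), (0, 0), (-18, 0), (-12, 0), (12, 0), (-60, 0), (0, 0)],
    [(0, 0), (-6, 0), (6, 0), (0, 0), (0, 0), (0, 0), (0, 0), (-18, 0), (0, 0), (0, 0), (0, 0)]]

/-- The configuration of case I. -/
def cfgOne : Cfg where
  dim := 10
  gramTab := [[2, 0, -1, 0, 0, 0, -1, -1, 1, 0], [0, 2, 1, 0, -1, 1, 0, 0, 0, 0], [-1, 1, 3, 0, 0, 0, 0, 1, 0, -1], [0, 0, 0, 3, 0, 0, 0, 0, 0, 0], [0, -1, 0, 0, 3, -1, 0, 0, -1, -1], [0, 1, 0, 0, -1, 3, 1, 1, -1, -1], [-1, 0, 0, 0, 0, 1, 3, 1, -1, -1], [-1, 0, 1, 0, 0, 1, 1, 3, 0, -1], [1, 0, 0, 0, -1, -1, -1, 0, 4, 1], [0, 0, -1, 0, -1, -1, -1, -1, 1, 4]]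
  triv := [0, 0, -1, 1, 0, 1, 0, 0, 0, 0]
  xf := [[-15, 0, -6, 0, -15, -5, -9, -4, 7, -5], [0, -3, 0, 3, 0, -2, 0, 2, -2, 4], [-3, 3, -3, -3, 6, 1, 0, -1, -2, -5]]
  rf := [168, -42, 114, 42, -66, -8, 54, 62, -2, 130]
  rhs := [2332800, 0, 1166400, 174960, 262440, 17496, 367416]
  lam := [1, 0, 0, 0, 1, 0, 0, 0, 1, 0]
  shapes := [[[1, 0, 0, 0, 0, 0, 0, 0, 0, 0], [0, 1, 0, 0, 0, 0, 0, 0, 0, 0], [0, 0, 1, 0, 0, 0, 0, 0, 0, 0], [0, 0, 0, 1, 0, 0, 0, 0, 0, 0], [0, 1, 0, 0, -1, 0, 0, 0, 0, 0], [1, 0, -1, -1, -1, 0, 0, 0, 0, 0], [1, 1, 0, 0, 0, -1, 0, 0, 0, 0], [0, 0, 0, 0, 0, 1, 0, 0, 0, 0], [0, 0, 0, 0, 0, 0, 1, 0, 0, 0], [0, 0, 0, 0, 0, 0, 1, 0, 0, 0], [0, 0, 0, 0, 0, 0, 1, 0, 0, 0], [1, 0, 0, 0, 0, 0, 0, -1, 0, 0], [0, 0, 0, 0, 1, -1,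 0, 0, 1, 0], [0, 0, 0, 0, 0, 0, 0, 1, 1, 0], [0, 0, 1, 0, 0, 0, 0, 1, 0, -1], [0, 1, 0, -1, 0, 0, 0, 0, 0, 1]],
    [[1, 1, 0, 0, 0, 0, 0, 0, 0, 0], [0, 0, 1, 0, 0, 0, 0, 0, 0, 0], [0, 0, 0, 1, 0, 0, 0, 0, 0, 0], [0, 1, 0, 0, -1, 0, 0, 0, 0, 0], [1, 0, -1, -1, -1, 0, 0, 0, 0, 0], [0, 1, 0, 0, 0, -1, 0, 0, 0, 0], [1, 0, 0, 0, 0, -1, 0, 0, 0, 0], [0, 0, 0, 0, 0, 0, 1, 0, 0, 0], [0, 0, 0, 0, 0, 0, 1, 0, 0, 0], [0, 0, 0, 0, 0, 0, 1, 0, 0, 0], [1, 0, 0, 0, 0, 0, 0, -1, 0, 0], [0, 0, 0, 0, 1, -1, 0, 0, 1, 0], [0, 0, 0, 0, 0, 0, 0, 1, 1, 0], [0, 0, 1, 0, 0, 0, 0, 1, 0, -1], [0, 1, 0, -1, 0, 0, 0, 0, 0, 1]]]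

/-- The configuration of case II. -/
def cfgTwo : Cfg where
  dim := 11
  gramTab := [[2, 0, 0, 0, 0, 0, -1, 1, 0, 0, 0], [0, 2, -1, 0, 0, 0, -1, 0, 0, 0, 1], [0, -1, 2, 0, -1, 0, 1, 0, 1, 0, 0], [0, 0, 0, 2, 0, 0, -1, 0, 0, 0, -1], [0, 0, -1, 0, 3, 0, 0, 1, 0, -1, 0], [0, 0, 0, 0, 0, 3, 0, 0, 0, 0, 0], [-1, -1, 1, -1, 0, 0, 3, -1, 0, -1, 0], [1, 0, 0, 0, 1, 0, -1, 3, 1, -1, -1], [0, 0, 1, 0, 0, 0, 0, 1, 3, -1, 0], [0, 0, 0, 0, -1, 0, -1, -1, -1, 4, 1], [0, 1, 0, -1, 0, 0, 0, -1, 0, 1, 4]]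
  triv := [0, 0, 1, 0, 0, 0, -1, 1, 0, 0, 0]
  xf := [[0, -15, 0, -15, -9, -9, -6, -5, -1, -5, 3], [-3, 0, 3, 0, 0, 0, 0, -2, -1, 1, 0], [3, -3, -3, 6, 0, 0, -3, 1, -1, -2, -3]]
  rf := [12, 114, -12, 42, 54, 54, 60, -8, 26, 34, 6]
  rhs := [2332800, 0, 1166400, 174960, 262440, 17496, 131220]
  lam := [0, 1, 0, 1, 0, 0, 0, 0, 0, 0, 1]
  shapes := [[[1, 0, 0, 0, 0, 0, 0, 0, 0, 0, 0], [0, 1, 0, 0, 0, 0, 0, 0, 0, 0, 0], [0, 0, 1, 0, 0, 0, 0, 0, 0, 0, 0], [1, 0, 0, -1, 0, 0, 0, 0, 0, 0, 0], [0, 0, 0, 0, 0, 1, 0, 0, 0, 0, 0], [0, 0, 0, 0, 0, 1, 0, 0, 0, 0, 0], [0, 0, 0, 0, 0, 1, 0, 0, 0, 0, 0], [0, 0, 0, 0, 0, 0, 1, 0, 0, 0, 0], [0, 1, -1, -1, 0, 0, -1, 0, 0, 0, 0], [0, 1, 0, 0, -1, 0, 0, 1, 0, 0, 0], [1, 1, 0, 0, 0, 0, 0, -1, 0, 0, 0], [0,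 0, 1, 0, 0, 0, -1, 0, 1, 0, 0], [0, 0, 0, 0, 1, 0, 0, 0, 1, -1, 0], [1, 0, 0, 0, 0, 0, 0, 0, 0, 1, 0], [0, 0, 0, 1, -1, 0, 0, 0, 0, 0, 1], [0, 0, 0, 0, 0, 0, 0, 0, 0, 0, 1]]]

/-- The configuration of case III. -/
def cfgThree : Cfg where
  dim := 9
  gramTab := [[2, 0, 1, -1, 1, 0, 0, 0, 0], [0, 2, -1, 0, 0, 0, 1, 0, 1], [1, -1, 3, -1, 1, 1, -1, 1, -1], [-1, 0, -1, 3, -1, 1, 1, 1, 1], [1, 0, 1, -1, 3, 0, 0, 1, 1], [0, 0, 1, 1, 0, 3, 0, 1, 1], [0, 1, -1, 1, 0, 0, 3, 1, 1], [0, 0, 1, 1, 1, 1, 1, 4, 1], [0, 1, -1, 1, 1, 1, 1, 1, 4]]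
  triv := [0, 0, 1, 1, 1, 0, 0, 0, 0]
  xf := [[0, -3, 0, -3, 4, 6, 8, 4, -3], [3, 0, 3, 0, -2, 0, 2, -2, 0], [-3, 3, -3, 3, 1, 3, -4, 1, 3]]
  rf := [42, -60, 42, -60, -62, -114, 68, -8, -60]
  rhs := [23328, 0, 11664, 17496, 26244, 17496, 249318]
  lam := [0, 1, 0, 0, 0, -1, 0, 0, -2]
  shapes := [[[1, 0, 0, 0, 0, 0, 0, 0, 0], [0, 1, 0, 0, 0, 0, 0, 0, 0], [0, 0, 1, 0, 0, 0, 0, 0, 0], [0, 0, 0, 1, 0, 0, 0, 0, 0], [0, 0, 0, 0, 1, 0, 0, 0, 0], [1, 1, 0, 0, 1, 0, 0, 0, 0], [0, 1, 1, 0, 0, 1, 0, 0, 0], [1, 0, 0, 1, 0, 1, 0, 0, 0], [0, 1, 0, 1, 0, 0, 1, 0, 0], [1, 0, 1, 0, 0, 0, -1, 1, 0], [0, 0, 0, 0, 0, 0, 0, 1, 0], [0, 0, 0, 0, 0, 0, 0, 0, 1], [0, 0, 0, 0, 1, -1, 1, 0, 1]],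
    [[1, 1, 0, 0, 0, 0, 0, 0, 0], [0, 0, 1, 0, 0, 0, 0, 0, 0], [0, 0, 0, 1, 0, 0, 0, 0, 0], [1, 0, 0, 0, 1, 0, 0, 0, 0], [0, 1, 0, 0, 1, 0, 0, 0, 0], [0, 1, 1, 0, 0, 1, 0, 0, 0], [1, 0, 0, 1, 0, 1, 0, 0, 0], [0, 1, 0, 1, 0, 0, 1, 0, 0], [1, 0, 1, 0, 0, 0, -1, 1, 0], [0, 0, 0, 0, 0, 0, 0, 1, 0], [0, 0, 0, 0, 0, 0, 0, 0, 1], [0, 0, 0, 0, 1, -1, 1, 0, 1]]]

end CfsgLib.ThreeLocalNine
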