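import Cfsg.Agent.AltNine.Search

/-!
# Columns of multiplicities: a generic search and its reduction to explicit shapes

The inner products of finitely many generalized characters force, up to signs and order, one of
finitely many systems of columns.  Each is either refuted by one linear relation or is one of the
shapes listed in the configuration.
-/

set_option autoImplicit false

namespace CfsgLib.ThreeLocalNine

open CfsgLib.AltNine (dot dot_map_mul vecRev vecRev_congr vecRev_map choices parts withSuf comb
  mem_choices mem_parts Realizes sum_list_eq comb_signs replicate_zero extend)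

/-- A configuration; vectors are listed backwards. -/
structure Cfg where
  /-- the number of generalized characters -/
  dim : ℕ
  /-- their inner products, without the trivial character -/
  gramTab : List (List ℤ)
  /-- the multiplicities of the trivial character -/
  triv : List ℤ
  /-- the values at the three classes of the core -/
  xf : List (List ℤ)
  /-- the residue of a degree -/
  rf : List ℤ
  /-- the right hand sides of the class algebra equations -/
  rhs : List ℤ
  /-- a relation refuting most systems -/
  lam : List ℤ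
  /-- the surviving systems -/
  shapes : List (List (List ℤ))

namespace Cfg

variable (C : Cfg)

/-- An entry of the table of inner products. -/
def gram (i j : ℕ) : ℤ := (C.gramTab.getD i []).getD j 0

/-- An entry of a column. -/
def entry (i : ℕ) (col : List ℤ) : ℤ := col.getD (C.dim - 1 - i) 0

/-- A multiplicity of the trivial character. -/
def trivAt (i : ℕ) : ℤ := C.entry i C.triv

/-- The value at a class of the core. -/
def xc (p : Fin 3) (col : List ℤ) : ℤ := dot (C.xf.getD p []) col

/-- A monomial at a column. -/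
def mon (k : Fin 7) (col : List ℤ) : ℤ := AltNine.monoAt (fun p => C.xc p col) k

end Cfg

/-- The sign normalising a column. -/
def csgn : List ℤ → ℤ
  | [] => 1
  | a :: l => if a = 0 then csgn l else if a < 0 then -1 else 1

/-- The normalised column. -/
def canon (col : List ℤ) : List ℤ := col.map (csgn col * ·)

theorem csgn_cases : ∀ col, csgn col = 1 ∨ csgn col = -1
  | [] => Or.inl rfl
  | a :: l => by
    unfold csgn
    split_ifs
    · exact csgn_cases l
    · exact Or.inr rfl
    · exact Or.inl rfl

namespace Cfg

variable (C : Cfg)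

/-- A system is refuted or has a known shape. -/
def leafOk (cols : List (List ℤ)) : Bool :=
  (cols.filter fun c => dot C.lam c != 0).length == 1 ||
    C.shapes.any fun S => (cols.map canon).isPerm S

/-- All systems of columns are refuted or known. -/
def searched : ℕ → ℕ → List (List ℤ) → Bool
  | 0, _, cols => C.leafOk cols
  | k + 1, i, cols =>
    (choices (withSuf i cols) (C.gram i i) (vecRev i (C.gram i))).all fun r =>
      (parts r.2).all fun pt => searched k (i + 1) (extend i r.1 cols pt)

/-- The search succeeds. -/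
def Valid : Prop :=
  C.searched C.dim 0 [] = true ∧ (∀ i < C.dim, C.gram i i ≤ 4) ∧
    dot C.lam C.triv = 0 ∧ C.lam.length = C.dim ∧ C.triv.length = C.dim

instance : Decidable C.Valid := by unfold Valid; infer_instance

/-- The properties of a system of integer vectors coming from the characters. -/
structure System {ι : Type*} [Fintype ι] (z : ι → ℕ → ℤ) (d : ι → ℤ) (g : ℤ) : Prop where
  gram : ∀ i < C.dim, ∀ j < C.dim, ∑ χ, z χ i * z χ j = C.gram i j
  lin : ∀ i < C.dim, ∑ χ, d χ * z χ i + C.trivAt i = 0
  nz : ∀ χ, d χ ≠ 0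
  sq : ∑ χ, d χ * d χ < g
  cubic : ∀ k : Fin 7,
    ∑ χ, (C.mon k (vecRev C.dim (z χ)) : ℚ) / d χ + 1 = (C.rhs.getD k 0 : ℚ) / g
  res : ∀ χ, (d χ - dot C.rf (vecRev C.dim (z χ))) % 81 = 0

/-- The same properties on the columns of a shape. -/
structure Reduced (S : List (List ℤ)) (D : ℕ → ℤ) (g : ℤ) : Prop where
  lin : ∀ i < C.dim,
    ((List.range S.length).map fun j => D j * C.entry i (S.getD j [])).sum + C.trivAt i = 0
  nz : ∀ j < S.length, D j ≠ 0
  sq : ((List.range S.length).map fun j => D j * D j).sum < g
  cubic : ∀ k : Fin 7,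
    ((List.range S.length).map fun j => (C.mon k (S.getD j []) : ℚ) / D j).sum + 1 =
      (C.rhs.getD k 0 : ℚ) / g
  res : ∀ j < S.length, (D j - dot C.rf (S.getD j [])) % 81 = 0

end Cfg

theorem getD_lt {α : Type*} {l : List α} {i : ℕ} (d : α) (h : i < l.length) :
    l.getD i d = l[i] := by
  simp [List.getD, List.getElem?_eq_getElem h]

theorem length_vecRev (f : ℕ → ℤ) : ∀ n, (vecRev n f).length = n
  | 0 => rfl
  | n + 1 => by simp [vecRev, length_vecRev f n]

theorem getD_vecRev (f : ℕ → ℤ) : ∀ n i, i < n → (vecRev n f).getD (n - 1 - i) 0 = f i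
  | 0, i, h => absurd h (Nat.not_lt_zero i)
  | n + 1, i, h => by
    rcases Nat.lt_succ_iff_lt_or_eq.1 h with h | rfl
    · rw [show n + 1 - 1 - i = n - 1 - i + 1 by omega, vecRev, List.getD_cons_succ]
      exact getD_vecRev f n i h
    · rw [show i + 1 - 1 - i = 0 by omega]; rfl

theorem dot_vecRev : ∀ (n : ℕ) (l : List ℤ) (f : ℕ → ℤ), l.length = n →
    dot l (vecRev n f) = ∑ i ∈ Finset.range n, l.getD (n - 1 - i) 0 * f i
  | 0, [], _, _ => rfl
  | n + 1, a :: l, f, h => by
    rw [vecRev, dot, Finset.sum_range_succ, dot_vecRev n l f (by simpa using h), add_comm]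
    congr 1
    · refine Finset.sum_congr rfl fun i hi => ?_
      rw [show n + 1 - 1 - i = n - 1 - i + 1 by simp only [Finset.mem_range] at hi; omega,
        List.getD_cons_succ]
    · rw [show n + 1 - 1 - n = 0 by omega]; rfl

theorem dot_zero : ∀ (l : List ℤ) (n : ℕ), dot l (vecRev n fun _ => 0) = 0
  | [], _ => by simp [dot]
  | _ :: _, 0 => rfl
  | a :: l, n + 1 => by simp [vecRev, dot, dot_zero l n]

namespace Cfg

variable {C : Cfg} {ι : Type*} [Fintype ι]

theorem exists_leaf [DecidableEq ι] {z : ι → ℕ → ℤ}
    (h4 : ∀ i < C.dim, C.gram i i ≤ 4)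
    (hg : ∀ i < C.dim, ∀ j < C.dim, ∑ χ, z χ i * z χ j = C.gram i j) :
    ∀ (k i : ℕ) (L : List (ι × ℤ)) (cols : List (List ℤ)), i + k = C.dim → Realizes z i L cols →
      C.searched k i cols = true →
      ∃ L' cols', Realizes z C.dim L' cols' ∧ C.leafOk cols' = true
  | 0, i, L, cols, hi, hR, hk => by
    obtain rfl : i = C.dim := by omega
    exact ⟨L, cols, hR, hk⟩
  | k + 1, i, L, cols, hi, hR, hk => by
    have hd : i < C.dim := by omega
    have g4 : C.gram i i ≤ 4 := h4 i hd
    set as := L.map fun e => e.2 * z e.1 i with has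
    set cs := L.map fun e j => e.2 * z e.1 j with hcs
    have sq : ∀ e ∈ L, e.2 * z e.1 i * (e.2 * z e.1 i) = z e.1 i * z e.1 i := by
      intro e he
      rcases hR.sign e he with h | h <;> rw [h] <;> ring
    set rest := (Finset.univ : Finset ι).filter (fun χ => χ ∉ L.map Prod.fst ∧ z χ i ≠ 0) with hrest
    have hsplit : (as.map fun a => a * a).sum + ∑ χ ∈ rest, z χ i * z χ i = C.gram i i := by
      rw [← hg i hd i hd, ← Finset.sum_filter_add_sum_filter_not (Finset.univ : Finset ι)
        (fun χ => χ ∈ L.map Prod.fst)]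
      congr 1
      · rw [has, List.map_map]
        rw [show (Finset.univ.filter fun χ => χ ∈ L.map Prod.fst) = (L.map Prod.fst).toFinset by
          ext; simp, List.sum_toFinset _ hR.nodup, List.map_map]
        exact congrArg List.sum (List.map_congr_left fun e he => sq e he)
      · apply Finset.sum_subset
        · intro χ hχ; simp only [hrest, Finset.mem_filter] at hχ ⊢; exact ⟨hχ.1, hχ.2.1⟩
        · intro χ hχ hn
          simp only [hrest, Finset.mem_filter, Finset.mem_univ, true_and] at hχ hn
          have : z χ i = 0 := by tauto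
          simp [this]
    have hrest0 : 0 ≤ ∑ χ ∈ rest, z χ i * z χ i :=
      Finset.sum_nonneg fun χ _ => mul_self_nonneg _
    have hmem : (as, C.gram i i - (as.map fun a => a * a).sum) ∈
        choices (withSuf i cols) (C.gram i i) (vecRev i (C.gram i)) := by
      have hc : cols = cs.map (vecRev i) := by
        rw [hR.cols_eq, hcs, List.map_map]; rfl
      rw [hc]
      refine mem_choices cs as _ i _ (by simp [has, hcs]) g4 (by linarith) fun j hj => ?_
      rw [has, hcs, comb_signs, ← hg i hd j (hj.trans hd),
        sum_list_eq (z := z) hR.nodup _ (fun χ hχ => by rw [hR.vanish χ hχ j hj, mul_zero])]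
      refine congrArg List.sum (List.map_congr_left fun e he => ?_)
      rcases hR.sign e he with h | h <;> rw [h] <;> ring
    let le' : ι → ι → Bool := fun a b => decide (|z b i| ≤ |z a i|)
    let N := rest.toList.mergeSort le'
    have hperm : N.Perm rest.toList := List.mergeSort_perm _ _
    have hNmem : ∀ χ, χ ∈ N ↔ χ ∈ rest := fun χ => by rw [hperm.mem_iff, Finset.mem_toList]
    have hsorted : N.Pairwise fun a b => le' a b = true :=
      List.pairwise_mergeSort (le := le')
        (fun a b c h1 h2 => by simp only [le', decide_eq_true_eq] at *; exact h2.trans h1)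
        (fun a b => by simp only [le', Bool.or_eq_true, decide_eq_true_eq]; exact le_total _ _) _
    let sg : ι → ℤ := fun χ => if 0 < z χ i then 1 else -1
    have habs : ∀ χ, sg χ * z χ i = |z χ i| := fun χ => by
      simp only [sg]; split_ifs with h
      · rw [abs_of_pos h, one_mul]
      · rw [abs_of_nonpos (not_lt.1 h)]; ring
    set pt := N.map fun χ => |z χ i| with hpt
    have hptsum : (pt.map fun a => a * a).sum = C.gram i i - (as.map fun a => a * a).sum := by
      rw [hpt, List.map_map, List.Perm.sum_eq (hperm.map _), Finset.sum_map_toList]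
      simp only [Function.comp_def, abs_mul_abs_self]
      linarith
    have hptmem : pt ∈ parts (C.gram i i - (as.map fun a => a * a).sum) := by
      rw [← hptsum]
      refine mem_parts _ ?_ ?_ ?_
      · intro a ha
        obtain ⟨χ, hχ, rfl⟩ := List.mem_map.1 ha
        rw [hNmem, hrest, Finset.mem_filter] at hχ
        exact Int.one_le_abs hχ.2.2
      · rw [hpt, List.pairwise_map]
        exact hsorted.imp fun h => by simpa [le'] using h
      · have hnn : 0 ≤ (as.map fun a => a * a).sum := List.sum_nonneg fun x hx => by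
          obtain ⟨y, -, rfl⟩ := List.mem_map.1 hx; exact mul_self_nonneg y
        linarith
    rw [searched, List.all_eq_true] at hk
    have hk' := List.all_eq_true.1 (hk _ hmem) pt hptmem
    refine exists_leaf h4 hg k (i + 1) (L ++ N.map fun χ => (χ, sg χ)) _ (by omega)
      ⟨?_, ?_, ?_, ?_⟩ hk'
    · rw [List.map_append, List.map_map, List.nodup_append]
      refine ⟨hR.nodup, ?_, ?_⟩
      · rw [show (Prod.fst ∘ fun χ : ι => (χ, sg χ)) = id from rfl, List.map_id]
        exact hperm.nodup_iff.2 rest.nodup_toList
      · intro a ha b hb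
        obtain ⟨χ, hχ, rfl⟩ := List.mem_map.1 hb
        rw [hNmem, hrest, Finset.mem_filter] at hχ
        rintro rfl
        exact hχ.2.1 ha
    · intro e he
      rcases List.mem_append.1 he with he | he
      · exact hR.sign e he
      · obtain ⟨χ, -, rfl⟩ := List.mem_map.1 he
        simp only [sg]; split_ifs <;> simp
    · rw [extend, List.map_append]
      congr 1
      · rw [has, hR.cols_eq, List.zipWith_map, List.zipWith_self]
        rfl
      · rw [hpt, List.map_map, List.map_map]
        refine List.map_congr_left fun χ hχ => ?_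
        rw [hNmem, hrest, Finset.mem_filter] at hχ
        simp only [Function.comp_apply, vecRev, habs]
        rw [replicate_zero, vecRev_congr fun j hj => ?_]
        simp [hR.vanish χ hχ.2.1 j hj]
    · intro χ hχ j hj
      simp only [List.map_append, List.mem_append, List.map_map, not_or] at hχ
      rcases Nat.lt_succ_iff_lt_or_eq.1 hj with hj | rfl
      · exact hR.vanish χ hχ.1 j hj
      · by_contra h0
        refine hχ.2 (List.mem_map.2 ⟨χ, ?_, rfl⟩)
        rw [hNmem, hrest]
        simp only [Finset.mem_filter, Finset.mem_univ, true_and]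
        exact ⟨hχ.1, h0⟩

theorem exists_perm_of_map_perm {α β : Type*} (f : α → β) :
    ∀ {m : List β} (l : List α), (l.map f).Perm m → ∃ l' : List α, l'.Perm l ∧ l'.map f = m
  | [], l, h => ⟨[], by rw [List.map_eq_nil_iff.1 h.eq_nil], rfl⟩
  | b :: m, l, h => by
    obtain ⟨a, ha, rfl⟩ := List.mem_map.1 (h.mem_iff.2 (List.mem_cons_self))
    obtain ⟨s, t, rfl⟩ := List.append_of_mem ha
    have hm : ((s ++ t).map f).Perm m := by
      refine List.Perm.cons_inv (a := f a) (List.Perm.trans ?_ h)
      rw [List.map_append, List.map_append, List.map_cons]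
      exact List.perm_middle.symm
    obtain ⟨l', hl', rfl⟩ := exists_perm_of_map_perm f (s ++ t) hm
    exact ⟨a :: l', (hl'.cons a).trans List.perm_middle.symm, rfl⟩

/-- A system of integer vectors has one of the shapes. -/
theorem System.reduce {z : ι → ℕ → ℤ} {d : ι → ℤ} {g : ℤ} (hS : C.System z d g) (hv : C.Valid) :
    ∃ S ∈ C.shapes, ∃ D : ℕ → ℤ, C.Reduced S D g ∧
      ∀ j < S.length, ∃ χ, ∃ s : ℤ, (s = 1 ∨ s = -1) ∧ D j = s * d χ ∧
        S.getD j [] = vecRev C.dim fun i => s * z χ i := by
  classical
  obtain ⟨hsearch, h4, hlt, hll, htl⟩ := hv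
  obtain ⟨L, cols, hR, hleaf⟩ := exists_leaf h4 hS.gram C.dim 0 [] [] (zero_add _)
    ⟨List.nodup_nil, fun _ h => absurd h (by simp), rfl, fun _ _ j hj => absurd hj (by omega)⟩
    hsearch
  have hzero : ∀ χ, χ ∉ L.map Prod.fst → vecRev C.dim (z χ) = vecRev C.dim fun _ => 0 :=
    fun χ hχ => vecRev_congr fun j hj => hR.vanish χ hχ j hj
  rw [leafOk, Bool.or_eq_true] at hleaf
  rcases hleaf with hkill | hshape
  · exfalso
    have htot : ∑ χ, d χ * dot C.lam (vecRev C.dim (z χ)) = 0 := by
      have e : dot C.lam C.triv = ∑ i ∈ Finset.range C.dim,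
          C.lam.getD (C.dim - 1 - i) 0 * C.trivAt i := by
        rw [← dot_vecRev C.dim C.lam _ hll]
        congr 1
        refine List.ext_getElem (by rw [htl, length_vecRev])
          fun n h1 h2 => ?_
        have hn : n < C.dim := htl ▸ h1
        obtain ⟨i, hi, rfl⟩ : ∃ i < C.dim, n = C.dim - 1 - i := ⟨C.dim - 1 - n, by omega, by omega⟩
        rw [← getD_lt 0 h2, getD_vecRev _ _ _ hi, trivAt, entry, getD_lt 0 h1]
      simp only [dot_vecRev C.dim C.lam _ hll, Finset.mul_sum]
      rw [Finset.sum_comm]
      have h : ∀ i ∈ Finset.range C.dim, ∑ χ, d χ * (C.lam.getD (C.dim - 1 - i) 0 * z χ i) =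
          -(C.lam.getD (C.dim - 1 - i) 0 * C.trivAt i) := by
        intro i hi
        have := hS.lin i (Finset.mem_range.1 hi)
        rw [Finset.sum_congr rfl fun χ _ => show d χ * (C.lam.getD (C.dim - 1 - i) 0 * z χ i) =
          C.lam.getD (C.dim - 1 - i) 0 * (d χ * z χ i) by ring, ← Finset.mul_sum,
          eq_neg_of_add_eq_zero_left this]
        ring
      rw [Finset.sum_congr rfl h, Finset.sum_neg_distrib, ← e, hlt, neg_zero]
    rw [hR.cols_eq, List.filter_map, List.length_map, beq_iff_eq, List.length_eq_one_iff] at hkill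
    obtain ⟨e₀, he₀⟩ := hkill
    have hm : ∀ e, e ∈ L ∧ dot C.lam (vecRev C.dim fun j => e.2 * z e.1 j) ≠ 0 ↔ e = e₀ := by
      intro e
      rw [← List.mem_singleton (a := e), ← he₀, List.mem_filter]
      simp
    obtain ⟨he₀L, he₀ne⟩ := (hm e₀).2 rfl
    rw [sum_list_eq (z := z) hR.nodup _ (fun χ hχ => by rw [hzero χ hχ, dot_zero, mul_zero])] at htot
    have hne : dot C.lam (vecRev C.dim (z e₀.1)) ≠ 0 := by
      intro h0
      apply he₀ne
      rw [← vecRev_map, dot_map_mul, h0, mul_zero]
    refine mul_ne_zero (hS.nz e₀.1) hne ?_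
    obtain ⟨s, t, hst⟩ := List.append_of_mem he₀L
    have hnd := List.Nodup.of_map _ hR.nodup
    rw [hst] at htot hnd
    have hz : ∀ e ∈ s ++ t, d e.1 * dot C.lam (vecRev C.dim (z e.1)) = 0 := by
      intro e he
      have heL : e ∈ L := by
        rw [hst]; simp only [List.mem_append, List.mem_cons] at he ⊢; tauto
      have hne' : e ≠ e₀ := by
        rintro rfl
        exact (List.nodup_middle.1 hnd |> List.nodup_cons.1).1 he
      have : dot C.lam (vecRev C.dim fun j => e.2 * z e.1 j) = 0 := by
        by_contra h; exact hne' ((hm e).1 ⟨heL, h⟩)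
      rw [← vecRev_map, dot_map_mul] at this
      rcases hR.sign e heL with h | h <;> rw [h] at this <;> simp only [one_mul, neg_mul,
        neg_eq_zero] at this <;> rw [this, mul_zero]
    simp only [List.map_append, List.map_cons, List.sum_append, List.sum_cons] at htot
    rw [List.sum_eq_zero (l := List.map _ s), List.sum_eq_zero (l := List.map _ t)] at htot
    · simpa using htot
    all_goals
      intro x hx
      obtain ⟨e, he, rfl⟩ := List.mem_map.1 hx
      exact hz e (by simp [he])
  · obtain ⟨S, hSm, hperm⟩ := List.any_eq_true.1 hshape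
    rw [List.isPerm_iff, hR.cols_eq, List.map_map] at hperm
    obtain ⟨L', hL', hmap⟩ := exists_perm_of_map_perm _ L hperm
    let fl : ι × ℤ → ι × ℤ := fun e => (e.1, csgn (vecRev C.dim fun j => e.2 * z e.1 j) * e.2)
    set M := L'.map fl with hM
    have hMsign : ∀ e ∈ M, e.2 = 1 ∨ e.2 = -1 := by
      intro e he
      obtain ⟨x, hx, rfl⟩ := List.mem_map.1 he
      show csgn _ * x.2 = 1 ∨ csgn _ * x.2 = -1
      rcases hR.sign x (hL'.mem_iff.1 hx) with h | h <;>
        rcases csgn_cases (vecRev C.dim fun j => x.2 * z x.1 j) with h' | h' <;>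
        rw [h'] <;> rw [h] <;> norm_num
    have hfst : M.map Prod.fst = L'.map Prod.fst := by rw [hM, List.map_map]; rfl
    have hMnd : (M.map Prod.fst).Nodup := by
      rw [hfst]; exact ((hL'.map _).nodup_iff).2 hR.nodup
    have hMvan : ∀ χ, χ ∉ M.map Prod.fst → χ ∉ L.map Prod.fst := fun χ hχ h => hχ (by
      rw [hfst]; exact (hL'.map _).mem_iff.2 h)
    have hScol : S = M.map fun e => vecRev C.dim fun j => e.2 * z e.1 j := by
      rw [← hmap, hM, List.map_map]
      refine List.map_congr_left fun e _ => ?_
      simp only [Function.comp_apply, fl, canon, vecRev_map]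
      exact vecRev_congr fun j _ => (mul_assoc _ _ _).symm
    let D : ℕ → ℤ := fun j => (M.map fun e => e.2 * d e.1).getD j 0
    have hlen : S.length = M.length := by rw [hScol, List.length_map]
    have hget : ∀ j (hj : j < M.length), D j = M[j].2 * d M[j].1 ∧
        S.getD j [] = vecRev C.dim fun i => M[j].2 * z M[j].1 i := by
      intro j hj
      refine ⟨?_, ?_⟩
      · show (M.map fun e => e.2 * d e.1).getD j 0 = _
        rw [getD_lt 0 (by simpa using hj), List.getElem_map]
      · rw [congrArg (fun l => List.getD l j []) hScol, getD_lt [] (by simpa using hj),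
          List.getElem_map]
    have htrans : ∀ {A : Type} [Zero A] (F : List ℤ → ℤ → A),
        (List.range S.length).map (fun j => F (S.getD j []) (D j)) =
          M.map fun e => F (vecRev C.dim fun j => e.2 * z e.1 j) (e.2 * d e.1) := by
      intro A _ F
      refine List.ext_getElem (by simp [hlen]) fun n h1 h2 => ?_
      rw [List.getElem_map, List.getElem_map, List.getElem_range]
      obtain ⟨e1, e2⟩ := hget n (by simpa using h2)
      rw [e1, e2]
    refine ⟨S, hSm, D, ⟨?_, ?_, ?_, ?_, ?_⟩, fun j hj =>
      ⟨_, _, hMsign _ (List.getElem_mem (hlen ▸ hj)), hget j (hlen ▸ hj)⟩⟩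
    · intro i hi
      rw [htrans fun c x => x * C.entry i c]
      refine Eq.trans ?_ (hS.lin i hi)
      rw [sum_list_eq (z := z) hMnd (fun χ => d χ * z χ i)
        (fun χ hχ => by rw [hR.vanish χ (hMvan χ hχ) i hi, mul_zero])]
      refine congrArg (· + C.trivAt i) (congrArg List.sum (List.map_congr_left fun e he => ?_))
      simp only [entry, getD_vecRev _ _ _ hi]
      rcases hMsign e he with h | h <;> rw [h] <;> ring
    · intro j hj
      rw [(hget j (hlen ▸ hj)).1]
      rcases hMsign _ (List.getElem_mem (hlen ▸ hj : j < M.length)) with h | h <;> rw [h] <;>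
        simpa using hS.nz _
    · rw [htrans fun _ x => x * x]
      refine lt_of_le_of_lt ?_ hS.sq
      refine le_of_eq_of_le (b := ∑ χ ∈ (M.map Prod.fst).toFinset, d χ * d χ) ?_
        (Finset.sum_le_sum_of_subset_of_nonneg (Finset.subset_univ _) fun χ _ _ => mul_self_nonneg _)
      rw [List.sum_toFinset _ hMnd, List.map_map (l := M)]
      refine congrArg List.sum (List.map_congr_left fun e he => ?_)
      rcases hMsign e he with h | h <;> simp [h]
    · intro k
      rw [htrans fun c x => (C.mon k c : ℚ) / x, ← hS.cubic k]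
      rw [sum_list_eq (z := z) hMnd (fun χ => (C.mon k (vecRev C.dim (z χ)) : ℚ) / d χ)
        (fun χ hχ => by
          simp [mon, AltNine.monoAt, xc, hzero χ (hMvan χ hχ), dot_zero])]
      refine congrArg (· + (1 : ℚ)) (congrArg List.sum (List.map_congr_left fun e he => ?_))
      simp only [mon, AltNine.monoAt, xc, ← vecRev_map, dot_map_mul]
      rcases hMsign e he with h | h <;> simp [h, div_neg, neg_div]
    · intro j hj
      obtain ⟨h1, h2⟩ := hget j (hlen ▸ hj)
      have := hS.res (M[j]'(hlen ▸ hj)).1
      rw [h1, h2, ← vecRev_map, dot_map_mul, ← mul_sub]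
      rcases hMsign _ (List.getElem_mem (hlen ▸ hj : j < M.length)) with h | h <;> rw [h] <;> omega

end Cfg

end CfsgLib.ThreeLocalNine
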