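import Cfsg.Agent.ThreeLocalNine.CentA
import Cfsg.Agent.ThreeLocalNine.AltSix
import Mathlib.Logic.Equiv.Fin.Basic

/-!
# The centralizer of the first class, glued to the normalizer

When it is a product with an alternating group of degree six, the centralizer is parametrised by
the centralizer of a three-cycle in the alternating group of degree nine, compatibly with the
normalizer of the core.
-/

set_option autoImplicit false
set_option maxRecDepth 100000
set_option linter.style.haveILetI false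

namespace CfsgLib.ThreeLocalNine

open CfsgLib.AltNine Equiv

universe u

/-- The rotations of three points. -/
def rot3 : Multiplicative (ZMod 3) →* Perm (Fin 3) where
  toFun a := finRotate 3 ^ (Multiplicative.toAdd a).val
  map_one' := rfl
  map_mul' := by decide +kernel

/-- The model of the centralizer. -/
abbrev CMod := Multiplicative (ZMod 3) × A6

/-- The model inside the symmetric group of degree nine. -/
def emb : CMod →* Perm (Fin 9) :=
  ((finSumFinEquiv : Fin 3 ⊕ Fin 6 ≃ Fin 9).permCongrHom.toMonoidHom.comp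
    ((Perm.sumCongrHom (Fin 3) (Fin 6)).comp (rot3.prodMap A6.subtype)))

theorem rot3_injective : Function.Injective rot3 := by decide +kernel

theorem emb_injective : Function.Injective emb := by
  intro a b h
  have h1 := (finSumFinEquiv : Fin 3 ⊕ Fin 6 ≃ Fin 9).permCongrHom.injective h
  have h2 := Perm.sumCongrHom_injective h1
  exact Prod.ext (rot3_injective (congrArg Prod.fst h2))
    (Subtype.ext (congrArg Prod.snd h2))

/-- The rotation in the model. -/
def mA : CMod := (Multiplicative.ofAdd 1, 1)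

/-- The elements of the normalizer corresponding to the two three-cycles. -/
def kT2 : K := ⟨0, 3⟩
/-- The second one. -/
def kT3 : K := ⟨0, 9⟩
/-- An element inverting the first representative. -/
def kInv : K := ⟨3, 0⟩

theorem emb_gens : emb mA = toPerm (rep 3) ∧ emb (1, T2) = toPerm kT2 ∧
    emb (1, T3) = toPerm kT3 ∧ emb (1, W) = toPerm wA := by decide +kernel

theorem decompose_table : ∀ a : Fin 24, ∀ v : Fin 27, (⟨a, v⟩ : K) * rep 3 = rep 3 * ⟨a, v⟩ →
    ∃ j l n : Fin 3, ∃ i : Fin 4, (⟨a, v⟩ : K) =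
      rep 3 ^ (j : ℕ) * kT2 ^ (l : ℕ) * kT3 ^ (n : ℕ) * wA ^ (i : ℕ) := by decide +kernel

theorem gen_table : formA.th kT2.v = 0 ∧ formA.th kT3.v = 0 ∧ kT2 ∈ tr ∧ kT3 ∈ tr ∧
    kT2 * kT3 = kT3 * kT2 ∧ wA * kT2 * wA⁻¹ = kT3 ∧ wA * kT3 * wA⁻¹ = kT2⁻¹ ∧
    kT2 ^ 3 = 1 ∧ kT3 ^ 3 = 1 ∧ kT2 ≠ 1 := by decide +kernel

theorem inv_table : kInv * rep 3 * kInv⁻¹ = (rep 3)⁻¹ ∧
    kInv * kT2 * kInv⁻¹ * rep 3 = rep 3 * (kInv * kT2 * kInv⁻¹) ∧
    kInv * kT3 * kInv⁻¹ * rep 3 = rep 3 * (kInv * kT3 * kInv⁻¹) ∧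
    kInv * wA * kInv⁻¹ * rep 3 = rep 3 * (kInv * wA * kInv⁻¹) ∧
    kT2 * rep 3 = rep 3 * kT2 ∧ kT3 * rep 3 = rep 3 * kT3 := by decide +kernel

theorem toPerm_kInv : toPerm kInv =
    (finSumFinEquiv : Fin 3 ⊕ Fin 6 ≃ Fin 9).permCongrHom
      (Perm.sumCongrHom (Fin 3) (Fin 6) (swap 1 2, swap 1 2)) := by decide +kernel

theorem rot3_flip : ∀ a : Multiplicative (ZMod 3),
    rot3 a⁻¹ = swap 1 2 * rot3 a * (swap 1 2)⁻¹ := by decide +kernel

/-- Conjugation of the model by the inverting element. -/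
def flipMod (m : CMod) : CMod := (m.1⁻¹, (MulAut.conjNormal (swap 1 2 : Perm (Fin 6)) : A6 ≃* A6) m.2)

theorem emb_flip (m : CMod) : emb (flipMod m) = toPerm kInv * emb m * (toPerm kInv)⁻¹ := by
  rw [toPerm_kInv]
  show (finSumFinEquiv : Fin 3 ⊕ Fin 6 ≃ Fin 9).permCongrHom
      (Perm.sumCongrHom (Fin 3) (Fin 6) (rot3 m.1⁻¹,
        ((MulAut.conjNormal (swap 1 2 : Perm (Fin 6)) : A6 ≃* A6) m.2 : Perm (Fin 6)))) = _
  rw [rot3_flip, conj6_val]
  show _ = (finSumFinEquiv : Fin 3 ⊕ Fin 6 ≃ Fin 9).permCongrHom _ *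
      (finSumFinEquiv : Fin 3 ⊕ Fin 6 ≃ Fin 9).permCongrHom
        (Perm.sumCongrHom (Fin 3) (Fin 6) (rot3 m.1, (m.2 : Perm (Fin 6)))) *
      ((finSumFinEquiv : Fin 3 ⊕ Fin 6 ≃ Fin 9).permCongrHom _)⁻¹
  rw [← map_inv, ← map_mul, ← map_mul, ← map_inv, ← map_mul, ← map_mul]
  rfl

/-- A parametrisation of the centralizer compatible with the normalizer. -/
structure Glue {G : Type u} [Group G] (φ : K →* G) (ψ : CMod →* G) : Prop where
  inj : Function.Injective ψ
  range : ψ.range = Subgroup.centralizer ({φ (rep 3)} : Set G)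
  agree : ∀ k : K, ∀ m : CMod, k * rep 3 = rep 3 * k → emb m = toPerm k → ψ m = φ k
  flip : ∀ m : CMod, ψ (flipMod m) = φ kInv * ψ m * (φ kInv)⁻¹

theorem rep3_pow_table : ∀ j : Fin 3, formA.th (rep 3 ^ (j : ℕ)).v = 0 → j = 0 := by decide +kernel

theorem hom_zmod_trivial (f : A6 →* Multiplicative (ZMod 3)) (x : A6) : f x = 1 := by
  haveI : IsSimpleGroup A6 := alternatingGroup.isSimpleGroup (α := Fin 6) (by simp)
  rcases IsSimpleGroup.eq_bot_or_eq_top_of_normal f.ker inferInstance with h | h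
  · exfalso
    have h' := Nat.card_le_card_of_injective f ((MonoidHom.ker_eq_bot_iff _).1 h)
    rw [nat_card_alternatingGroup] at h'
    simp [Nat.factorial] at h'
  · exact MonoidHom.mem_ker.1 (h ▸ Subgroup.mem_top x)

variable {G : Type u} [Group G] [Finite G] {φ : K →* G}

theorem Setup.exists_glue (h : Setup φ) {M : Subgroup G} (hM : Split φ (rep 3) formA M)
    (e0 : M ≃* A6) : ∃ ψ, Glue φ ψ := by
  obtain ⟨hth2, hth3, ht2, ht3, h23, hwk2, hwk3, hc2, hc3, hk2ne⟩ := gen_table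
  obtain ⟨hw1, hw4, -, -, hFx, -⟩ := wA_table
  set C := Subgroup.centralizer ({φ (rep 3)} : Set G)
  let a2 : M := ⟨φ kT2, (hM.mem _ ht2).2 hth2⟩
  let a3 : M := ⟨φ kT3, (hM.mem _ ht3).2 hth3⟩
  let aw : M := ⟨φ wA, hM.four wA hw1 hw4⟩
  have eM : ∀ a b : M, (a : G) = b → a = b := fun a b e => Subtype.ext e
  have r1 : a2 * a3 = a3 * a2 := eM _ _ (by
    show φ kT2 * φ kT3 = φ kT3 * φ kT2
    rw [← map_mul, ← map_mul, h23])
  have r2 : aw * a2 * aw⁻¹ = a3 := eM _ _ (by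
    show φ wA * φ kT2 * (φ wA)⁻¹ = φ kT3
    rw [← map_inv, ← map_mul, ← map_mul, hwk2])
  have r3 : aw * a3 * aw⁻¹ = a2⁻¹ := eM _ _ (by
    show φ wA * φ kT3 * (φ wA)⁻¹ = (φ kT2)⁻¹
    rw [← map_inv, ← map_inv, ← map_mul, ← map_mul, hwk3])
  have r4 : a2 ^ 3 = 1 ∧ a3 ^ 3 = 1 := ⟨eM _ _ (by
    show φ kT2 ^ 3 = 1
    rw [← map_pow, hc2, map_one]), eM _ _ (by
    show φ kT3 ^ 3 = 1
    rw [← map_pow, hc3, map_one])⟩
  have r5 : a2 ≠ 1 := fun e => hk2ne (h.inj (by rw [map_one]; exact congrArg Subtype.val e))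
  obtain ⟨γ, g2, g3, gw⟩ := exists_aut (e0 a2) (e0 a3) (e0 aw)
    (fun e => r5 (e0.map_eq_one_iff.1 e)) (by rw [← map_pow, r4.1, map_one])
    (by rw [← map_pow, r4.2, map_one]) (by rw [← map_mul, r1, map_mul])
    (by rw [← map_inv, ← map_mul, ← map_mul, r2])
    (by rw [← map_inv, ← map_inv, ← map_mul, ← map_mul, r3])
  let e : A6 ≃* M := γ.trans e0.symm
  have e2 : (e T2 : G) = φ kT2 := by simp [e, g2, a2]
  have e3 : (e T3 : G) = φ kT3 := by simp [e, g3, a3]
  have ew : (e W : G) = φ wA := by simp [e, gw, aw]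
  let ρ : Multiplicative (ZMod 3) →* G :=
    { toFun := fun a => φ (rep 3) ^ (Multiplicative.toAdd a).val
      map_one' := by simp
      map_mul' := fun a b => by
        have h3 : φ (rep 3) ^ 3 = 1 := by
          rw [← map_pow, (orderOf_rep 3 (by decide)).1, map_one]
        rw [← pow_add, toAdd_mul, ZMod.val_add, ← pow_eq_pow_mod _ h3] }
  have hcomm : ∀ a s, Commute (ρ a) ((M.subtype.comp e.toMonoidHom) s) := fun a s => by
    have := Subgroup.mem_centralizer_singleton_iff.1 (hM.le (e s).2)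
    exact (show Commute (φ (rep 3)) ((e s : M) : G) from this.symm).pow_left _
  let ψ : CMod →* G := ρ.noncommCoprod (M.subtype.comp e.toMonoidHom) hcomm
  have hψ : ∀ a s, ψ (a, s) = φ (rep 3) ^ (Multiplicative.toAdd a).val * (e s : G) := fun a s => rfl
  have hx : rep 3 ∈ tr := mem_tr_iff_cls.2 (by rw [cls_rep]; decide)
  have hpow : ∀ j : Fin 3, φ (rep 3) ^ (j : ℕ) ∈ M → j = 0 := by
    intro j hj
    rw [← map_pow] at hj
    have h0 := (hM.mem _ (pow_mem hx _)).1 hj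
    exact rep3_pow_table j h0
  have hinj : Function.Injective ψ := by
    refine (injective_iff_map_eq_one ψ).2 fun m hm => ?_
    obtain ⟨a, s⟩ := m
    rw [hψ] at hm
    have hmM : φ (rep 3) ^ (Multiplicative.toAdd a).val ∈ M := by
      rw [eq_inv_of_mul_eq_one_left hm]; exact inv_mem (e s).2
    have ha := hpow ⟨_, ZMod.val_lt _⟩ hmM
    have ha' : (Multiplicative.toAdd a).val = 0 := congrArg Fin.val ha
    rw [ha', pow_zero, one_mul] at hm
    refine Prod.ext ?_ ?_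
    · exact Multiplicative.toAdd.injective ((ZMod.val_eq_zero _).1 ha')
    · exact e.injective (by rw [Subtype.ext (a2 := (1 : M)) hm]; exact (map_one e).symm)
  have hrange : ψ.range = C := by
    refine le_antisymm ?_ fun c hc => ?_
    · rintro _ ⟨⟨a, s⟩, rfl⟩
      rw [hψ]
      exact mul_mem (pow_mem (Subgroup.mem_centralizer_singleton_iff.2 rfl) _) (hM.le (e s).2)
    · obtain ⟨m, hm, j, rfl⟩ := hM.gen c hc
      refine ⟨(Multiplicative.ofAdd (j : ZMod 3), e.symm ⟨m, hm⟩), ?_⟩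
      rw [hψ, toAdd_ofAdd, ZMod.val_natCast, e.apply_symm_apply,
        ← pow_eq_pow_mod _ (by rw [← map_pow, (orderOf_rep 3 (by decide)).1, map_one] :
          φ (rep 3) ^ 3 = 1)]
      exact ((show Commute m (φ (rep 3)) from
        Subgroup.mem_centralizer_singleton_iff.1 (hM.le hm)).pow_right j).eq.symm
  have hA : ψ mA = φ (rep 3) := by
    rw [mA, hψ, toAdd_ofAdd, ZMod.val_one, pow_one, map_one, Subgroup.coe_one, mul_one]
  have hagree : ∀ k : K, ∀ m : CMod, k * rep 3 = rep 3 * k → emb m = toPerm k → ψ m = φ k := by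
    intro k m hk hm
    obtain ⟨j, l, n, i, hdec⟩ := decompose_table k.h k.v hk
    obtain ⟨p1, p2', p3', p4⟩ := emb_gens
    have hm' : m = mA ^ (j : ℕ) * (1, T2) ^ (l : ℕ) * (1, T3) ^ (n : ℕ) * (1, W) ^ (i : ℕ) := by
      refine emb_injective ?_
      rw [hm, show k = _ from hdec]
      simp only [map_mul, map_pow, p1, p2', p3', p4]
    have h2 : ψ (1, T2) = φ kT2 := by rw [hψ, e2]; simp
    have h3 : ψ (1, T3) = φ kT3 := by rw [hψ, e3]; simp
    have h4 : ψ (1, W) = φ wA := by rw [hψ, ew]; simp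
    rw [hm', show k = _ from hdec]
    simp only [map_mul, map_pow, hA, h2, h3, h4]
  refine ⟨ψ, hinj, hrange, hagree, ?_⟩
  obtain ⟨hi1, hi2, hi3, hiw, hc2', hc3'⟩ := inv_table
  set t := φ kInv
  have hCinv : ∀ c ∈ C, t * c * t⁻¹ ∈ C := by
    intro c hc
    rw [Subgroup.mem_centralizer_singleton_iff] at hc ⊢
    have hta : t * (φ (rep 3))⁻¹ * t⁻¹ = φ (rep 3) := by
      rw [← map_inv, ← map_inv, ← map_mul, ← map_mul]
      exact congrArg φ (by rw [← conj_inv, hi1, inv_inv])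
    have hc' : c * (φ (rep 3))⁻¹ = (φ (rep 3))⁻¹ * c :=
      ((show Commute c (φ (rep 3)) from hc).inv_right).eq
    rw [← hta]
    calc t * c * t⁻¹ * (t * (φ (rep 3))⁻¹ * t⁻¹) = t * (c * (φ (rep 3))⁻¹) * t⁻¹ := by group
      _ = t * ((φ (rep 3))⁻¹ * c) * t⁻¹ := by rw [hc']
      _ = _ := by group
  have hex : ∀ m : CMod, ∃ m' : CMod, ψ m' = t * ψ m * t⁻¹ := fun m =>
    MonoidHom.mem_range.1 (hrange ▸ hCinv _ (hrange ▸ MonoidHom.mem_range.2 ⟨m, rfl⟩))
  choose θ hθ using hex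
  let Θ : CMod →* CMod := MonoidHom.mk' θ fun a b => hinj (by
    rw [map_mul, hθ, hθ, hθ, map_mul]; group)
  let F1 : A6 →* Multiplicative (ZMod 3) :=
    (MonoidHom.fst _ _).comp (Θ.comp (MonoidHom.inr _ _))
  let F2 : A6 →* A6 := (MonoidHom.snd _ _).comp (Θ.comp (MonoidHom.inr _ _))
  have hΘA : θ mA = flipMod mA := hinj (by
    rw [hθ, hA]
    have hfl : emb (flipMod mA) = toPerm (kInv * rep 3 * kInv⁻¹) := by
      rw [emb_flip, emb_gens.1, map_mul, map_mul, map_inv]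
    rw [hagree _ _ (by rw [hi1]; group) hfl, map_mul, map_mul, map_inv])
  have hgen : ∀ k : K, ∀ s : A6, k * rep 3 = rep 3 * k →
      kInv * k * kInv⁻¹ * rep 3 = rep 3 * (kInv * k * kInv⁻¹) → emb (1, s) = toPerm k →
      θ (1, s) = flipMod (1, s) := by
    intro k s hk hk' hs
    refine hinj ?_
    rw [hθ, hagree k _ hk hs, hagree _ (flipMod (1, s)) hk'
      (by rw [emb_flip, hs, map_mul, map_mul, map_inv]), map_mul, map_mul, map_inv]
  let τ : A6 ≃* A6 := MulAut.conjNormal (swap 1 2 : Perm (Fin 6))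
  have hF : ∀ s, F1 s = 1 := hom_zmod_trivial F1
  have hF2inj : Function.Injective F2 := fun a b hab => by
    have : θ (1, a) = θ (1, b) := Prod.ext ((hF a).trans (hF b).symm) hab
    have h' : ψ (1, a) = ψ (1, b) := mul_left_cancel (mul_right_cancel
      ((hθ (1, a)).symm.trans ((congrArg ψ this).trans (hθ (1, b)))))
    exact congrArg Prod.snd (hinj h')
  let δ : A6 ≃* A6 := (MulEquiv.ofBijective F2 ((Finite.injective_iff_bijective).1 hF2inj)).trans τ.symm
  have hδ : ∀ k : K, ∀ s : A6, k * rep 3 = rep 3 * k →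
      kInv * k * kInv⁻¹ * rep 3 = rep 3 * (kInv * k * kInv⁻¹) → emb (1, s) = toPerm k →
      δ s = s := by
    intro k s hk hk' hs
    show τ.symm ((θ (1, s)).2) = s
    rw [hgen k s hk hk' hs]
    exact τ.symm_apply_apply s
  have hfix := hom_rigid δ (hδ kT2 T2 hc2' hi2 emb_gens.2.1) (hδ kT3 T3 hc3' hi3 emb_gens.2.2.1)
    (hδ wA W hw1 hiw emb_gens.2.2.2)
  intro m
  rw [← hθ]
  congr 1
  obtain ⟨a, s⟩ := m
  have h1s : θ (1, s) = flipMod (1, s) := by
    refine Prod.ext ?_ ?_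
    · rw [show (flipMod (1, s)).1 = 1 by simp [flipMod]]; exact hF s
    · exact τ.symm.injective ((hfix s).trans (τ.symm_apply_apply s).symm)
  obtain ⟨j, hj⟩ : ∃ j : ℕ, a = Multiplicative.ofAdd (1 : ZMod 3) ^ j :=
    ⟨(Multiplicative.toAdd a).val, Multiplicative.toAdd.injective (by
      rw [toAdd_pow, toAdd_ofAdd, nsmul_eq_mul, mul_one, ZMod.natCast_zmod_val])⟩
  have hdec : ((a, s) : CMod) = mA ^ j * (1, s) := by
    rw [mA, Prod.pow_mk, one_pow, Prod.mk_mul_mk, mul_one, one_mul, hj]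
  have hflipmul : ∀ x y, flipMod (x * y) = flipMod x * flipMod y := fun x y => by
    simp [flipMod, mul_comm]
  have hflippow : ∀ n : ℕ, flipMod (mA ^ n) = flipMod mA ^ n := by
    intro n
    induction n with
    | zero => simp [flipMod]
    | succ n ih => rw [pow_succ, pow_succ, hflipmul, ih]
  rw [hdec, hflipmul, hflippow, show θ (mA ^ j * (1, s)) = Θ (mA ^ j * (1, s)) from rfl, map_mul,
    map_pow, show Θ mA = θ mA from rfl, show Θ (1, s) = θ (1, s) from rfl, hΘA, h1s]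

end CfsgLib.ThreeLocalNine
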