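import Cfsg.Agent.ThreeLocalNine.Extend
import Cfsg.Agent.AltNine.Local

/-!
# Centralizer orders and fusion of the elements used by the characters
-/

set_option autoImplicit false
set_option maxRecDepth 100000
set_option linter.style.haveILetI false

namespace CfsgLib.ThreeLocalNine

open CfsgLib.AltNine Equiv

universe u

theorem expo_table : ∀ c : Fin 14, inD c = true →
    (cls (rep c ^ expo c) = 3 ∧ c ∈ ([3, 8, 12, 13] : List (Fin 14))) ∨
      cls (rep c ^ expo c) = 4 ∨ cls (rep c ^ expo c) = 5 := by decide +kernel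

theorem expo_mem : ∀ c : Fin 14, inD c = true → (rep c ^ expo c) ∈ tr ∧ rep c ^ expo c ≠ 1 := by
  decide +kernel

theorem s_table : rep 6 * rep 5 = rep 5 * rep 6 ∧ rep 6 ∉ tr ∧ rep 5 ∈ tr ∧
    cls (rep 5 : K) = 5 := by decide +kernel

theorem s_cent_table : ∀ a : Fin 24, ∀ v : Fin 27, (⟨a, v⟩ : K) * rep 6 = rep 6 * ⟨a, v⟩ →
    (⟨a, v⟩ : K) * rep 5 = rep 5 * ⟨a, v⟩ ∧ (⟨a, v⟩ : K) ^ 3 = 1 ∧
      (a = 0 ∨ cls (⟨a, v⟩ : K) = 6) ∧ ∀ b : Fin 24, ∀ w : Fin 27,
        (⟨b, w⟩ : K) * rep 6 = rep 6 * ⟨b, w⟩ → (⟨a, v⟩ : K) * ⟨b, w⟩ = ⟨b, w⟩ * ⟨a, v⟩ := by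
  decide +kernel

variable {G : Type u} [Group G] [Finite G] {φ : K →* G}

namespace Setup

variable (h : Setup φ)
include h

theorem cent_range_cls {x : K} (hx : cls x = 3)
    (ha : Subgroup.centralizer ({φ (rep 3)} : Set G) ≤ φ.range) :
    Subgroup.centralizer ({φ x} : Set G) ≤ φ.range := by
  intro g hg
  rw [Subgroup.mem_centralizer_singleton_iff] at hg
  obtain ⟨k, hk⟩ := isConj_iff.1 (isConj_rep x)
  have hk' : φ k * φ x * (φ k)⁻¹ = φ (rep 3) := by
    rw [← map_mul, ← map_inv, ← map_mul, hk, hx]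
  have hr : φ k * g * (φ k)⁻¹ ∈ φ.range := ha (by
    rw [Subgroup.mem_centralizer_singleton_iff, ← hk']
    calc φ k * g * (φ k)⁻¹ * (φ k * φ x * (φ k)⁻¹) = φ k * (g * φ x) * (φ k)⁻¹ := by group
      _ = φ k * (φ x * g) * (φ k)⁻¹ := by rw [hg]
      _ = _ := by group)
  have := mul_mem (mul_mem (inv_mem (MonoidHom.mem_range.2 ⟨k, rfl⟩)) hr)
    (MonoidHom.mem_range.2 ⟨k, rfl⟩)
  simpa [mul_assoc] using this

theorem cent_range_rep {c : Fin 14} (hc : inD c = true)
    (ha : c ∈ ([3, 8, 12, 13] : List (Fin 14)) →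
      Subgroup.centralizer ({φ (rep 3)} : Set G) ≤ φ.range) :
    Subgroup.centralizer ({φ (rep c)} : Set G) ≤ φ.range := by
  intro g hg
  rw [Subgroup.mem_centralizer_singleton_iff] at hg
  have hg' : g ∈ Subgroup.centralizer ({φ (rep c ^ expo c)} : Set G) := by
    rw [Subgroup.mem_centralizer_singleton_iff, map_pow]
    exact ((show Commute g (φ (rep c)) from hg).pow_right _).eq
  rcases expo_table c hc with ⟨h3, hm⟩ | h45
  · exact h.cent_range_cls h3 (ha hm) hg'
  · exact h.cent_le h45 hg'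

theorem card_cent_of_le {x : K} (hx : Subgroup.centralizer ({φ x} : Set G) ≤ φ.range) :
    Nat.card (Subgroup.centralizer ({φ x} : Set G)) = cen (cls x) := by
  rw [← card_centralizer x, ← h.card_map]
  congr 2
  refine le_antisymm (fun g hg => ?_) ?_
  · obtain ⟨k, rfl⟩ := hx hg
    refine ⟨k, Subgroup.mem_centralizer_singleton_iff.2 (h.inj ?_), rfl⟩
    rw [map_mul, map_mul]
    exact Subgroup.mem_centralizer_singleton_iff.1 hg
  · rintro _ ⟨k, hk, rfl⟩
    rw [Subgroup.mem_centralizer_singleton_iff, ← map_mul, ← map_mul,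
      Subgroup.mem_centralizer_singleton_iff.1 hk]

/-- Two elements with powers in the core are fused only as in the normalizer. -/
theorem cls_eq_of_pow {x y : K} (e : ℕ) (hx : x ^ e ∈ tr) (hy : y ^ e ∈ tr)
    (hC : Subgroup.centralizer ({φ (x ^ e)} : Set G) ≤ φ.range) (hc : IsConj (φ x) (φ y)) :
    cls x = cls y := by
  obtain ⟨g, hg⟩ := isConj_iff.1 hc
  have hge : g * φ (x ^ e) * g⁻¹ = φ (y ^ e) := by rw [map_pow, map_pow, ← conj_pow, hg]
  obtain ⟨k, -, hcomm⟩ := h.fusion hx hy hge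
  obtain ⟨m, hm⟩ := hC (Subgroup.mem_centralizer_singleton_iff.2 hcomm)
  have hgm : φ (k * m) = g := by rw [map_mul, hm]; group
  refine isConj_iff_cls.1 (isConj_iff.2 ⟨k * m, h.inj ?_⟩)
  rw [map_mul, map_mul, map_inv, hgm, hg]

/-- The elements of order three outside the core are not fused into its first two classes. -/
theorem s_not_core {x : K} (hx : x ∈ tr) (h81 : ¬ 81 ∣ cen (cls x)) :
    ¬ IsConj (φ (rep 6)) (φ x) := by
  haveI : Fact (Nat.Prime 3) := ⟨Nat.prime_three⟩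
  intro hc
  obtain ⟨g, hg⟩ := isConj_iff.1 hc
  obtain ⟨hsz, hst, hzt, -⟩ := s_table
  set C := Subgroup.centralizer ({φ x} : Set G)
  obtain ⟨S, hS⟩ : ∃ S : Sylow 3 C, (S : Subgroup C).map C.subtype = core φ := h.core_sylow hx h81
  set Z := (Subgroup.centralizer ({rep 6} : Set K)).map φ
  have hZ : IsPGroup 3 Z :=
    IsPGroup.of_card (p := 3) (n := 2) (by rw [h.card_map, card_centralizer, cls_rep]; rfl)
  set Z' := Z.map (MulAut.conj g).toMonoidHom
  have hZ'C : Z' ≤ C := by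
    rintro _ ⟨_, ⟨k, hk, rfl⟩, rfl⟩
    refine Subgroup.mem_centralizer_singleton_iff.2 ?_
    rw [← hg]
    show (MulAut.conj g) (φ k) * (MulAut.conj g) (φ (rep 6)) =
      (MulAut.conj g) (φ (rep 6)) * (MulAut.conj g) (φ k)
    simp only [← map_mul]
    rw [Subgroup.mem_centralizer_singleton_iff.1 hk]
  obtain ⟨T, hT⟩ := ((hZ.map _).of_equiv (Subgroup.subgroupOfEquivOfLe hZ'C).symm).exists_le_sylow
  obtain ⟨c, rfl⟩ := MulAction.exists_smul_eq C S T
  have hmem : ∀ k : K, k * rep 6 = rep 6 * k →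
      (c : G)⁻¹ * (g * φ k * g⁻¹) * c ∈ core φ := by
    intro k hk
    have hz : g * φ k * g⁻¹ ∈ Z' :=
      ⟨φ k, ⟨k, Subgroup.mem_centralizer_singleton_iff.2 hk, rfl⟩, rfl⟩
    have hzT : (⟨_, hZ'C hz⟩ : C) ∈ ((c • S : Sylow 3 C) : Subgroup C) := hT hz
    rw [Sylow.coe_subgroup_smul] at hzT
    obtain ⟨s, hs, hse⟩ := hzT
    have hse' : (c : G) * s * (c : G)⁻¹ = g * φ k * g⁻¹ := congrArg Subtype.val hse
    rw [← hse', show (c : G)⁻¹ * ((c : G) * s * (c : G)⁻¹) * c = (s : G) by group, ← hS]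
    exact ⟨s, hs, rfl⟩
  set g' := (c : G)⁻¹ * g
  have hg' : g' * φ (rep 6) * g'⁻¹ = φ x := by
    have hcx : (c : G) * φ x = φ x * c := Subgroup.mem_centralizer_singleton_iff.1 c.2
    calc g' * φ (rep 6) * g'⁻¹ = (c : G)⁻¹ * (g * φ (rep 6) * g⁻¹) * c := by simp only [g']; group
      _ = _ := by rw [hg, mul_assoc, ← hcx, inv_mul_cancel_left]
  obtain ⟨y, hy, hy'⟩ := hmem (rep 5) hsz.symm
  have hgz : g' * φ (rep 5) * g'⁻¹ = φ y := by rw [hy']; simp only [g']; group
  obtain ⟨k, hk, hcomm⟩ := h.fusion hzt hy hgz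
  have hp : (φ k)⁻¹ * g' ∈ pp φ := by
    rw [← h.centralizer_c]; exact Subgroup.mem_centralizer_singleton_iff.2 hcomm
  obtain ⟨m, hm⟩ := pp_le_range hp
  have hgm : φ (k * m) = g' := by rw [map_mul, hm]; group
  have hx' : k * m * rep 6 * (k * m)⁻¹ = x := h.inj (by
    rw [map_mul, map_mul, map_inv, hgm, hg'])
  apply hst
  have := tr_normal.conj_mem x hx (k * m)⁻¹
  rw [← hx'] at this
  simpa [mul_assoc] using this

/-- When not fused to the central class, the outer class of order three has a small centralizer. -/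
theorem card_cent_s (hns : ¬ IsConj (φ (rep 6)) (φ (rep 5))) :
    Nat.card (Subgroup.centralizer ({φ (rep 6)} : Set G)) = 9 := by
  haveI : Fact (Nat.Prime 3) := ⟨Nat.prime_three⟩
  obtain ⟨hsz, hst, hzt, hz5⟩ := s_table
  set C := Subgroup.centralizer ({φ (rep 6)} : Set G)
  set E := (Subgroup.centralizer ({rep 6} : Set K)).map φ
  have hEC : E ≤ C := by
    rintro _ ⟨k, hk, rfl⟩
    rw [Subgroup.mem_centralizer_singleton_iff, ← map_mul, ← map_mul,
      Subgroup.mem_centralizer_singleton_iff.1 hk]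
  have hE9 : Nat.card E = 9 := by rw [h.card_map, card_centralizer, cls_rep]; rfl
  have hrange : ∀ k : K, φ k ∈ C → φ k ∈ E := fun k hk =>
    ⟨k, Subgroup.mem_centralizer_singleton_iff.2 (h.inj (by
      rw [map_mul, map_mul]; exact Subgroup.mem_centralizer_singleton_iff.1 hk)), rfl⟩
  have hnorm : ∀ g ∈ C, (∀ e ∈ E, g * e * g⁻¹ ∈ E) → g ∈ E := by
    intro g hgC hfix
    obtain ⟨y, hyk, hy⟩ := hfix (φ (rep 5))
      ⟨rep 5, Subgroup.mem_centralizer_singleton_iff.2 hsz.symm, rfl⟩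
    obtain ⟨-, -, hy6, -⟩ := s_cent_table y.h y.v (Subgroup.mem_centralizer_singleton_iff.1 hyk)
    rcases hy6 with hyt | hy6
    · obtain ⟨k, -, hcomm⟩ := h.fusion hzt (show y ∈ tr from hyt) hy.symm
      have hp : (φ k)⁻¹ * g ∈ pp φ := by
        rw [← h.centralizer_c]; exact Subgroup.mem_centralizer_singleton_iff.2 hcomm
      obtain ⟨m, hm⟩ := pp_le_range hp
      have hgm : φ (k * m) = g := by rw [map_mul, hm]; group
      rw [← hgm]
      exact hrange _ (by rw [hgm]; exact hgC)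
    · exfalso
      refine hns ?_
      have h1 : IsConj y (rep 6) := by
        have := isConj_rep y
        rwa [show cls y = 6 from hy6] at this
      have h2 : IsConj (φ (rep 5)) (φ y) := isConj_iff.2 ⟨g, hy.symm⟩
      exact ((MonoidHom.map_isConj φ h1).symm.trans h2.symm)
  obtain ⟨Q, hQ⟩ := ((IsPGroup.of_card (p := 3) (n := 2) (hE9.trans rfl)).of_equiv
    (Subgroup.subgroupOfEquivOfLe hEC).symm).exists_le_sylow
  have hQE : (Q : Subgroup C) = E.subgroupOf C := by
    by_contra hne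
    have hlt : (E.subgroupOf C).subgroupOf (Q : Subgroup C) < ⊤ := lt_top_iff_ne_top.2 fun e => hne
      (le_antisymm (Subgroup.subgroupOf_eq_top.1 e) hQ)
    haveI := Q.2.isNilpotent
    obtain ⟨⟨g, hgQ⟩, hgn, hgE⟩ := SetLike.exists_of_lt
      (Group.normalizerCondition_of_isNilpotent _ hlt)
    exact hgE (hnorm g g.2 fun e he =>
      (Subgroup.mem_normalizer_iff.1 hgn ⟨⟨e, hEC he⟩, hQ he⟩).1 he)
  have hN : Subgroup.normalizer ((Q : Subgroup C) : Set C) ≤
      Subgroup.centralizer ((Q : Subgroup C) : Set C) := by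
    intro n hn
    have hnE : (n : G) ∈ E := hnorm n n.2 fun e he => by
      have := (Subgroup.mem_normalizer_iff.1 hn ⟨e, hEC he⟩).1 (show (⟨e, hEC he⟩ : C) ∈
        (Q : Subgroup C) by rw [hQE]; exact he)
      rw [hQE] at this
      exact this
    refine Subgroup.mem_centralizer_iff.2 fun q hq => Subtype.ext ?_
    rw [hQE] at hq
    obtain ⟨a, ha, ha'⟩ := (hq : (q : G) ∈ E)
    obtain ⟨b, hb, hb'⟩ := hnE
    show (q : G) * n = n * q
    rw [show (q : G) = φ a from ha'.symm, ← hb', ← map_mul, ← map_mul]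
    congr 1
    exact (s_cent_table a.h a.v (Subgroup.mem_centralizer_singleton_iff.1 ha)).2.2.2 b.h b.v
      (Subgroup.mem_centralizer_singleton_iff.1 hb)
  have hcomp : Cfsg.HasNormalPComplement 3 C :=
    ⟨Q, (MonoidHom.transferSylow Q hN).ker, inferInstance,
      MonoidHom.ker_transferSylow_isComplement' Q hN⟩
  obtain ⟨h3, h1⟩ := orderOf_rep 6 (by decide)
  have hp := isPGroup_of_complement hcomp (h.cores (rep 6) (orderOf_eq_three h3 h1))
  have htop : (Q : Subgroup C) = ⊤ := (Q.3 (hp.to_subgroup ⊤) le_top).symm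
  rw [hQE, Subgroup.subgroupOf_eq_top] at htop
  rw [le_antisymm htop hEC, hE9]

end Setup

namespace Glue

variable {ψ : CMod →* G} (hg : Glue φ ψ)
include hg

/-- Centralizers inside the parametrised centralizer. -/
theorem card_cent {m : CMod} (hm : Subgroup.centralizer ({ψ m} : Set G) ≤
    Subgroup.centralizer ({φ (rep 3)} : Set G)) :
    Nat.card (Subgroup.centralizer ({ψ m} : Set G)) =
      3 * ((Finset.univ : Finset (Perm (Fin 6))).filter fun σ =>
        Perm.sign σ = 1 ∧ σ * (m.2 : Perm (Fin 6)) = (m.2 : Perm (Fin 6)) * σ).card := by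
  have e1 : Subgroup.centralizer ({ψ m} : Set G) =
      (Subgroup.centralizer ({m} : Set CMod)).map ψ := by
    refine le_antisymm (fun g hg' => ?_) ?_
    · obtain ⟨n, rfl⟩ : g ∈ ψ.range := hg.range ▸ hm hg'
      refine ⟨n, Subgroup.mem_centralizer_singleton_iff.2 (hg.inj ?_), rfl⟩
      rw [map_mul, map_mul]
      exact Subgroup.mem_centralizer_singleton_iff.1 hg'
    · rintro _ ⟨n, hn, rfl⟩
      rw [Subgroup.mem_centralizer_singleton_iff, ← map_mul, ← map_mul,
        Subgroup.mem_centralizer_singleton_iff.1 hn]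
  rw [e1, ← Nat.card_congr ((Subgroup.centralizer ({m} : Set CMod)).equivMapOfInjective ψ hg.inj).toEquiv]
  rw [Nat.card_congr (show Subgroup.centralizer ({m} : Set CMod) ≃
      Multiplicative (ZMod 3) × {σ : Perm (Fin 6) // Perm.sign σ = 1 ∧
        σ * (m.2 : Perm (Fin 6)) = (m.2 : Perm (Fin 6)) * σ} from
    { toFun := fun n => ((n : CMod).1, ⟨(n : CMod).2,
        Perm.mem_alternatingGroup.1 (n : CMod).2.2,
        congrArg (fun z : CMod => (z.2 : Perm (Fin 6)))
          (Subgroup.mem_centralizer_singleton_iff.1 n.2)⟩)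
      invFun := fun p => ⟨(p.1, ⟨p.2.1, Perm.mem_alternatingGroup.2 p.2.2.1⟩),
        Subgroup.mem_centralizer_singleton_iff.2 (Prod.ext (mul_comm _ _) (Subtype.ext p.2.2.2))⟩
      left_inv := fun _ => rfl
      right_inv := fun _ => rfl }), Nat.card_prod, Nat.card_eq_fintype_card,
    Nat.card_eq_fintype_card, Fintype.card_subtype]
  rfl

end Glue

end CfsgLib.ThreeLocalNine
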