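import Cfsg.Agent.ThreeLocalNine.Probe

/-!
# The tables of the three configurations
-/

set_option autoImplicit false
set_option maxRecDepth 100000
set_option linter.style.longLine false

namespace CfsgLib.ThreeLocalNine

/-- The values in case III, `(A + B √3) / 2`. -/
def phiThree : List (List (ℤ × ℤ)) :=
  [[(0, 0), (0, 0), (0, 0), (0, 0), (0, 0), (0, 0), (0, 0), (0, -4), (0, 4)],
    [(0, 0), (0, 0), (0, 0), (0, 0), (0, 0), (6, 0), (-6, 0), (0, 0), (0, 0)],
    [(18, 0), (0, 0), (0, 0), (6, 0), (0, 0), (-6, 0), (0, 0), (0, -2), (0, 2)],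
    [(6, 0), (12, 0), (18, 0), (-6, 0), (0, 0), (0, 0), (0, 0), (0, 2), (0, -2)],
    [(18, 0), (0, 0), (0, 0), (6, 0), (0, 0), (6, 0), (6, 0), (0, -2), (0, 2)],
    [(6, 0), (12, 0), (18, 0), (6, 0), (0, 0), (0, 0), (0, 0), (6, 0), (6, 0)],
    [(0, 0), (18, 0), (0, 0), (0, 0), (6, 0), (6, 0), (0, 0), (0, 0), (0, 0)],
    [(6, 0), (12, 0), (18, 0), (6, 0), (0, 0), (0, 0), (0, 0), (-6, 0), (-6, 0)],
    [(0, 0), (18, 0), (0, 0), (0, 0), (-6, 0), (6, 0), (0, 0), (0, 0), (0, 0)]]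

/-- The centralizer orders. -/
def cnOne : Fin 10 → ℕ := ![9, 9, 6, 15, 15, 12, 81, 54, 24, 1080]

/-- The weights of the congruence. -/
def wOne : Fin 10 → ℤ := ![18, 18, 0, 0, 0, 0, 26, 12, 0, 6]

/-- The table of case I. -/
def tblOne : Table where
  cfg := cfgOne
  num := 10
  cn := cnOne
  phi := phiOne
  e := -15
  sg := -1
  core := ![9, 7, 6]
  w := wOne
  cnt := ![2, 0, 20, 2, 3, 4, 56]

/-- The centralizer orders. -/
def cnTwo : Fin 11 → ℕ := ![9, 9, 6, 15, 15, 12, 81, 54, 24, 1080, 9]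

/-- The weights of the congruence. -/
def wTwo : Fin 11 → ℤ := ![18, 18, 0, 0, 0, 0, 8, 12, 0, 6, 18]

/-- The table of case II. -/
def tblTwo : Table where
  cfg := cfgTwo
  num := 11
  cn := cnTwo
  phi := phiTwo
  e := -15
  sg := -1
  core := ![9, 7, 6]
  w := wTwo
  cnt := ![2, 0, 20, 2, 3, 4, 20]

/-- The centralizer orders. -/
def cnThree : Fin 9 → ℕ := ![108, 54, 81, 12, 6, 9, 9, 12, 12]

/-- The weights of the congruence. -/
def wThree : Fin 9 → ℤ := ![6, 12, 26, 0, 0, 18, 18, 0, 0]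

/-- The table of case III. -/
def tblThree : Table where
  cfg := cfgThree
  num := 9
  cn := cnThree
  phi := phiThree
  e := 3
  sg := 1
  core := ![0, 1, 2]
  w := wThree
  cnt := ![2, 0, 2, 2, 3, 4, 38]

theorem tblOne_valid : tblOne.Valid := by decide +kernel

theorem tblTwo_valid : tblTwo.Valid := by decide +kernel

theorem tblThree_valid : tblThree.Valid := by decide +kernel

end CfsgLib.ThreeLocalNine
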