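import Cfsg.Agent.ThreeLocalNine.Fusion
import Cfsg.Agent.ThreeLocalNine.Tabs

/-!
# The marked elements of the three configurations
-/

set_option autoImplicit false
set_option maxRecDepth 100000
set_option linter.style.haveILetI false

namespace CfsgLib.ThreeLocalNine

open CfsgLib.AltNine Equiv

universe u

/-- A five-cycle. -/
def f5 : A6 := ⟨swap 0 1 * swap 1 2 * swap 2 3 * swap 3 4,
  Perm.mem_alternatingGroup.2 (by decide)⟩

/-- A double transposition. -/
def t45 : A6 := ⟨swap 1 2 * swap 4 5, Perm.mem_alternatingGroup.2 (by decide)⟩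

/-- The element of order six with square in the rotations. -/
def m8 : CMod := (Multiplicative.ofAdd 1, t45)
/-- An element of order twelve. -/
def m12 : CMod := (Multiplicative.ofAdd 1, W)
/-- The other one in the normalizer. -/
def m13 : CMod := (Multiplicative.ofAdd 2, W)
/-- An element of order fifteen. -/
def mP : CMod := (Multiplicative.ofAdd 1, f5)
/-- The other one. -/
def mQ : CMod := (Multiplicative.ofAdd 1, f5 * f5)

theorem model_table : emb m8 = toPerm (rep 8) ∧ emb m12 = toPerm (rep 12) ∧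
    emb m13 = toPerm (rep 13) ∧ rep 8 * rep 3 = rep 3 * rep 8 ∧
    rep 12 * rep 3 = rep 3 * rep 12 ∧ rep 13 * rep 3 = rep 3 * rep 13 := by decide +kernel

theorem power_table : m8 ^ 4 = mA ∧ m12 ^ 4 = mA ∧ mP ^ 10 = mA ∧ mQ ^ 10 = mA := by
  decide +kernel

theorem count_table : ∀ m ∈ [(m8, 8), (m12, 4), (mP, 5), (mQ, 5)],
    ((Finset.univ : Finset (Perm (Fin 6))).filter fun σ =>
      Perm.sign σ = 1 ∧ σ * ((m : CMod × ℕ).1.2 : Perm (Fin 6)) = (m.1.2 : Perm (Fin 6)) * σ).card =
      m.2 := by decide +kernel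

theorem five_table : ∀ σ : Perm (Fin 6), Perm.sign σ = 1 →
    σ * (f5 : Perm (Fin 6)) * σ⁻¹ ≠ ((f5 * f5 : A6) : Perm (Fin 6)) := by decide +kernel

theorem flip13_table : ∃ σ : Perm (Fin 6), Perm.sign σ = 1 ∧
    σ * (swap 1 2 * (W : Perm (Fin 6)) * (swap 1 2)⁻¹) * σ⁻¹ = (W : Perm (Fin 6)) := by
  decide +kernel

variable {G : Type u} [Group G] [Finite G] {φ : K →* G} {ψ : CMod →* G}

/-- The marked classes of the model in case III. -/
def lcThree : Fin 9 → Fin 14 := ![3, 4, 5, 8, 9, 10, 11, 12, 13]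

/-- The marked elements in case III. -/
def rThree (φ : K →* G) (k : Fin 9) : G := φ (rep (lcThree k))

/-- The marked elements in case I. -/
def rOne (φ : K →* G) (ψ : CMod →* G) : Fin 10 → G :=
  ![φ (rep 10), φ (rep 11), φ (rep 9), ψ mP, ψ mQ, φ (rep 12), φ (rep 5), φ (rep 4), φ (rep 8),
    φ (rep 3)]

/-- The marked elements in case II. -/
def rTwo (φ : K →* G) (ψ : CMod →* G) : Fin 11 → G :=
  ![φ (rep 10), φ (rep 11), φ (rep 9), ψ mP, ψ mQ, φ (rep 12), φ (rep 5), φ (rep 4), φ (rep 8),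
    φ (rep 3), φ (rep 6)]

theorem card_eq_of_isConj {x y : G} (hc : IsConj x y) :
    Nat.card (Subgroup.centralizer ({x} : Set G)) =
      Nat.card (Subgroup.centralizer ({y} : Set G)) := by
  obtain ⟨g, rfl⟩ := isConj_iff.1 hc
  exact (card_centralizer_conj g x).symm

theorem pow_eq_one_of_isConj {x y : G} (hc : IsConj x y) {n : ℕ} (hx : x ^ n = 1) : y ^ n = 1 := by
  obtain ⟨g, rfl⟩ := isConj_iff.1 hc
  rw [conj_pow, hx, mul_one, mul_inv_cancel]

theorem lc_cen : ∀ k, cen (lcThree k) = cnThree k ∧ inD (lcThree k) = true := by decide +kernel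

theorem dup_three : ∀ k l : Fin 9, cnThree k = cnThree l → k = l ∨
    (k, l) ∈ [((5 : Fin 9), (6 : Fin 9)), (6, 5), (7, 8), (8, 7), (3, 7), (7, 3), (3, 8), (8, 3)] := by
  decide +kernel

theorem dup_one : ∀ k l : Fin 10, cnOne k = cnOne l → k = l ∨
    (k, l) ∈ [((0 : Fin 10), (1 : Fin 10)), (1, 0), (3, 4), (4, 3)] := by decide +kernel

theorem dup_two : ∀ k l : Fin 11, cnTwo k = cnTwo l → k = l ∨
    (k, l) ∈ [((0 : Fin 11), (1 : Fin 11)), (1, 0), (3, 4), (4, 3), (0, 10), (10, 0), (1, 10),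
      (10, 1)] := by decide +kernel

theorem nine_table : rep 10 ^ 3 ∈ tr ∧ rep 11 ^ 3 ∈ tr ∧
    (cls (rep 10 ^ 3) = 4 ∨ cls (rep 10 ^ 3) = 5) ∧ rep 10 ^ 3 ≠ 1 ∧ rep 11 ^ 3 ≠ 1 ∧
    rep 6 ^ 3 = 1 ∧ rep 8 ^ 6 = 1 ∧ rep 12 ^ 6 ≠ 1 ∧ rep 13 ^ 6 ≠ 1 ∧
    rep 12 ^ 4 ∈ tr ∧ rep 13 ^ 4 ∈ tr ∧ cls (rep 12 ^ 4) = 3 := by decide +kernel

namespace Setup

variable (h : Setup φ)
include h

theorem cn_of_inD {c : Fin 14} (hc : inD c = true)
    (ha : c ∈ ([3, 8, 12, 13] : List (Fin 14)) →
      Subgroup.centralizer ({φ (rep 3)} : Set G) ≤ φ.range) :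
    Nat.card (Subgroup.centralizer ({φ (rep c)} : Set G)) = cen c := by
  rw [h.card_cent_of_le (h.cent_range_rep hc ha), cls_rep]

theorem map_rep_ne_one {c : Fin 14} (hc : c ≠ 0) : φ (rep c) ≠ 1 := by
  intro e
  have := congrArg cls (h.inj (e.trans (map_one φ).symm))
  rw [cls_rep, cls_one] at this
  exact hc this

theorem nine_ne : ¬ IsConj (φ (rep 10)) (φ (rep 11)) := by
  obtain ⟨a, b, c, -⟩ := nine_table
  intro hc
  have := h.cls_eq_of_pow 3 a b (h.cent_le c) hc
  rw [cls_rep, cls_rep] at this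
  exact absurd this (by decide)

/-- Case III: centralizer orders. -/
theorem cn_three (ha : Subgroup.centralizer ({φ (rep 3)} : Set G) ≤ φ.range) (k : Fin 9) :
    Nat.card (Subgroup.centralizer ({rThree φ k} : Set G)) = cnThree k := by
  rw [rThree, h.cn_of_inD (lc_cen k).2 (fun _ => ha), (lc_cen k).1]

/-- Case III: the classes are distinct. -/
theorem dist_three (ha : Subgroup.centralizer ({φ (rep 3)} : Set G) ≤ φ.range) (k l : Fin 9)
    (hc : IsConj (rThree φ k) (rThree φ l)) : k = l := by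
  have he : cnThree k = cnThree l := by
    rw [← h.cn_three ha, ← h.cn_three ha, card_eq_of_isConj hc]
  obtain ⟨-, -, -, -, -, -, p8, p12, p13, t12, t13, c12⟩ := nine_table
  have h1213 : ¬ IsConj (φ (rep 12)) (φ (rep 13)) := fun hc => by
    have := h.cls_eq_of_pow 4 t12 t13 (h.cent_range_cls c12 ha) hc
    rw [cls_rep, cls_rep] at this
    exact absurd this (by decide)
  have h8 : ∀ c, rep c ^ 6 ≠ 1 → ¬ IsConj (φ (rep 8)) (φ (rep c)) := fun c hn hc =>
    hn (h.inj (by rw [map_pow, map_one]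
                  exact pow_eq_one_of_isConj hc (by rw [← map_pow, p8, map_one])))
  rcases dup_three k l he with e | e
  · exact e
  · exfalso
    simp only [List.mem_cons, Prod.mk.injEq, List.not_mem_nil, or_false] at e
    rcases e with e | e | e | e | e | e | e | e <;> obtain ⟨rfl, rfl⟩ := e <;>
      simp only [rThree, lcThree] at hc
    exacts [h.nine_ne hc, h.nine_ne hc.symm, h1213 hc, h1213 hc.symm, h8 12 p12 hc,
      h8 12 p12 hc.symm, h8 13 p13 hc, h8 13 p13 hc.symm]

theorem ne_one_three (k : Fin 9) : rThree φ k ≠ 1 :=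
  h.map_rep_ne_one (by revert k; decide)

end Setup

namespace Glue

variable (hg : Glue φ ψ)
include hg

theorem psi_mA : ψ mA = φ (rep 3) := hg.agree _ _ rfl emb_gens.1

theorem psi_models : ψ m8 = φ (rep 8) ∧ ψ m12 = φ (rep 12) ∧ ψ m13 = φ (rep 13) := by
  obtain ⟨a, b, c, d, e, f⟩ := model_table
  exact ⟨hg.agree _ _ d a, hg.agree _ _ e b, hg.agree _ _ f c⟩

theorem cent_le_of_pow {m : CMod} {n : ℕ} (hm : m ^ n = mA) :
    Subgroup.centralizer ({ψ m} : Set G) ≤ Subgroup.centralizer ({φ (rep 3)} : Set G) := by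
  intro g hgm
  rw [Subgroup.mem_centralizer_singleton_iff] at hgm ⊢
  rw [← hg.psi_mA, ← hm, map_pow]
  exact ((show Commute g (ψ m) from hgm).pow_right n).eq

theorem card_cent_model {m : CMod} {n c : ℕ} (hm : m ^ n = mA)
    (hmem : (m, c) ∈ [(m8, 8), (m12, 4), (mP, 5), (mQ, 5)]) :
    Nat.card (Subgroup.centralizer ({ψ m} : Set G)) = 3 * c := by
  rw [hg.card_cent (hg.cent_le_of_pow hm)]
  exact congrArg (3 * ·) (count_table (m, c) hmem)

theorem card_cent_a : Nat.card (Subgroup.centralizer ({φ (rep 3)} : Set G)) = 1080 := by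
  rw [← hg.range, ← Nat.card_congr (MonoidHom.ofInjective hg.inj).toEquiv, Nat.card_prod,
    nat_card_alternatingGroup, Nat.card_eq_fintype_card, Fintype.card_multiplicative, ZMod.card,
    Nat.card_fin]
  rfl

theorem fifteen_ne : ¬ IsConj (ψ mP) (ψ mQ) := by
  intro hc
  obtain ⟨g, hgc⟩ := isConj_iff.1 hc
  obtain ⟨-, -, p, q⟩ := power_table
  have hgA : g * φ (rep 3) * g⁻¹ = φ (rep 3) := by
    conv_lhs => rw [← hg.psi_mA, ← p, map_pow, ← conj_pow, hgc, ← map_pow, q, hg.psi_mA]
  obtain ⟨n, rfl⟩ : g ∈ ψ.range := by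
    rw [hg.range, Subgroup.mem_centralizer_singleton_iff]
    calc g * φ (rep 3) = g * φ (rep 3) * g⁻¹ * g := by group
      _ = φ (rep 3) * g := by rw [hgA]
  have := congrArg (fun m : CMod => (m.2 : Perm (Fin 6)))
    (hg.inj (by rw [map_mul, map_mul, map_inv]; exact hgc) : n * mP * n⁻¹ = mQ)
  exact five_table _ (Perm.mem_alternatingGroup.1 n.2.2) this

/-- The two classes of elements of order twelve are fused. -/
theorem isConj_twelve : IsConj (φ (rep 13)) (φ (rep 12)) := by
  obtain ⟨-, h12, h13⟩ := hg.psi_models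
  obtain ⟨σ, hs, hσ⟩ := flip13_table
  have h1 : IsConj (ψ m13) (ψ (flipMod m13)) := isConj_iff.2 ⟨φ kInv, (hg.flip m13).symm⟩
  have h2 : IsConj (ψ (flipMod m13)) (ψ m12) := ψ.map_isConj (isConj_iff.2
    ⟨((1 : Multiplicative (ZMod 3)), (⟨σ, Perm.mem_alternatingGroup.2 hs⟩ : A6)),
      Prod.ext (by simp [flipMod, m13, m12]; decide) (Subtype.ext (by
        simp only [flipMod, m13, m12, Prod.snd_mul, Prod.snd_inv, Subgroup.coe_mul,
          InvMemClass.coe_inv, conj6_val]
        exact hσ))⟩)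
  rw [← h12, ← h13]
  exact h1.trans h2

end Glue

namespace Setup

variable (h : Setup φ) (hg : Glue φ ψ)
include h hg

/-- Case I: centralizer orders. -/
theorem cn_one (k : Fin 10) :
    Nat.card (Subgroup.centralizer ({rOne φ ψ k} : Set G)) = cnOne k := by
  obtain ⟨e8, e12, -⟩ := hg.psi_models
  obtain ⟨p8, p12, pP, pQ⟩ := power_table
  fin_cases k <;> simp only [rOne, cnOne]
  · exact h.cn_of_inD (by decide) (fun hm => absurd hm (by decide))
  · exact h.cn_of_inD (by decide) (fun hm => absurd hm (by decide))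
  · exact h.cn_of_inD (by decide) (fun hm => absurd hm (by decide))
  · exact hg.card_cent_model pP (c := 5) (by simp)
  · exact hg.card_cent_model pQ (c := 5) (by simp)
  · rw [← e12]; exact hg.card_cent_model p12 (c := 4) (by simp)
  · show Nat.card (Subgroup.centralizer ({φ (rep 5)} : Set G)) = 81
    rw [h.centralizer_c]; exact h.card_pp
  · exact h.cn_of_inD (by decide) (fun hm => absurd hm (by decide))
  · rw [← e8]; exact hg.card_cent_model p8 (c := 8) (by simp)
  · exact hg.card_cent_a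

theorem ne_one_one (k : Fin 10) : rOne φ ψ k ≠ 1 := by
  intro e
  have := h.cn_one hg k
  rw [e, show Subgroup.centralizer ({(1 : G)} : Set G) = ⊤ from
    eq_top_iff.2 fun x _ => Subgroup.mem_centralizer_singleton_iff.2 (by simp),
    Subgroup.card_top] at this
  have h648 : 648 ≤ Nat.card G := h.card_range ▸ Subgroup.card_le_card_group _
  have hb : ∀ k, cnOne k < 648 ∨ k = 9 := by decide +kernel
  rcases hb k with hk | rfl
  · omega
  · exact h.map_rep_ne_one (c := 3) (by decide) e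

/-- Case I: the classes are distinct. -/
theorem dist_one (k l : Fin 10) (hc : IsConj (rOne φ ψ k) (rOne φ ψ l)) : k = l := by
  have he : cnOne k = cnOne l := by
    rw [← h.cn_one hg, ← h.cn_one hg, card_eq_of_isConj hc]
  rcases dup_one k l he with e | e
  · exact e
  · exfalso
    simp only [List.mem_cons, Prod.mk.injEq, List.not_mem_nil, or_false] at e
    rcases e with e | e | e | e <;> obtain ⟨rfl, rfl⟩ := e <;> simp only [rOne] at hc
    exacts [h.nine_ne hc, h.nine_ne hc.symm, hg.fifteen_ne hc, hg.fifteen_ne hc.symm]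

theorem rTwo_castSucc (k : Fin 10) : rTwo φ ψ k.castSucc = rOne φ ψ k := by
  fin_cases k <;> rfl

variable (hns : ¬ IsConj (φ (rep 6)) (φ (rep 5)))
include hns

/-- Case II: centralizer orders. -/
theorem cn_two (k : Fin 11) :
    Nat.card (Subgroup.centralizer ({rTwo φ ψ k} : Set G)) = cnTwo k := by
  induction k using Fin.lastCases with
  | last => exact h.card_cent_s hns
  | cast k =>
    rw [h.rTwo_castSucc hg, h.cn_one hg]
    revert k; decide +kernel

theorem ne_one_two (k : Fin 11) : rTwo φ ψ k ≠ 1 := by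
  induction k using Fin.lastCases with
  | last => exact h.map_rep_ne_one (c := 6) (by decide)
  | cast k => rw [h.rTwo_castSucc hg]; exact h.ne_one_one hg k

/-- Case II: the classes are distinct. -/
theorem dist_two (k l : Fin 11) (hc : IsConj (rTwo φ ψ k) (rTwo φ ψ l)) : k = l := by
  have he : cnTwo k = cnTwo l := by
    rw [← h.cn_two hg hns, ← h.cn_two hg hns, card_eq_of_isConj hc]
  obtain ⟨-, -, -, p10, p11, p6, -⟩ := nine_table
  have h6 : ∀ c, rep c ^ 3 ≠ 1 → ¬ IsConj (φ (rep 6)) (φ (rep c)) := fun c hn hc =>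
    hn (h.inj (by rw [map_pow, map_one]
                  exact pow_eq_one_of_isConj hc (by rw [← map_pow, p6, map_one])))
  rcases dup_two k l he with e | e
  · exact e
  · exfalso
    simp only [List.mem_cons, Prod.mk.injEq, List.not_mem_nil, or_false] at e
    rcases e with e | e | e | e | e | e | e | e <;> obtain ⟨rfl, rfl⟩ := e <;>
      simp only [rTwo] at hc
    exacts [h.nine_ne hc, h.nine_ne hc.symm, hg.fifteen_ne hc, hg.fifteen_ne hc.symm,
      h6 10 p10 hc.symm, h6 10 p10 hc, h6 11 p11 hc.symm, h6 11 p11 hc]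

end Setup

end CfsgLib.ThreeLocalNine
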