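import Cfsg.Agent.ThreeLocalNine.Data
import Cfsg.Agent.Char.ClassProducts
import Cfsg.Agent.Char.Generalized

/-!
# From character values at marked elements to a system of integer vectors

A table lists, for marked elements in distinct classes, the values of generalized characters with
integral inner products.  Orthogonality turns them into a system of columns.
-/

set_option autoImplicit false
set_option maxRecDepth 100000
set_option linter.style.haveILetI false

namespace CfsgLib.ThreeLocalNine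

open scoped ComplexConjugate
open CfsgLib.AltNine (dot vecRev)
open CfsgLib.Char (irrFinset)

universe u

/-- The data of a configuration at marked elements; values are `(A + B δ) / 2`. -/
structure Table where
  /-- the configuration -/
  cfg : Cfg
  /-- the number of marked elements -/
  num : ℕ
  /-- their centralizer orders -/
  cn : Fin num → ℕ
  /-- the values -/
  phi : List (List (ℤ × ℤ))
  /-- the square of `δ` -/
  e : ℤ
  /-- the effect of conjugation on `δ` -/
  sg : ℤ
  /-- the elements of the three classes of the core -/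
  core : Fin 3 → Fin num
  /-- weights of the congruence for the degree -/
  w : Fin num → ℤ
  /-- numbers of factorisations -/
  cnt : Fin 7 → ℕ

/-- The order in which the classes of a monomial are used. -/
def orient : Fin 7 → Fin 3 × Fin 3 × Fin 3
  | 0 => (0, 0, 1)
  | 1 => (0, 0, 2)
  | 2 => (0, 1, 1)
  | 3 => (0, 2, 1)
  | 4 => (0, 2, 2)
  | 5 => (2, 1, 1)
  | 6 => (2, 2, 1)

theorem mon_orient {x : Fin 3 → ℤ} (k : Fin 7) :
    AltNine.monoAt x k = x (orient k).1 * x (orient k).2.1 * x (orient k).2.2 := by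
  fin_cases k <;> simp [AltNine.monoAt, AltNine.mono, orient] <;> ring

namespace Table

variable (T : Table)

/-- A value. -/
def ab (i : ℕ) (k : Fin T.num) : ℤ × ℤ := (T.phi.getD i []).getD k (0, 0)

/-- A value as a complex number. -/
noncomputable def val (δ : ℂ) (i : ℕ) (k : Fin T.num) : ℂ :=
  ((T.ab i k).1 + (T.ab i k).2 * δ) / 2

/-- The common denominator over a centralizer order. -/
def mult (k : Fin T.num) : ℤ := 3240 / (T.cn k : ℤ)

/-- A coefficient of a linear form. -/
def coef (l : List ℤ) (i : ℕ) : ℤ := l.getD (T.cfg.dim - 1 - i) 0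

/-- The identities satisfied by a table. -/
def Valid : Prop :=
  (∀ k, (T.cn k : ℤ) * T.mult k = 3240) ∧
  (∀ i : Fin T.cfg.dim, ∀ j : Fin T.cfg.dim,
    ∑ k, T.mult k * ((T.ab j k).1 * (T.ab i k).1 + T.sg * T.e * (T.ab j k).2 * (T.ab i k).2) =
        12960 * (T.cfg.gram i j + T.cfg.trivAt i * T.cfg.trivAt j) ∧
      ∑ k, T.mult k * ((T.ab j k).2 * (T.ab i k).1 + T.sg * (T.ab j k).1 * (T.ab i k).2) = 0) ∧
  (∀ i : Fin T.cfg.dim, ∑ k, T.mult k * (T.ab i k).1 = 6480 * T.cfg.trivAt i ∧
      ∑ k, T.mult k * (T.ab i k).2 = 0) ∧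
  (∀ p : Fin 3, ∀ k, ∑ i : Fin T.cfg.dim, T.coef (T.cfg.xf.getD p []) i * (T.ab i k).1 =
        (if k = T.core p then 2 * (T.cn k : ℤ) else 0) ∧
      ∑ i : Fin T.cfg.dim, T.coef (T.cfg.xf.getD p []) i * (T.ab i k).2 = 0) ∧
  (∀ k, ∑ i : Fin T.cfg.dim, T.coef T.cfg.rf i * (T.ab i k).1 = -2 * T.w k * T.cn k ∧
      ∑ i : Fin T.cfg.dim, T.coef T.cfg.rf i * (T.ab i k).2 = 0) ∧
  (∀ k : Fin 7, T.cfg.rhs.getD k 0 = (T.cnt k : ℤ) * T.cn (T.core (orient k).1) *
      T.cn (T.core (orient k).2.1)) ∧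
  (∀ p : Fin 3, (T.cfg.xf.getD p []).length = T.cfg.dim) ∧ T.cfg.rf.length = T.cfg.dim

instance : Decidable T.Valid := by unfold Valid; infer_instance

variable {T} {G : Type u} [Group G] [Fintype G]

/-- The sum defining a multiplicity. -/
noncomputable def pairing (T : Table) (δ : ℂ) (r : Fin T.num → G) (χ : G → ℂ) (i : ℕ) : ℂ :=
  ∑ k, χ (r k) * conj (T.val δ i k) / T.cn k

theorem sum_coef {δ : ℂ} (hδc : conj δ = T.sg * δ) (r : Fin T.num → G) (χ : G → ℂ)
    (l : List ℤ) (v : Fin T.num → ℤ)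
    (h1 : ∀ k, ∑ i : Fin T.cfg.dim, T.coef l i * (T.ab i k).1 = 2 * v k)
    (h2 : ∀ k, ∑ i : Fin T.cfg.dim, T.coef l i * (T.ab i k).2 = 0) :
    ∑ i : Fin T.cfg.dim, (T.coef l i : ℂ) * T.pairing δ r χ i = ∑ k, χ (r k) * v k / T.cn k := by
  simp only [pairing, Finset.mul_sum]
  rw [Finset.sum_comm]
  refine Finset.sum_congr rfl fun k _ => ?_
  have e1 := congrArg (Int.cast (R := ℂ)) (h1 k)
  have e2 := congrArg (Int.cast (R := ℂ)) (h2 k)
  push_cast at e1 e2
  have e : ∀ i : Fin T.cfg.dim, (T.coef l i : ℂ) * (χ (r k) * conj (T.val δ i k) / T.cn k) =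
      χ (r k) / (2 * T.cn k) * ((T.coef l i : ℂ) * (T.ab i k).1 +
        (T.sg * δ) * ((T.coef l i : ℂ) * (T.ab i k).2)) := by
    intro i
    simp only [val, map_div₀, map_add, map_mul, map_intCast, map_ofNat, hδc]
    ring
  rw [Finset.sum_congr rfl fun i _ => e i, ← Finset.mul_sum, Finset.sum_add_distrib, e1,
    ← Finset.mul_sum, e2]
  ring

/-- A table valid in a group gives a system of columns. -/
theorem exists_system (hv : T.Valid) {δ : ℂ} (hδ2 : δ ^ 2 = T.e) (hδc : conj δ = T.sg * δ)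
    (r : Fin T.num → G) (hc : ∀ k, Nat.card (Subgroup.centralizer ({r k} : Set G)) = T.cn k)
    (hne : ∀ k, r k ≠ 1) (hd : ∀ k l, IsConj (r k) (r l) → k = l)
    (hint : ∀ χ, Cfsg.IsIrrCharacter G χ → ∀ i : Fin T.cfg.dim,
      ∃ n : ℤ, T.pairing δ r χ i = n)
    (hres : ∀ χ, Cfsg.IsIrrCharacter G χ →
      ∃ n : ℤ, χ 1 + ∑ k, (T.w k : ℂ) * χ (r k) = 81 * n)
    (hcnt : ∀ k : Fin 7, Nat.card {p : G × G // IsConj (r (T.core (orient k).1)) p.1 ∧
      IsConj (r (T.core (orient k).2.1)) p.2 ∧ p.1 * p.2 = r (T.core (orient k).2.2)} = T.cnt k) :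
    ∃ (ι : Type u) (_ : Fintype ι) (ch : ι → G → ℂ) (z : ι → ℕ → ℤ) (d : ι → ℤ),
      T.cfg.System z d (Nat.card G) ∧ ∀ χ, Cfsg.IsIrrCharacter G (ch χ) ∧ ch χ 1 = d χ ∧
        ∀ i : Fin T.cfg.dim, T.pairing δ r (ch χ) i = z χ i := by
  classical
  obtain ⟨hm, hgram, htriv, hxf, hrf, hrhs, hxl, hrl⟩ := hv
  let one : G → ℂ := fun _ => 1
  have h1 : Cfsg.IsIrrCharacter G one := CfsgLib.Char.isIrrCharacter_one
  have hone : one ∈ irrFinset G := CfsgLib.Char.mem_irrFinset.2 h1
  let I := {χ : G → ℂ // χ ∈ (irrFinset G).erase one}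
  have hirr : ∀ χ : I, Cfsg.IsIrrCharacter G χ.1 := fun χ =>
    CfsgLib.Char.mem_irrFinset.1 (Finset.mem_of_mem_erase χ.2)
  have split : ∀ F : (G → ℂ) → ℂ, ∑ χ ∈ irrFinset G, F χ = F one + ∑ χ : I, F χ.1 := by
    intro F
    rw [← Finset.add_sum_erase _ F hone, ← Finset.sum_coe_sort ((irrFinset G).erase one) F]
  have hdex : ∀ χ : I, ∃ n : ℕ, 0 < n ∧ χ.1 1 = n := fun χ =>
    CfsgLib.Char.IsIrrCharacter.exists_degree (hirr χ)
  choose dn hdpos hdn using hdex
  let d : I → ℤ := fun χ => (dn χ : ℤ)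
  choose zb hzb using fun χ : I => fun i => hint χ.1 (hirr χ) i
  let z : I → ℕ → ℤ := fun χ j => if hj : j < T.cfg.dim then zb χ ⟨j, hj⟩ else 0
  have hz : ∀ χ : I, ∀ i : Fin T.cfg.dim, T.pairing δ r χ.1 i = z χ i := by
    intro χ i
    simp only [z, i.2, dif_pos]
    exact hzb χ i
  have hcn : ∀ k, (T.cn k : ℂ) ≠ 0 := fun k => by
    rw [← hc k]; exact_mod_cast Nat.card_pos.ne'
  have hmC : ∀ k, (T.mult k : ℂ) / 3240 = 1 / T.cn k := fun k => by
    have := congrArg (Int.cast (R := ℂ)) (hm k)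
    push_cast at this
    rw [div_eq_div_iff (by norm_num) (hcn k)]
    linear_combination this
  have hone' : ∀ i : Fin T.cfg.dim, T.pairing δ r one i = (T.cfg.trivAt i : ℂ) := by
    intro i
    obtain ⟨a, b⟩ := htriv i
    have e1 := congrArg (Int.cast (R := ℂ)) a
    have e2 := congrArg (Int.cast (R := ℂ)) b
    push_cast at e1 e2
    have e : ∀ k, one (r k) * conj (T.val δ i k) / T.cn k =
        ((T.mult k : ℂ) * (T.ab i k).1 + T.sg * δ * ((T.mult k : ℂ) * (T.ab i k).2)) / 6480 := by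
      intro k
      simp only [one, val, map_div₀, map_add, map_mul, map_intCast, map_ofNat, hδc]
      linear_combination (-((T.ab i k).1 + T.sg * δ * (T.ab i k).2) / 2 : ℂ) * hmC k
    rw [pairing, Finset.sum_congr rfl fun k _ => e k, ← Finset.sum_div, Finset.sum_add_distrib,
      ← Finset.mul_sum, e1, e2]
    ring
  -- values at the core
  have hx : ∀ χ : I, ∀ p : Fin 3,
      (T.cfg.xc p (vecRev T.cfg.dim (z χ)) : ℂ) = χ.1 (r (T.core p)) := by
    intro χ p
    rw [Cfg.xc, dot_vecRev _ _ _ (hxl p), ← Fin.sum_univ_eq_sum_range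
      (fun i => (T.cfg.xf.getD p []).getD (T.cfg.dim - 1 - i) 0 * z χ i)]
    push_cast
    simp only [← hz]
    rw [show (∑ i : Fin T.cfg.dim, ((T.cfg.xf.getD p []).getD (T.cfg.dim - 1 - i) 0 : ℂ) *
        T.pairing δ r χ.1 i) = ∑ i : Fin T.cfg.dim, (T.coef (T.cfg.xf.getD p []) i : ℂ) *
        T.pairing δ r χ.1 i from rfl,
      sum_coef hδc r χ.1 _ (fun k => if k = T.core p then (T.cn k : ℤ) else 0)
        (fun k => by rw [(hxf p k).1]; split_ifs <;> simp) (fun k => (hxf p k).2),
      Finset.sum_eq_single (T.core p) (fun k _ hk => by simp [hk]) (by simp)]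
    simp only [if_true, Int.cast_natCast]
    field_simp [hcn (T.core p)]
  refine ⟨I, inferInstance, fun χ => χ.1, z, d, ⟨?_, ?_, fun χ => ?_, ?_, ?_, ?_⟩,
    fun χ => ⟨hirr χ, hdn χ, hz χ⟩⟩
  · -- inner products
    intro i hi j hj
    have key : ∀ a b : Fin T.cfg.dim,
        ∑ χ ∈ irrFinset G, T.pairing δ r χ a * conj (T.pairing δ r χ b) =
          ((T.cfg.gram a b + T.cfg.trivAt a * T.cfg.trivAt b : ℤ) : ℂ) := by
      intro a b
      obtain ⟨g1, g2⟩ := hgram a b
      have e1 := congrArg (Int.cast (R := ℂ)) g1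
      have e2 := congrArg (Int.cast (R := ℂ)) g2
      push_cast at e1 e2
      simp only [pairing, map_sum, map_div₀, map_mul, Complex.conj_conj, map_natCast,
        Finset.sum_mul_sum]
      rw [Finset.sum_comm]
      have e : ∀ k, ∑ χ ∈ irrFinset G, ∑ l, χ (r k) * conj (T.val δ a k) / T.cn k *
          (conj (χ (r l)) * T.val δ b l / T.cn l) =
          conj (T.val δ a k) * T.val δ b k / T.cn k := by
        intro k
        rw [Finset.sum_comm]
        have e' : ∀ l, ∑ χ ∈ irrFinset G, χ (r k) * conj (T.val δ a k) / T.cn k *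
            (conj (χ (r l)) * T.val δ b l / T.cn l) =
            conj (T.val δ a k) * T.val δ b l / (T.cn k * T.cn l) *
              (if k = l then (T.cn k : ℂ) else 0) := by
          intro l
          rw [show (if k = l then (T.cn k : ℂ) else 0) =
            ∑ χ ∈ irrFinset G, χ (r k) * conj (χ (r l)) by
            rw [CfsgLib.Char.sum_irr_mul_conj, hc]
            by_cases e : k = l
            · subst e; rw [if_pos rfl, if_pos (IsConj.refl _)]
            · rw [if_neg e, if_neg fun h => e (hd k l h)], Finset.mul_sum]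
          exact Finset.sum_congr rfl fun χ _ => by ring
        rw [Finset.sum_congr rfl fun l _ => e' l]
        simp only [mul_ite, mul_zero, Finset.sum_ite_eq, Finset.mem_univ, if_true]
        field_simp [hcn k]
      rw [Finset.sum_congr rfl fun k _ => e k]
      have ek : ∀ k, conj (T.val δ a k) * T.val δ b k / T.cn k =
          ((T.mult k : ℂ) * ((T.ab b k).1 * (T.ab a k).1 + T.sg * T.e * (T.ab b k).2 * (T.ab a k).2)
            + δ * ((T.mult k : ℂ) *
              ((T.ab b k).2 * (T.ab a k).1 + T.sg * (T.ab b k).1 * (T.ab a k).2))) / 12960 := by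
        intro k
        simp only [val, map_div₀, map_add, map_mul, map_intCast, map_ofNat, hδc, ← hδ2]
        linear_combination (-(((T.ab a k).1 + T.sg * δ * (T.ab a k).2) *
          ((T.ab b k).1 + (T.ab b k).2 * δ)) / 4 : ℂ) * hmC k
      rw [Finset.sum_congr rfl fun k _ => ek k, ← Finset.sum_div, Finset.sum_add_distrib,
        ← Finset.mul_sum, e1, e2]
      push_cast
      ring
    have htot := key ⟨i, hi⟩ ⟨j, hj⟩
    rw [split, hone', hone'] at htot
    rw [Finset.sum_congr rfl fun χ _ => show T.pairing δ r χ.1 i * conj (T.pairing δ r χ.1 j) =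
      (z χ i : ℂ) * (z χ j : ℂ) by rw [hz χ ⟨i, hi⟩, hz χ ⟨j, hj⟩, map_intCast]] at htot
    have : ((∑ χ : I, z χ i * z χ j : ℤ) : ℂ) = ((T.cfg.gram i j : ℤ) : ℂ) := by
      rw [map_intCast] at htot
      push_cast at htot ⊢
      linear_combination htot
    exact Int.cast_injective this
  · -- orthogonality with the regular character
    intro i hi
    have htot : ∑ χ ∈ irrFinset G, χ 1 * T.pairing δ r χ (⟨i, hi⟩ : Fin T.cfg.dim) = 0 := by
      simp only [pairing, Finset.mul_sum]
      rw [Finset.sum_comm]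
      refine Finset.sum_eq_zero fun k _ => ?_
      have e : ∀ χ : G → ℂ, χ 1 * (χ (r k) * conj (T.val δ i k) / T.cn k) =
          conj (T.val δ i k) / T.cn k * (χ 1 * χ (r k)) := fun χ => by ring
      rw [Finset.sum_congr rfl fun χ _ => e χ, ← Finset.mul_sum,
        CfsgLib.Char.sum_degree_mul_apply, if_neg (hne k), mul_zero]
    rw [split, hone', Finset.sum_congr rfl fun χ _ => show χ.1 1 * T.pairing δ r χ.1 i =
      χ.1 1 * (z χ i : ℂ) by rw [hz χ ⟨i, hi⟩]] at htot
    simp only [one, one_mul] at htot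
    have : ((∑ χ : I, d χ * z χ i + T.cfg.trivAt i : ℤ) : ℂ) = ((0 : ℤ) : ℂ) := by
      push_cast
      simp only [d, Int.cast_natCast, ← hdn]
      linear_combination htot
    exact Int.cast_injective this
  · have := hdpos χ; simp only [d]; omega
  · -- squares
    have hs : ∑ χ ∈ irrFinset G, χ 1 ^ 2 = (Nat.card G : ℂ) := CfsgLib.Char.sum_degree_sq
    rw [split] at hs
    have : ((1 + ∑ χ : I, d χ * d χ : ℤ) : ℂ) = ((Nat.card G : ℤ) : ℂ) := by
      push_cast
      simpa [d, one, hdn, pow_two] using hs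
    have := Int.cast_injective this
    omega
  · -- the class algebra
    intro k
    set a := T.core (orient k).1
    set b := T.core (orient k).2.1
    set c := T.core (orient k).2.2
    have hcp := CfsgLib.Char.card_class_products (r a) (r b) (r c)
    rw [hcnt k, split] at hcp
    have hk : ∀ l, (Nat.card {x : G // IsConj (r l) x} : ℂ) * (T.cn l : ℂ) = (Nat.card G : ℂ) := by
      intro l
      rw [← Nat.cast_mul, ← hc l, CfsgLib.Char.card_conj_class_mul_card_centralizer]
    set S : ℂ := ∑ χ : I, χ.1 (r a) * χ.1 (r b) * conj (χ.1 (r c)) / χ.1 1 with hS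
    have hS' : S = ((∑ χ : I, (T.cfg.mon k (vecRev T.cfg.dim (z χ)) : ℚ) / d χ : ℚ) : ℂ) := by
      rw [hS]
      push_cast
      refine Finset.sum_congr rfl fun χ _ => ?_
      simp only [Cfg.mon, mon_orient, Int.cast_mul, hx, d, Int.cast_natCast, hdn χ, a, b, c]
      congr 2
      rw [← hx, map_intCast]
    have hg : (Nat.card G : ℂ) ≠ 0 := by exact_mod_cast Nat.card_pos.ne'
    have main : (1 : ℂ) + S = (T.cfg.rhs.getD k 0 : ℂ) / (Nat.card G : ℂ) := by
      simp only [one, map_one, mul_one, div_one] at hcp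
      rw [eq_div_iff hg, hrhs k]
      push_cast
      field_simp at hcp
      apply mul_left_cancel₀ hg
      linear_combination (-(T.cn a : ℂ) * (T.cn b : ℂ)) * hcp
        - (1 + S) * (Nat.card {x : G // IsConj (r b) x} : ℂ) * (T.cn b : ℂ) * hk a
        - (1 + S) * (Nat.card G : ℂ) * hk b
    rw [hS'] at main
    have main' : (((∑ χ : I, (T.cfg.mon k (vecRev T.cfg.dim (z χ)) : ℚ) / d χ) + 1 : ℚ) : ℂ) =
        (((T.cfg.rhs.getD k 0 : ℚ) / ((Nat.card G : ℤ) : ℚ) : ℚ) : ℂ) := by
      push_cast at main ⊢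
      linear_combination main
    exact Rat.cast_injective main'
  · -- the congruence
    intro χ
    obtain ⟨n, hn⟩ := hres χ.1 (hirr χ)
    have e : ((dot T.cfg.rf (vecRev T.cfg.dim (z χ)) : ℤ) : ℂ) =
        -∑ k, (T.w k : ℂ) * χ.1 (r k) := by
      rw [dot_vecRev _ _ _ hrl, ← Fin.sum_univ_eq_sum_range
        (fun i => T.cfg.rf.getD (T.cfg.dim - 1 - i) 0 * z χ i)]
      push_cast
      simp only [← hz]
      rw [show (∑ i : Fin T.cfg.dim, (T.cfg.rf.getD (T.cfg.dim - 1 - i) 0 : ℂ) *
          T.pairing δ r χ.1 i) = ∑ i : Fin T.cfg.dim, (T.coef T.cfg.rf i : ℂ) *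
          T.pairing δ r χ.1 i from rfl,
        sum_coef hδc r χ.1 _ (fun k => -(T.w k) * T.cn k)
          (fun k => by rw [(hrf k).1]; ring) (fun k => (hrf k).2), ← Finset.sum_neg_distrib]
      refine Finset.sum_congr rfl fun k _ => ?_
      push_cast
      field_simp [hcn k]
    have : ((d χ - dot T.cfg.rf (vecRev T.cfg.dim (z χ)) : ℤ) : ℂ) = ((81 * n : ℤ) : ℂ) := by
      push_cast
      rw [e]
      simp only [d, Int.cast_natCast, ← hdn]
      linear_combination hn
    have := Int.cast_injective this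
    omega

end Table

end CfsgLib.ThreeLocalNine
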