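import Cfsg.Agent.ThreeLocalNine.Data

/-!
# The searches
-/

set_option autoImplicit false
set_option maxRecDepth 100000

namespace CfsgLib.ThreeLocalNine

theorem valid_one : cfgOne.Valid := by decide +kernel
theorem valid_two : cfgTwo.Valid := by decide +kernel
theorem valid_three : cfgThree.Valid := by decide +kernel

end CfsgLib.ThreeLocalNine
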