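import Cfsg.Agent.ThreeLocalNine.Labels
import Cfsg.Agent.AltNine.Values

/-!
# Tables for counting factorisations of core elements
-/

set_option autoImplicit false
set_option maxRecDepth 100000

namespace CfsgLib.ThreeLocalNine

open CfsgLib.AltNine Equiv

/-- The class of `x` fused into a class of the core. -/
def isT (fus : Bool) (p : Fin 3) (x : K) : Bool :=
  cls x == coreCls p || (fus && p == 2 && cls x == 6)

/-- The representative of a class of the core. -/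
def cR (p : Fin 3) : K := rep (coreCls p)

theorem cube_cls : ∀ a : Fin 24, ∀ v : Fin 27, (⟨a, v⟩ : K) ^ 3 = 1 → (⟨a, v⟩ : K) ≠ 1 →
    cls (⟨a, v⟩ : K) ∈ ([3, 4, 5, 6] : List (Fin 14)) := by decide +kernel

theorem core_tables : (∀ p : Fin 3, rep (coreCls p) ∈ tr ∧ rep (coreCls p) ≠ 1 ∧
    (coreCls p = 4 ∨ coreCls p = 5 ↔ p ≠ 0) ∧ (p ≠ 2 → ¬ 81 ∣ cen (coreCls p))) ∧
    (∀ p : Fin 3, coreCls p = 5 ↔ p = 2) ∧
    (∀ p q : Fin 3, coreCls p = coreCls q → p = q) := by decide +kernel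

/-- The first members of the three pairs of elements of the first class. -/
def fI : Fin 3 → K := ![⟨0, 1⟩, ⟨0, 3⟩, ⟨0, 9⟩]

/-- Elements conjugating the first representative to them. -/
def kI (i : Fin 3) : K := (wit (fI i))⁻¹

theorem fI_cover : ∀ v : Fin 27, cls (⟨0, v⟩ : K) = 3 →
    ∃ i, (⟨0, v⟩ : K) = fI i ∨ (⟨0, v⟩ : K) = (fI i)⁻¹ := by decide +kernel

theorem fI_table : ∀ i, fI i ∈ tr ∧ cls (fI i) = 3 ∧
    ∀ j, i ≠ j → cls (fI i * fI j) = 4 := by decide +kernel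

/-- The element of the model over an element of the core. -/
def mTr (x : K) : CMod :=
  (Multiplicative.ofAdd (x.v.1 : ZMod 3), T2 ^ (x.v.1 / 3 % 3) * T3 ^ (x.v.1 / 9))

theorem mTr_table : ∀ v : Fin 27, emb (mTr ⟨0, v⟩) = toPerm ⟨0, v⟩ := by decide +kernel

/-- The number of moved points. -/
def sc (m : CMod) : ℕ := (if m.1 = 1 then 0 else 3) + (m.2 : Perm (Fin 6)).support.card

/-- The class of a model element among the classes of the core. -/
def mT (p : Fin 3) (m : CMod) : Bool := decide (m ^ 3 = 1) && sc m == 3 * (p.1 + 1)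

theorem sc_table : ∀ p : Fin 3, ∀ v : Fin 27, mT p (mTr ⟨0, v⟩) = true ↔
    cls (⟨0, v⟩ : K) = coreCls p := by decide +kernel

theorem three_conj_table : ∀ σ : Perm (Fin 6), Perm.sign σ = 1 → σ ^ 3 = 1 →
    ∃ τ : Perm (Fin 6), Perm.sign τ = 1 ∧ ∃ l n : Fin 3,
      τ * σ * τ⁻¹ = p2 ^ (l : ℕ) * p3 ^ (n : ℕ) := by decide +kernel

/-- Preserving the two blocks. -/
def blocky (σ : Perm (Fin 6)) : Bool :=
  decide (∀ i j : Fin 6, (i.1 < 3 ↔ j.1 < 3) → ((σ i).1 < 3 ↔ (σ j).1 < 3))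

theorem blocky_table : (∀ l n : Fin 3, ∀ i : Fin 4,
      blocky (p2 ^ (l : ℕ) * p3 ^ (n : ℕ) * pw ^ (i : ℕ)) = true) ∧
    ∀ σ : Perm (Fin 6), Perm.sign σ = 1 → blocky σ = true → ∃ l n : Fin 3, ∃ i : Fin 4,
      σ = p2 ^ (l : ℕ) * p3 ^ (n : ℕ) * pw ^ (i : ℕ) := by decide +kernel

theorem six_table : ∀ a : Fin 24, ∀ v : Fin 27, cls (⟨a, v⟩ : K) = 3 →
    (⟨a, v⟩ : K) * rep 5 = rep 5 * ⟨a, v⟩ →
    ∀ b : Fin 24, ∀ w : Fin 27, cls (⟨b, w⟩ : K) = 6 → (⟨b, w⟩ : K) * rep 5 = rep 5 * ⟨b, w⟩ →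
      cls ((⟨a, v⟩ : K)⁻¹ * ⟨b, w⟩) ∉ ([3, 4, 5, 6] : List (Fin 14)) := by decide +kernel

/-- The factorisations inside the normalizer. -/
def inCount (fus : Bool) (p q r : Fin 3) : ℕ :=
  ((Finset.univ : Finset K).filter fun x =>
    isT fus p x && isT fus q (x⁻¹ * cR r)).card

/-- The factors outside, in one of the three centralizers. -/
def outTest (p q r i : Fin 3) (m : CMod) : Bool :=
  !blocky (m.2 : Perm (Fin 6)) && mT p m && mT q (m⁻¹ * mTr ((kI i)⁻¹ * cR r * kI i))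

/-- Their number. -/
def outCount (p q r i : Fin 3) : ℕ :=
  ((Finset.univ : Finset CMod).filter fun m => outTest p q r i m).card

theorem kI_table : ∀ i, kI i * rep 3 * (kI i)⁻¹ = fI i ∧
    ∀ r : Fin 3, ((kI i)⁻¹ * cR r * kI i) ∈ tr ∧
      ((kI i)⁻¹ * cR r * kI i) * rep 3 = rep 3 * ((kI i)⁻¹ * cR r * kI i) := by decide +kernel

/-- The numbers used by the configurations. -/
theorem count_values : ∀ k : Fin 7,
    inCount true (orient k).1 (orient k).2.1 (orient k).2.2 = ![2, 0, 2, 2, 3, 4, 38] k ∧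
    inCount false (orient k).1 (orient k).2.1 (orient k).2.2 = ![2, 0, 2, 2, 3, 4, 2] k ∧
    ∑ i, outCount (orient k).1 (orient k).2.1 (orient k).2.2 i = ![0, 0, 18, 0, 0, 0, 18] k ∧
    (orient k).1 ≠ (orient k).2.2 ∧ (orient k).2.2 ≠ 0 ∧
    ((orient k).2.2 = 2 → (orient k).1 = 0) := by decide +kernel

theorem cls_cR (p : Fin 3) : cls (cR p) = coreCls p := cls_rep _

theorem step_table : ∀ j l n : Fin 3, ∀ i : Fin 4,
    (rep 3 ^ (j : ℕ) * kT2 ^ (l : ℕ) * kT3 ^ (n : ℕ) * wA ^ (i : ℕ)) * rep 3 =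
      rep 3 * (rep 3 ^ (j : ℕ) * kT2 ^ (l : ℕ) * kT3 ^ (n : ℕ) * wA ^ (i : ℕ)) := by
  decide +kernel

end CfsgLib.ThreeLocalNine
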