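import Cfsg.Agent.ThreeLocalNine.TripleTabs
import Cfsg.Agent.ThreeLocalNine.Fix

/-!
# Counting factorisations of core elements

A factor lies in the normalizer or in the centralizer of one of three elements of the first class.
-/

set_option autoImplicit false
set_option maxRecDepth 100000
set_option linter.style.haveILetI false

namespace CfsgLib.ThreeLocalNine

open CfsgLib.AltNine Equiv

universe u

variable {G : Type u} [Group G] [Finite G] {φ : K →* G}

/-- The factors of a core element. -/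
def Fac (φ : K →* G) (p q r : Fin 3) (X : G) : Prop :=
  IsConj (φ (cR p)) X ∧ IsConj (φ (cR q)) (X⁻¹ * φ (cR r))

theorem card_pairs_eq (p q r : Fin 3) :
    Nat.card {t : G × G // IsConj (φ (cR p)) t.1 ∧ IsConj (φ (cR q)) t.2 ∧
      t.1 * t.2 = φ (cR r)} = Nat.card {X : G // Fac φ p q r X} := by
  refine Nat.card_congr
    { toFun := fun t => ⟨t.1.1, t.2.1, by
        simpa only [inv_mul_eq_iff_eq_mul.2 t.2.2.2.symm] using t.2.2.1⟩
      invFun := fun X => ⟨(X.1, X.1⁻¹ * φ (cR r)), X.2.1, X.2.2, mul_inv_cancel_left _ _⟩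
      left_inv := fun t => Subtype.ext (Prod.ext rfl (inv_mul_eq_iff_eq_mul.2 t.2.2.2.symm))
      right_inv := fun X => rfl }

theorem cube_of_conj {p : Fin 3} {X : G} (hc : IsConj (φ (cR p)) X) : X ^ 3 = 1 :=
  pow_eq_one_of_isConj hc (by
    rw [← map_pow, pow_three_eq_one (x := cR p) (core_tables.1 p).1, map_one])

namespace Setup

variable (h : Setup φ)
include h

theorem cls_of_cube {x : K} (hx : φ x ^ 3 = 1) (h1 : φ x ≠ 1) :
    cls x ∈ ([3, 4, 5, 6] : List (Fin 14)) :=
  cube_cls x.h x.v (h.inj (by rw [map_pow, map_one]; exact hx)) fun e => h1 (by rw [show x = 1 from e, map_one])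

variable {fus : Bool} (hf : fus = true ↔ IsConj (φ (rep 6)) (φ (rep 5)))
include hf

/-- Which elements of the normalizer are fused into a class of the core. -/
theorem isConj_iff_isT (p : Fin 3) (x : K) : IsConj (φ (cR p)) (φ x) ↔ isT fus p x = true := by
  obtain ⟨hc, hc5, hinj⟩ := core_tables
  constructor
  · intro hx
    have h1 : φ x ≠ 1 := fun e => by
      rw [e, isConj_one_left] at hx
      exact (hc p).2.1 (h.inj (hx.trans (map_one φ).symm))
    have hcls := h.cls_of_cube (cube_of_conj hx) h1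
    simp only [List.mem_cons, List.not_mem_nil, or_false] at hcls
    by_cases h6 : cls x = 6
    · have hxs : IsConj (φ x) (φ (rep 6)) := φ.map_isConj (h6 ▸ isConj_rep x)
      have hsp : IsConj (φ (rep 6)) (φ (cR p)) := (hx.trans hxs).symm
      have hp : p = 2 := by
        by_contra hp
        exact h.s_not_core (x := cR p) (hc p).1 (by rw [cR, cls_rep]; exact (hc p).2.2.2 hp) hsp
      subst hp
      have : fus = true := hf.2 hsp
      simp [isT, h6, this]
    · have hxt : x ∈ tr := mem_tr_iff_cls.2 (by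
        rcases hcls with e | e | e | e <;> first | exact absurd e h6 | simp [e])
      have := h.cls_eq_of_isConj (hc p).1 hxt hx
      rw [cls_rep] at this
      simp [isT, ← this]
  · intro hx
    simp only [isT, Bool.or_eq_true, Bool.and_eq_true, beq_iff_eq] at hx
    rcases hx with e | ⟨⟨e, rfl⟩, e6⟩
    · exact φ.map_isConj (isConj_iff_cls.2 (by rw [cR, cls_rep, e]))
    · exact (hf.1 e).symm.trans (φ.map_isConj (isConj_iff_cls.2 (by rw [cls_rep, e6])))

/-- A factor outside the normalizer centralizes one of the three elements. -/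
theorem fac_cases {p q r : Fin 3} (hpr : p ≠ r) (hr : r ≠ 0) (hr2 : r = 2 → p = 0) {X : G}
    (hX : Fac φ p q r X) (hout : X ∉ φ.range) : ∃ i, X * φ (fI i) = φ (fI i) * X := by
  obtain ⟨hc, hc5, hinj⟩ := core_tables
  obtain ⟨hX1, hX2⟩ := hX
  have hrt := (hc r).1
  have hri : IsConj (φ (cR r)) (φ (cR r))⁻¹ := by
    rw [← map_inv]
    exact φ.map_isConj (isConj_iff_cls.2 (cls_inv hrt).symm)
  obtain ⟨f, hf1, hf3, hfr, hfX⟩ := triple_fix (A₀ := (φ (cR r))⁻¹) (b := X)
    (by rw [inv_pow, ← map_pow, pow_three_eq_one (x := cR r) hrt, map_one, inv_one])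
    (cube_of_conj hX1)
    (by rw [show (φ (cR r))⁻¹ * X = (X⁻¹ * φ (cR r))⁻¹ by group, inv_pow, cube_of_conj hX2,
      inv_one])
    (fun e => hpr (by
      have := h.cls_eq_of_isConj hrt (hc p).1 ((hri.trans e).trans hX1.symm)
      simp only [cR, cls_rep] at this
      exact (hinj _ _ this).symm))
  have hfr' : f * φ (cR r) = φ (cR r) * f := by
    have := (show Commute f (φ (cR r))⁻¹ from hfr).inv_right
    rw [inv_inv] at this
    exact this.eq
  have hr45 : cls (cR r) = 4 ∨ cls (cR r) = 5 := by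
    rw [cR, cls_rep]; exact (hc r).2.2.1.2 hr
  obtain ⟨f', rfl⟩ := h.cent_le hr45 (Subgroup.mem_centralizer_singleton_iff.2 hfr')
  have hXC : X ∈ Subgroup.centralizer ({φ f'} : Set G) :=
    Subgroup.mem_centralizer_singleton_iff.2 hfX.symm
  have hcls := h.cls_of_cube hf3 hf1
  simp only [List.mem_cons, List.not_mem_nil, or_false] at hcls
  rcases hcls with e | e | e | e
  · obtain ⟨a, v⟩ := f'
    obtain rfl : a = 0 := (mem_tr_iff_cls (x := ⟨a, v⟩)).2 (by simp [e])
    obtain ⟨i, hi | hi⟩ := fI_cover v e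
    · exact ⟨i, by rw [← hi]; exact hfX.symm⟩
    · refine ⟨i, ?_⟩
      have := (show Commute X (φ (⟨0, v⟩ : K)) from hfX.symm).inv_right
      rwa [← map_inv, hi, inv_inv] at this
  · exact absurd (h.cent_le (Or.inl e) hXC) hout
  · exact absurd (h.cent_le (Or.inr e) hXC) hout
  · exfalso
    have hr2' : r = 2 := by
      by_contra hne
      have hr1 : r = 1 := by omega
      subst hr1
      have : f' ∈ tr := Hyp.commute_core (a := cR 1) (Or.inr (by rw [cR, cls_rep]; rfl))
        (h.inj (by rw [map_pow, map_one]; exact hf3))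
        (h.inj (by rw [map_mul, map_mul]; exact hfr'))
      have := mem_tr_iff_cls.1 this
      simp [e] at this
    obtain rfl := hr2'
    obtain rfl := hr2 rfl
    obtain ⟨k0, hk0⟩ := isConj_iff.1 (isConj_rep f')
    rw [e] at hk0
    cases fus with
    | false =>
      have hns : ¬ IsConj (φ (rep 6)) (φ (rep 5)) := fun hc' => Bool.false_ne_true (hf.2 hc')
      have hle : (Subgroup.centralizer ({f'} : Set K)).map φ ≤
          Subgroup.centralizer ({φ f'} : Set G) := by
        rintro _ ⟨k, hk, rfl⟩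
        rw [Subgroup.mem_centralizer_singleton_iff, ← map_mul, ← map_mul,
          Subgroup.mem_centralizer_singleton_iff.1 hk]
      have h9 : Nat.card (Subgroup.centralizer ({φ f'} : Set G)) = 9 := by
        rw [card_eq_of_isConj (φ.map_isConj (isConj_rep f')), e]
        exact h.card_cent_s hns
      have he := Subgroup.eq_of_le_of_card_ge hle (by
        rw [h9, h.card_map, card_centralizer, e]; rfl)
      rw [← he] at hXC
      obtain ⟨k, -, hk⟩ := hXC
      exact hout ⟨k, hk⟩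
    | true =>
      obtain ⟨g, hg⟩ := isConj_iff.1
        ((hf.1 rfl).symm.trans (φ.map_isConj (isConj_rep f') |> fun c => e ▸ c.symm))
      -- `g` carries the central element to the fixed one
      have back : ∀ Z : G, Z * φ f' = φ f' * Z → g⁻¹ * Z * g ∈ pp φ := fun Z hZ => by
        rw [← h.centralizer_c, Subgroup.mem_centralizer_singleton_iff]
        calc g⁻¹ * Z * g * φ (rep 5) = g⁻¹ * (Z * (g * φ (rep 5) * g⁻¹)) * g := by group
          _ = g⁻¹ * (g * φ (rep 5) * g⁻¹ * Z) * g := by rw [hg, hZ]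
          _ = _ := by group
      obtain ⟨x', hx'c, hx'⟩ := back X hfX.symm
      obtain ⟨r', hr'c, hr'⟩ := back (φ (cR 2)) hfr'.symm
      have cj : ∀ Z : G, IsConj Z (g⁻¹ * Z * g) := fun Z => isConj_iff.2 ⟨g⁻¹, by group⟩
      have tx : isT true 0 x' = true := (h.isConj_iff_isT hf 0 x').1 (hx' ▸ hX1.trans (cj _))
      have trr : isT true 2 r' = true := (h.isConj_iff_isT hf 2 r').1 (hr' ▸ cj _)
      have ty : isT true q (x'⁻¹ * r') = true := (h.isConj_iff_isT hf q _).1 (by
        rw [map_mul, map_inv, hx', hr']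
        refine hX2.trans ?_
        rw [show (g⁻¹ * X * g)⁻¹ * (g⁻¹ * φ (cR 2) * g) = g⁻¹ * (X⁻¹ * φ (cR 2)) * g by group]
        exact cj _)
      have hx3 : cls x' = 3 := by simpa [isT, coreCls] using tx
      rcases (show cls r' = 5 ∨ cls r' = 6 by simpa [isT, coreCls] using trr) with e5 | e6
      · have hr't : r' ∈ tr := mem_tr_iff_cls.2 (by simp [e5])
        obtain ⟨k, -, hcomm⟩ := h.fusion hr't hrt (g := g) (by rw [hr']; simp [cR, mul_assoc])
        obtain ⟨m, hm⟩ := h.cent_le (Or.inr e5) (Subgroup.mem_centralizer_singleton_iff.2 hcomm)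
        have hgm : φ (k * m) = g := by rw [map_mul, hm]; group
        have hf' : k * m * rep 5 * (k * m)⁻¹ = f' := h.inj (by
          rw [map_mul, map_mul, map_inv, hgm, hg])
        rw [← hf', cls_conj, cls_rep] at e
        exact absurd e (by decide)
      · have hbad := six_table x'.h x'.v hx3 (Subgroup.mem_centralizer_singleton_iff.1 hx'c)
          r'.h r'.v e6 (Subgroup.mem_centralizer_singleton_iff.1 hr'c)
        have hq : ∀ q : Fin 3, ∀ c : Fin 14, (c == coreCls q || (true && q == 2 && c == 6)) = true →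
            c ∈ ([3, 4, 5, 6] : List (Fin 14)) := by decide
        exact hbad (hq q _ ty)

omit hf in
theorem mem_range_of_two {i j : Fin 3} (hij : i ≠ j) {X : G}
    (h1 : X * φ (fI i) = φ (fI i) * X) (h2 : X * φ (fI j) = φ (fI j) * X) : X ∈ φ.range := by
  refine h.cent_le (Or.inl ((fI_table i).2.2 j hij)) (Subgroup.mem_centralizer_singleton_iff.2 ?_)
  rw [map_mul]
  exact ((show Commute X (φ (fI i)) from h1).mul_right h2).eq

end Setup

/-- With small first centralizer all factorisations are in the normalizer. -/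
theorem Setup.card_fac_three (h : Setup φ) {fus : Bool}
    (hf : fus = true ↔ IsConj (φ (rep 6)) (φ (rep 5)))
    (ha : Subgroup.centralizer ({φ (rep 3)} : Set G) ≤ φ.range) {p q r : Fin 3}
    (hpr : p ≠ r) (hr : r ≠ 0) (hr2 : r = 2 → p = 0) :
    Nat.card {X : G // Fac φ p q r X} = inCount fus p q r := by
  have hx : ∀ X, Fac φ p q r X → X ∈ φ.range := fun X hX => by
    by_contra hout
    obtain ⟨i, hi⟩ := h.fac_cases hf hpr hr hr2 hX hout
    exact hout (h.cent_range_cls (fI_table i).2.1 ha (Subgroup.mem_centralizer_singleton_iff.2 hi))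
  rw [inCount, ← Fintype.card_subtype, ← Nat.card_eq_fintype_card]
  have hiff : ∀ x, Fac φ p q r (φ x) ↔
      ((isT fus p x && isT fus q (x⁻¹ * cR r)) = true) := fun x => by
    rw [Fac, ← map_inv, ← map_mul, h.isConj_iff_isT hf, h.isConj_iff_isT hf, Bool.and_eq_true]
  refine (Nat.card_eq_of_bijective (fun x => ⟨φ x.1, (hiff x.1).2 x.2⟩) ⟨?_, ?_⟩).symm
  · exact fun a b e => Subtype.ext (h.inj (congrArg Subtype.val e))
  · rintro ⟨X, hX⟩
    obtain ⟨x, rfl⟩ := hx X hX
    exact ⟨⟨x, (hiff x).1 hX⟩, rfl⟩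

namespace Glue

variable {ψ : CMod →* G} (hg : Glue φ ψ)
include hg

theorem psi_mTr {x : K} (hx : x ∈ tr) (hc : x * rep 3 = rep 3 * x) : ψ (mTr x) = φ x := by
  obtain ⟨a, v⟩ := x
  obtain rfl : a = 0 := hx
  exact hg.agree _ _ hc (mTr_table v)

/-- Which elements of the model are fused into a class of the core. -/
theorem isConj_iff_mT (h : Setup φ) (p : Fin 3) (m : CMod) :
    IsConj (φ (cR p)) (ψ m) ↔ mT p m = true := by
  classical
  have key : m ^ 3 = 1 → ∃ v : Fin 27, IsConj (ψ m) (φ (⟨0, v⟩ : K)) ∧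
      sc m = sc (mTr (⟨0, v⟩ : K)) ∧ (mTr (⟨0, v⟩ : K)) ^ 3 = 1 := by
    intro h3
    have hs3 : (m.2 : Perm (Fin 6)) ^ 3 = 1 := congrArg (fun z : CMod => (z.2 : Perm (Fin 6))) h3
    obtain ⟨τ, hτ, l, n, hln⟩ := three_conj_table _ (Perm.mem_alternatingGroup.1 m.2.2) hs3
    obtain ⟨j, hj⟩ : ∃ j : Fin 3, m.1 = Multiplicative.ofAdd (j.1 : ZMod 3) :=
      ⟨⟨(Multiplicative.toAdd m.1).val, ZMod.val_lt _⟩, by
        rw [ZMod.natCast_zmod_val]; rfl⟩
    set v : Fin 27 := ⟨j.1 + 3 * l.1 + 9 * n.1, by omega⟩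
    let c : CMod := ((1 : Multiplicative (ZMod 3)), (⟨τ, Perm.mem_alternatingGroup.2 hτ⟩ : A6))
    have hcm : c * m * c⁻¹ = mTr (⟨0, v⟩ : K) := by
      have h1 : (j.1 + 3 * l.1 + 9 * n.1) / 3 % 3 = l.1 := by omega
      have h2 : (j.1 + 3 * l.1 + 9 * n.1) / 9 = n.1 := by omega
      refine Prod.ext ?_ (Subtype.ext ?_)
      · show (1 : Multiplicative (ZMod 3)) * m.1 * 1⁻¹ =
          Multiplicative.ofAdd ((j.1 + 3 * l.1 + 9 * n.1 : ℕ) : ZMod 3)
        rw [one_mul, inv_one, mul_one, hj]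
        congr 1
        rw [ZMod.natCast_eq_natCast_iff', Nat.add_assoc]
        omega
      · show τ * (m.2 : Perm (Fin 6)) * τ⁻¹ = _
        rw [hln]
        simp only [mTr, v, h1, h2, Subgroup.coe_mul, SubmonoidClass.coe_pow]
        rfl
    have hconj : IsConj m (mTr (⟨0, v⟩ : K)) := isConj_iff.2 ⟨c, hcm⟩
    refine ⟨v, ?_, ?_, ?_⟩
    · rw [← hg.psi_mTr (x := ⟨0, v⟩) rfl (tr_commute rfl (by decide))]
      exact ψ.map_isConj hconj
    · rw [← hcm]
      simp [sc, c, Perm.card_support_conj]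
    · rw [← hcm, conj_pow, h3, mul_one, mul_inv_cancel]
  constructor
  · intro hx
    have h3 : m ^ 3 = 1 := hg.inj (by rw [map_pow, map_one]; exact cube_of_conj hx)
    obtain ⟨v, hv, hsc, h3'⟩ := key h3
    have hcl := h.cls_eq_of_isConj (core_tables.1 p).1 (show (⟨0, v⟩ : K) ∈ tr from rfl) (hx.trans hv)
    simp only [cR, cls_rep] at hcl
    have := (sc_table p v).2 hcl.symm
    simp only [mT, h3', decide_true, Bool.true_and, beq_iff_eq] at this
    simp [mT, h3, hsc, this]
  · intro hm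
    simp only [mT, Bool.and_eq_true, decide_eq_true_eq, beq_iff_eq] at hm
    obtain ⟨v, hv, hsc, h3'⟩ := key hm.1
    have := (sc_table p v).1 (by simp [mT, h3', ← hsc, hm.2])
    exact (φ.map_isConj (isConj_iff_cls.2 (by rw [cR, cls_rep, this]))).trans hv.symm

/-- Which elements of the model lie in the normalizer. -/
theorem mem_range_iff (h : Setup φ) (m : CMod) :
    ψ m ∈ φ.range ↔ blocky (m.2 : Perm (Fin 6)) = true := by
  obtain ⟨b1, b2⟩ := blocky_table
  obtain ⟨p1, p2', p3', p4⟩ := emb_gens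
  have step : ∀ j l n : Fin 3, ∀ i : Fin 4,
      (rep 3 ^ (j : ℕ) * kT2 ^ (l : ℕ) * kT3 ^ (n : ℕ) * wA ^ (i : ℕ)) * rep 3 =
        rep 3 * (rep 3 ^ (j : ℕ) * kT2 ^ (l : ℕ) * kT3 ^ (n : ℕ) * wA ^ (i : ℕ)) →
      ψ (mA ^ (j : ℕ) * (1, T2) ^ (l : ℕ) * (1, T3) ^ (n : ℕ) * (1, W) ^ (i : ℕ)) =
        φ (rep 3 ^ (j : ℕ) * kT2 ^ (l : ℕ) * kT3 ^ (n : ℕ) * wA ^ (i : ℕ)) := fun j l n i hc =>
    hg.agree _ _ hc (by simp only [map_mul, map_pow, p1, p2', p3', p4])
  constructor
  · rintro ⟨k, hk⟩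
    have hkc : k * rep 3 = rep 3 * k := h.inj (by
      rw [map_mul, map_mul, hk]
      exact Subgroup.mem_centralizer_singleton_iff.1 (hg.range ▸ ⟨m, rfl⟩))
    obtain ⟨j, l, n, i, hd⟩ := decompose_table k.h k.v hkc
    have hd' : k = _ := hd
    have := hg.inj ((step j l n i (hd' ▸ hkc)).trans ((congrArg φ hd').symm.trans hk))
    rw [← this]
    simpa [mA, T2, T3, W] using b1 l n i
  · intro hb
    obtain ⟨l, n, i, hσ⟩ := b2 _ (Perm.mem_alternatingGroup.1 m.2.2) hb
    let j : Fin 3 := ⟨(Multiplicative.toAdd m.1).val, ZMod.val_lt _⟩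
    refine ⟨rep 3 ^ (j : ℕ) * kT2 ^ (l : ℕ) * kT3 ^ (n : ℕ) * wA ^ (i : ℕ), ?_⟩
    rw [← step j l n i (step_table j l n i)]
    congr 1
    refine Prod.ext ?_ (Subtype.ext ?_)
    · have : (Multiplicative.ofAdd (1 : ZMod 3)) ^ (Multiplicative.toAdd m.1).val = m.1 :=
        Multiplicative.toAdd.injective (by
          rw [toAdd_pow, toAdd_ofAdd, nsmul_eq_mul, mul_one, ZMod.natCast_zmod_val])
      simpa [mA, j] using this
    · simp [mA, hσ, T2, T3, W]

/-- All factorisations when the first centralizer is large. -/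
theorem card_fac (h : Setup φ) {fus : Bool} (hf : fus = true ↔ IsConj (φ (rep 6)) (φ (rep 5)))
    {p q r : Fin 3} (hpr : p ≠ r) (hr : r ≠ 0) (hr2 : r = 2 → p = 0) :
    Nat.card {X : G // Fac φ p q r X} = inCount fus p q r + ∑ i, outCount p q r i := by
  classical
  have hiff : ∀ x, Fac φ p q r (φ x) ↔
      ((isT fus p x && isT fus q (x⁻¹ * cR r)) = true) := fun x => by
    rw [Fac, ← map_inv, ← map_mul, h.isConj_iff_isT hf, h.isConj_iff_isT hf, Bool.and_eq_true]
  -- transport to the model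
  let E : Fin 3 → CMod → G := fun i m => φ (kI i) * ψ m * (φ (kI i))⁻¹
  have hE : ∀ i m, (Fac φ p q r (E i m) ∧ E i m ∉ φ.range) ↔ outTest p q r i m = true := by
    intro i m
    have cj : ∀ Z : G, IsConj Z (φ (kI i) * Z * (φ (kI i))⁻¹) := fun Z => isConj_iff.2 ⟨_, rfl⟩
    obtain ⟨-, hki⟩ := kI_table i
    have e2 : (E i m)⁻¹ * φ (cR r) =
        φ (kI i) * ψ (m⁻¹ * mTr ((kI i)⁻¹ * cR r * kI i)) * (φ (kI i))⁻¹ := by
      rw [map_mul, map_inv, hg.psi_mTr (hki r).1 (hki r).2, map_mul, map_mul, map_inv]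
      simp only [E]
      group
    have e1 : ∀ Z W : G, IsConj Z (φ (kI i) * W * (φ (kI i))⁻¹) ↔ IsConj Z W := fun Z W =>
      ⟨fun c => c.trans (cj W).symm, fun c => c.trans (cj W)⟩
    have e3 : E i m ∈ φ.range ↔ ψ m ∈ φ.range := by
      have hk : φ (kI i) ∈ φ.range := ⟨_, rfl⟩
      constructor
      · intro hm
        have := mul_mem (mul_mem (inv_mem hk) hm) hk
        simpa [E, mul_assoc] using this
      · exact fun hm => mul_mem (mul_mem hk hm) (inv_mem hk)
    rw [Fac, e2, e1, e1, hg.isConj_iff_mT h, hg.isConj_iff_mT h, e3, hg.mem_range_iff h]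
    simp only [outTest, Bool.and_eq_true, Bool.not_eq_true', Bool.not_eq_true]
    exact ⟨fun ⟨⟨a, b⟩, c⟩ => ⟨⟨c, a⟩, b⟩, fun ⟨⟨c, a⟩, b⟩ => ⟨⟨a, b⟩, c⟩⟩
  have hEc : ∀ i m, E i m * φ (fI i) = φ (fI i) * E i m := by
    intro i m
    have hm : ψ m * φ (rep 3) = φ (rep 3) * ψ m :=
      Subgroup.mem_centralizer_singleton_iff.1 (hg.range ▸ ⟨m, rfl⟩)
    rw [← (kI_table i).1, map_mul, map_mul, map_inv]
    calc E i m * (φ (kI i) * φ (rep 3) * (φ (kI i))⁻¹)
        = φ (kI i) * (ψ m * φ (rep 3)) * (φ (kI i))⁻¹ := by simp only [E]; group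
      _ = φ (kI i) * (φ (rep 3) * ψ m) * (φ (kI i))⁻¹ := by rw [hm]
      _ = _ := by simp only [E]; group
  rw [inCount, ← Fintype.card_subtype, Finset.sum_congr rfl fun i _ =>
    (show outCount p q r i = Fintype.card {m : CMod // outTest p q r i m = true} by
      rw [Fintype.card_subtype]; rfl), ← Fintype.card_sigma, ← Fintype.card_sum,
    ← Nat.card_eq_fintype_card]
  refine (Nat.card_eq_of_bijective (Sum.elim (fun x => ⟨φ x.1, (hiff x.1).2 x.2⟩)
    fun s => ⟨E s.1 s.2.1, ((hE _ _).2 s.2.2).1⟩) ⟨?_, ?_⟩).symm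
  · rintro (x | ⟨i, m⟩) (y | ⟨j, n⟩) e <;> simp only [Sum.elim_inl, Sum.elim_inr, Subtype.mk.injEq] at e
    · exact congrArg Sum.inl (Subtype.ext (h.inj e))
    · exact absurd ⟨x.1, e⟩ ((hE _ _).2 n.2).2
    · exact absurd ⟨y.1, e.symm⟩ ((hE _ _).2 m.2).2
    · by_cases hij : i = j
      · subst hij
        have : m.1 = n.1 := hg.inj (mul_left_cancel (mul_right_cancel e))
        exact congrArg Sum.inr (congrArg (Sigma.mk i) (Subtype.ext this))
      · exact absurd (h.mem_range_of_two hij (hEc i m.1) (e ▸ hEc j n.1)) ((hE _ _).2 m.2).2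
  · rintro ⟨X, hX⟩
    by_cases hin : X ∈ φ.range
    · obtain ⟨x, rfl⟩ := hin
      exact ⟨Sum.inl ⟨x, (hiff x).1 hX⟩, rfl⟩
    · obtain ⟨i, hi⟩ := h.fac_cases hf hpr hr hr2 hX hin
      have hmem : (φ (kI i))⁻¹ * X * φ (kI i) ∈ ψ.range := by
        rw [hg.range, Subgroup.mem_centralizer_singleton_iff]
        rw [← (kI_table i).1, map_mul, map_mul, map_inv] at hi
        calc (φ (kI i))⁻¹ * X * φ (kI i) * φ (rep 3)
            = (φ (kI i))⁻¹ * (X * (φ (kI i) * φ (rep 3) * (φ (kI i))⁻¹)) * φ (kI i) := by group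
          _ = (φ (kI i))⁻¹ * (φ (kI i) * φ (rep 3) * (φ (kI i))⁻¹ * X) * φ (kI i) := by rw [hi]
          _ = _ := by group
      obtain ⟨m, hm⟩ := hmem
      have hEX : E i m = X := by simp only [E, hm]; group
      exact ⟨Sum.inr ⟨i, m, (hE i m).1 ⟨by rw [hEX]; exact hX, by rw [hEX]; exact hin⟩⟩,
        Subtype.ext hEX⟩

end Glue

end CfsgLib.ThreeLocalNine
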