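import Cfsg.Agent.ThreeLocalNine.CaseTabs
import Cfsg.Agent.ThreeLocalNine.TripleTabs

/-!
# Tables for the values of the character of degree eight
-/

set_option autoImplicit false
set_option maxRecDepth 100000
set_option linter.style.longLine false

namespace CfsgLib.ThreeLocalNine

open CfsgLib.AltNine Equiv

/-- The number of fixed points. -/
def fx (p : Perm (Fin 9)) : ℕ := ((Finset.univ : Finset (Fin 9)).filter fun i => p i = i).card

/-- The values at the marked elements. -/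
def valOne : Fin 10 → ℤ := ![-1, -1, 0, 0, 0, -1, -1, 2, 1, 5]

/-- The coefficients expressing values by multiplicities, `(a + b √-15) / 2`. -/
def invTab : List (List (ℤ × ℤ)) :=
  [[(2, 0), (2, 0), (-2, 0), (0, 0), (2, 0), (0, 0), (0, 0), (0, 0), (0, 0), (0, 0)],
    [(-4, 0), (2, 0), (-2, 0), (0, 0), (2, 0), (0, 0), (0, 0), (0, 0), (0, 0), (0, 0)],
    [(0, 0), (0, 0), (0, 0), (0, 0), (0, 0), (0, 0), (2, 0), (0, 0), (2, 0), (0, 0)],
    [(0, 0), (-1, -1), (2, 0), (2, 0), (0, 0), (0, 0), (0, 0), (-2, 0), (0, 0), (0, 0)],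
    [(0, 0), (-1, 1), (2, 0), (2, 0), (0, 0), (0, 0), (0, 0), (-2, 0), (0, 0), (0, 0)],
    [(2, 0), (-2, 0), (4, 0), (-2, 0), (2, 0), (2, 0), (0, 0), (0, 0), (0, 0), (2, 0)],
    [(-10, 0), (-4, 0), (-2, 0), (0, 0), (2, 0), (12, 0), (-6, 0), (-6, 0), (6, 0), (-6, 0)],
    [(8, 0), (-4, 0), (4, 0), (0, 0), (-4, 0), (0, 0), (6, 0), (0, 0), (-6, 0), (0, 0)],
    [(-2, 0), (-2, 0), (0, 0), (-2, 0), (-2, 0), (2, 0), (0, 0), (-4, 0), (0, 0), (2, 0)],
    [(-10, 0), (14, 0), (-8, 0), (-18, 0), (-10, 0), (-30, 0), (0, 0), (-12, 0), (0, 0), (-30, 0)]]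

/-- An entry. -/
def invAt (k : Fin 10) (i : Fin 10) : ℤ × ℤ := (invTab.getD k []).getD i (0, 0)

/-- A value in the table of case I. -/
def phAt (i : Fin 10) (l : Fin 10) : ℤ × ℤ := (phiOne.getD i []).getD l (0, 0)

theorem invOne_table : ∀ k l : Fin 10,
    ∑ i, ((invAt k i).1 * (phAt i l).1 + 15 * (invAt k i).2 * (phAt i l).2) =
      (if k = l then 4 * (cnOne l : ℤ) else 0) ∧
    ∑ i, ((invAt k i).2 * (phAt i l).1 - (invAt k i).1 * (phAt i l).2) = 0 := by decide +kernel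

theorem val_table : ∀ k : Fin 10, (invAt k 4).1 = -2 * valOne k ∧ (invAt k 4).2 = 0 := by
  decide +kernel

theorem lab_value : ∀ c : Fin 14, ∀ k, labOne c = some k →
    valOne k = (fx (toPerm (rep c)) : ℤ) - 1 := by decide +kernel

theorem class_meets : ∀ c : Fin 14, labOne c = none → c ≠ 0 → c ≠ 2 →
    ∃ k : K, cls k = c ∧ k * rep 3 = rep 3 * k := by decide +kernel

theorem class_sum : ∑ c ∈ (Finset.univ : Finset (Fin 14)).erase 2,
    (size c : ℤ) * ((if c = 0 then 9 else (fx (toPerm (rep c)) : ℤ)) - 1) = 0 ∧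
    fx (toPerm (rep 2)) = 1 ∧ toPerm (rep 0) = 1 := by decide +kernel

theorem models_value : ∀ m ∈ [(m8, (1 : ℤ)), (m12, -1), (mP, 0), (mQ, 0), (mA, 5)],
    ((fx (emb (m : CMod × ℤ).1) : ℤ) - 1 = m.2) := by decide +kernel

theorem six_cases : ∀ σ : Perm (Fin 6), Perm.sign σ = 1 → σ = 1 ∨ σ ^ 3 = 1 ∨
    ∃ τ : Perm (Fin 6), Perm.sign τ = 1 ∧ ∃ t ∈ [t45, W, f5, f5 * f5],
      τ * σ * τ⁻¹ = ((t : A6) : Perm (Fin 6)) := by decide +kernel

theorem rot3_fix : ∀ a : Multiplicative (ZMod 3),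
    ((Finset.univ : Finset (Fin 3)).filter fun i => rot3 a i = i).card = if a = 1 then 3 else 0 := by
  decide +kernel

theorem sum_K : ∑ x : K, (fx (toPerm x) : ℤ) * ((fx (toPerm x) : ℤ) - 1) = 648 * 2 ∧
    ∑ x : K, ((fx (toPerm x) : ℤ) - 1) = 0 := by decide +kernel

theorem sum_D : ∑ x ∈ (Finset.univ : Finset K).filter (fun x => x * rep 3 = rep 3 * x),
    (fx (toPerm x) : ℤ) * ((fx (toPerm x) : ℤ) - 1) = 108 * 6 ∧
    ((Finset.univ : Finset K).filter fun x => x * rep 3 = rep 3 * x).card = 108 := by decide +kernel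

theorem sum_C : ∑ m : CMod, (fx (emb m) : ℤ) * ((fx (emb m) : ℤ) - 1) = 1080 * 5 := by
  decide +kernel

end CfsgLib.ThreeLocalNine
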