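import Cfsg.Agent.ThreeLocalNine.Cases
import Cfsg.Agent.ThreeLocalNine.ValueTabs

/-!
# The character of degree eight takes the values of the natural one

On the normalizer and on the centralizer of the first class it is the number of fixed points of
the corresponding permutation, minus one.
-/

set_option autoImplicit false
set_option maxRecDepth 100000
set_option linter.style.haveILetI false
set_option linter.unusedSectionVars false

namespace CfsgLib.ThreeLocalNine

open scoped ComplexConjugate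
open CfsgLib.AltNine Equiv

universe u

theorem fx_conj (g p : Perm (Fin 9)) : fx (g * p * g⁻¹) = fx p := by
  unfold fx
  refine (Finset.card_equiv g fun i => ?_).symm
  rw [Finset.mem_filter, Finset.mem_filter]
  simp only [Finset.mem_univ, true_and, Perm.mul_apply]
  rw [show g⁻¹ (g i) = i from g.symm_apply_apply i]
  exact g.injective.eq_iff.symm

theorem fx_emb (m : CMod) : fx (emb m) = (if m.1 = 1 then 3 else 0) +
    ((Finset.univ : Finset (Fin 6)).filter fun i => (m.2 : Perm (Fin 6)) i = i).card := by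
  rw [fx, ← rot3_fix, ← Finset.card_disjSum]
  refine (Finset.card_equiv (finSumFinEquiv : Fin 3 ⊕ Fin 6 ≃ Fin 9) fun i => ?_).symm
  cases i <;> simp [emb, Equiv.permCongrHom]

theorem fx_conj_emb (n m : CMod) : fx (emb (n * m * n⁻¹)) = fx (emb m) := by
  rw [map_mul, map_mul, map_inv, fx_conj]

theorem fx_flip (m : CMod) : fx (emb (flipMod m)) = fx (emb m) := by
  rw [emb_flip, fx_conj]

variable {G : Type u} [Group G] [Fintype G] {φ : K →* G} {ψ : CMod →* G}

/-- The natural values. -/
def NatVal (φ : K →* G) (ψ : CMod →* G) (χ : G → ℂ) : Prop :=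
  (∀ x : K, χ (φ x) = ((fx (toPerm x) : ℤ) - 1 : ℤ)) ∧
    ∀ m : CMod, χ (ψ m) = ((fx (emb m) : ℤ) - 1 : ℤ)

namespace Glue

variable (hg : Glue φ ψ)
include hg

theorem exists_model {x : K} (hx : x * rep 3 = rep 3 * x) :
    ∃ m : CMod, emb m = toPerm x ∧ ψ m = φ x := by
  obtain ⟨j, l, n, i, hd⟩ := decompose_table x.h x.v hx
  obtain ⟨p1, p2', p3', p4⟩ := emb_gens
  refine ⟨mA ^ (j : ℕ) * (1, T2) ^ (l : ℕ) * (1, T3) ^ (n : ℕ) * (1, W) ^ (i : ℕ), ?_, ?_⟩
  · rw [show x = _ from hd]
    simp only [map_mul, map_pow, p1, p2', p3', p4]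
  · refine hg.agree _ _ hx ?_
    rw [show x = _ from hd]
    simp only [map_mul, map_pow, p1, p2', p3', p4]

end Glue

namespace Setup

variable (h : Setup φ) (hg : Glue φ ψ)
include h hg

theorem marked_values {χ : G → ℂ}
    (hp : ∀ i : Fin 10, tblOne.pairing rt (rOne φ ψ) χ i = if i = 4 then -1 else 0) (k : Fin 10) :
    χ (rOne φ ψ k) = (valOne k : ℤ) := by
  have hcn : ∀ l : Fin 10, (cnOne l : ℂ) ≠ 0 := fun l => by
    have : ∀ l, cnOne l ≠ 0 := by decide
    exact_mod_cast this l
  set u : Fin 10 → ℂ := fun i => ((invAt k i).1 + (invAt k i).2 * rt) / 2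
  have key : ∑ i, u i * tblOne.pairing rt (rOne φ ψ) χ i = χ (rOne φ ψ k) := by
    have hsum : ∀ i : Fin 10, tblOne.pairing rt (rOne φ ψ) χ i =
        ∑ l : Fin 10, χ (rOne φ ψ l) * conj ((((phAt i l).1 : ℂ) + (phAt i l).2 * rt) / 2) /
          cnOne l := fun i => rfl
    simp only [hsum, Finset.mul_sum]
    rw [Finset.sum_comm]
    have e : ∀ l, ∑ i, u i * (χ (rOne φ ψ l) *
        conj ((((phAt i l).1 : ℂ) + (phAt i l).2 * rt) / 2) / cnOne l) =
        if k = l then χ (rOne φ ψ l) else 0 := by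
      intro l
      obtain ⟨a, b⟩ := invOne_table k l
      have e1 := congrArg (Int.cast (R := ℂ)) a
      have e2 := congrArg (Int.cast (R := ℂ)) b
      push_cast at e1 e2
      have rt2 : rt * rt = -15 := by rw [← pow_two, rt_sq]; norm_num
      have ei : ∀ i, u i * (χ (rOne φ ψ l) *
          conj ((((phAt i l).1 : ℂ) + (phAt i l).2 * rt) / 2) / cnOne l) =
          χ (rOne φ ψ l) / (4 * cnOne l) *
            ((((invAt k i).1 : ℂ) * (phAt i l).1 + 15 * (invAt k i).2 * (phAt i l).2) +
              rt * (((invAt k i).2 : ℂ) * (phAt i l).1 - (invAt k i).1 * (phAt i l).2)) := by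
        intro i
        simp only [u, map_div₀, map_add, map_mul, map_intCast, map_ofNat, conj_rt]
        push_cast
        linear_combination (-(χ (rOne φ ψ l) * (invAt k i).2 * (phAt i l).2) / (4 * cnOne l) : ℂ) *
          rt2
      rw [Finset.sum_congr rfl fun i _ => ei i, ← Finset.mul_sum, Finset.sum_add_distrib,
        ← Finset.mul_sum, e1, e2]
      split_ifs
      · field_simp [hcn l]
        ring
      · ring
    rw [Finset.sum_congr rfl fun l _ => e l, Finset.sum_ite_eq, if_pos (Finset.mem_univ _)]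
  rw [← key, Finset.sum_congr rfl fun i _ => by rw [hp i]]
  rw [Finset.sum_eq_single (4 : Fin 10) (fun i _ hi => by simp [hi]) (by simp), if_pos rfl]
  obtain ⟨a, b⟩ := val_table k
  simp only [u, a, b]
  push_cast
  ring

variable {χ : G → ℂ} (hχ : Cfsg.IsIrrCharacter G χ) (hd : χ 1 = 8)
  (hs : IsConj (φ (rep 6)) (φ (rep 5)))
  (hp : ∀ i : Fin 10, tblOne.pairing rt (rOne φ ψ) χ i = if i = 4 then -1 else 0)
include hχ hd hs hp

theorem value_lab {c : Fin 14} {k : Fin 10} (hk : labOne c = some k) :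
    χ (φ (rep c)) = ((fx (toPerm (rep c)) : ℤ) - 1 : ℤ) := by
  rw [CfsgLib.Char.IsClassFunction.apply_eq_of_isConj
    (CfsgLib.Char.IsIrrCharacter.isClassFunction hχ) (h.lab_one hg hs c k hk),
    h.marked_values hg hp k, lab_value c k hk]

theorem value_tr (v : Fin 27) : χ (φ (⟨0, v⟩ : K)) = ((fx (toPerm (⟨0, v⟩ : K)) : ℤ) - 1 : ℤ) := by
  set x : K := ⟨0, v⟩
  obtain ⟨g, hgc⟩ := isConj_iff.1 (isConj_rep x)
  rw [CfsgLib.Char.IsClassFunction.apply_eq_of_isConj
    (CfsgLib.Char.IsIrrCharacter.isClassFunction hχ) (φ.map_isConj (isConj_rep x))]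
  have hfx : fx (toPerm x) = fx (toPerm (rep (cls x))) := by
    rw [← hgc, map_mul, map_mul, map_inv, fx_conj]
  rw [hfx]
  have hc := mem_tr_iff_cls.1 (show x ∈ tr from rfl)
  by_cases h0 : cls x = 0
  · rw [h0, class_sum.2.2, show (rep 0 : K) = 1 from toPerm_injective (class_sum.2.2.trans
      (map_one toPerm).symm), map_one, hd]
    simp [fx]
  · have hl : ∀ c : Fin 14, c ∈ ([0, 3, 4, 5] : List (Fin 14)) → c ≠ 0 → ∃ k, labOne c = some k := by
      decide
    obtain ⟨k, hk⟩ := hl _ hc h0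
    exact h.value_lab hg hχ hd hs hp hk

/-- Values on the second layer of the centralizer. -/
theorem value_one (σ : A6) : χ (ψ (Multiplicative.ofAdd 1, σ)) =
    ((fx (emb (Multiplicative.ofAdd 1, σ)) : ℤ) - 1 : ℤ) := by
  have hcl := CfsgLib.Char.IsIrrCharacter.isClassFunction hχ
  set m : CMod := (Multiplicative.ofAdd 1, σ)
  have hmarks : ∀ e : CMod × ℤ, e ∈ [(m8, (1 : ℤ)), (m12, -1), (mP, 0), (mQ, 0), (mA, 5)] →
      χ (ψ e.1) = (e.2 : ℤ) := by
    obtain ⟨e8, e12, -⟩ := hg.psi_models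
    intro e he
    simp only [List.mem_cons, List.not_mem_nil, or_false] at he
    rcases he with rfl | rfl | rfl | rfl | rfl
    · rw [e8]; exact h.marked_values hg hp 8
    · rw [e12]; exact h.marked_values hg hp 5
    · exact h.marked_values hg hp 3
    · exact h.marked_values hg hp 4
    · rw [hg.psi_mA]; exact h.marked_values hg hp 9
  have transport : ∀ t : CMod, ∀ v : ℤ, (t, v) ∈ [(m8, (1 : ℤ)), (m12, -1), (mP, 0), (mQ, 0), (mA, 5)] →
      IsConj m t → χ (ψ m) = ((fx (emb m) : ℤ) - 1 : ℤ) := by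
    intro t v ht hc
    obtain ⟨n, hn⟩ := isConj_iff.1 hc
    rw [CfsgLib.Char.IsClassFunction.apply_eq_of_isConj hcl (ψ.map_isConj hc), hmarks _ ht,
      ← models_value _ ht, ← hn]
    simp only [fx_conj_emb]
  rcases six_cases _ (Perm.mem_alternatingGroup.1 σ.2) with e | e | ⟨τ, hτ, t, ht, e⟩
  · exact transport mA 5 (by simp) (by
      rw [show m = mA from Prod.ext rfl (Subtype.ext e)])
  · -- order three: fused into the core
    obtain ⟨τ, hτ, l, n, hln⟩ := three_conj_table _ (Perm.mem_alternatingGroup.1 σ.2) e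
    set v : Fin 27 := ⟨1 + 3 * l.1 + 9 * n.1, by omega⟩
    have hc : IsConj m (mTr (⟨0, v⟩ : K)) := isConj_cmod (σ := τ) (by
        show Multiplicative.ofAdd (((1 + 3 * l.1 + 9 * n.1 : ℕ)) : ZMod 3) = Multiplicative.ofAdd 1
        congr 1
        rw [← Nat.cast_one (R := ZMod 3), ZMod.natCast_eq_natCast_iff']
        omega) hτ (by
        show τ * (σ : Perm (Fin 6)) * τ⁻¹ = _
        have h1 : (1 + 3 * l.1 + 9 * n.1) / 3 % 3 = l.1 := by omega
        have h2 : (1 + 3 * l.1 + 9 * n.1) / 9 = n.1 := by omega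
        rw [hln]
        simp only [mTr, v, h1, h2, Subgroup.coe_mul, SubmonoidClass.coe_pow]
        rfl)
    obtain ⟨c, hc'⟩ := isConj_iff.1 hc
    rw [CfsgLib.Char.IsClassFunction.apply_eq_of_isConj hcl (ψ.map_isConj hc),
      hg.psi_mTr (x := ⟨0, v⟩) rfl (tr_commute rfl (by decide)), h.value_tr hg hχ hd hs hp v,
      ← mTr_table v, ← hc', fx_conj_emb]
  · simp only [List.mem_cons, List.not_mem_nil, or_false] at ht
    have hc : IsConj m (Multiplicative.ofAdd 1, t) := isConj_cmod rfl hτ e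
    rcases ht with rfl | rfl | rfl | rfl
    · exact transport m8 1 (by simp) hc
    · exact transport m12 (-1) (by simp) hc
    · exact transport mP 0 (by simp) hc
    · exact transport mQ 0 (by simp) hc

theorem value_two (σ : A6) : χ (ψ (Multiplicative.ofAdd 2, σ)) =
    ((fx (emb (Multiplicative.ofAdd 2, σ)) : ℤ) - 1 : ℤ) := by
  set m : CMod := (Multiplicative.ofAdd 2, σ)
  have hc : IsConj (ψ m) (ψ (flipMod m)) := isConj_iff.2 ⟨φ kInv, (hg.flip m).symm⟩
  rw [CfsgLib.Char.IsClassFunction.apply_eq_of_isConj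
    (CfsgLib.Char.IsIrrCharacter.isClassFunction hχ) hc,
    show flipMod m = (Multiplicative.ofAdd 1, (flipMod m).2) from Prod.ext rfl rfl,
    h.value_one hg hχ hd hs hp,
    show ((Multiplicative.ofAdd 1, (flipMod m).2) : CMod) = flipMod m from Prod.ext rfl rfl, fx_flip]

theorem value_zero (σ : A6) : χ (ψ (1, σ)) = ((fx (emb (1, σ)) : ℤ) - 1 : ℤ) := by
  classical
  set f : A6 → ℂ := fun s => (χ (ψ (1, s)) - χ (ψ (Multiplicative.ofAdd 1, s))) / 3
  have h21 : ∀ s : A6, χ (ψ (Multiplicative.ofAdd 2, s)) = χ (ψ (Multiplicative.ofAdd 1, s)) := by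
    intro s
    rw [h.value_two hg hχ hd hs hp, h.value_one hg hχ hd hs hp, fx_emb, fx_emb]
    rw [if_neg (show (Multiplicative.ofAdd (2 : ZMod 3)) ≠ 1 by decide),
      if_neg (show (Multiplicative.ofAdd (1 : ZMod 3)) ≠ 1 by decide)]
  have hcl : Cfsg.IsClassFunction A6 f := by
    intro a b
    have hcl := CfsgLib.Char.IsIrrCharacter.isClassFunction hχ
    have e : ∀ j : Multiplicative (ZMod 3), ∀ x y : A6,
        ψ (j, x * y * x⁻¹) = ψ (1, x) * ψ (j, y) * (ψ (1, x))⁻¹ := fun j x y => by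
      rw [← map_inv, ← map_mul, ← map_mul]; congr 1; simp
    simp only [f, e, hcl _ _]
  let lam : Multiplicative (ZMod 3) →* ℂˣ :=
    (lin15 1 0).comp (MonoidHom.inl _ _)
  have hchar : Cfsg.IsCharacter A6 f := by
    refine CfsgLib.Char.isCharacter_of_classInner_nat hcl fun θ hθ => ?_
    obtain ⟨n, hn⟩ := CfsgLib.Char.IsCharacter.exists_classInner_eq_natCast'
      (CfsgLib.Char.IsCharacter.comp (CfsgLib.Char.IsIrrCharacter.isCharacter hχ) ψ)
      (CfsgLib.Char.IsCharacter.mul
        (CfsgLib.Char.IsCharacter.comp (CfsgLib.Char.isCharacter_ofHom lam)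
          (MonoidHom.fst (Multiplicative (ZMod 3)) A6))
        (CfsgLib.Char.IsCharacter.comp (CfsgLib.Char.IsIrrCharacter.isCharacter hθ)
          (MonoidHom.snd (Multiplicative (ZMod 3)) A6)))
    refine ⟨n, Eq.trans ?_ hn⟩
    have hcard : Nat.card CMod = 3 * Nat.card A6 := by
      rw [Nat.card_prod, Nat.card_eq_fintype_card (α := Multiplicative (ZMod 3)),
        Fintype.card_multiplicative, ZMod.card]
    rw [Cfsg.classInner, Cfsg.classInner, hcard, Fintype.sum_prod_type]
    have hsum : ∀ F : Multiplicative (ZMod 3) → ℂ, ∑ j, F j =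
        F 1 + F (Multiplicative.ofAdd 1) + F (Multiplicative.ofAdd 2) := fun F => by
      rw [show (Finset.univ : Finset (Multiplicative (ZMod 3))) =
        {1, Multiplicative.ofAdd 1, Multiplicative.ofAdd 2} by decide,
        Finset.sum_insert (by decide), Finset.sum_insert (by decide), Finset.sum_singleton]
      ring
    rw [hsum]
    push_cast
    generalize (Nat.card A6 : ℂ) = N
    simp only [Pi.mul_apply, MonoidHom.coe_fst, MonoidHom.coe_snd, map_mul, h21, f,
      ← Finset.sum_add_distrib, Finset.mul_sum]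
    refine Finset.sum_congr rfl fun s _ => ?_
    have v1 : (ZMod.val (1 : ZMod 3)) = 1 := rfl
    have v2 : (ZMod.val (2 : ZMod 3)) = 2 := rfl
    have v0 : (ZMod.val (0 : ZMod 3)) = 0 := rfl
    simp [lam, lin15, v0, v1, v2, conj_om]
    have h4 : (om ^ 2) ^ 2 = om := by linear_combination om * om_pow
    rw [h4]
    linear_combination (-(χ (ψ (Multiplicative.ofAdd 1, s)) * conj (θ s)) * N⁻¹ / 3) * om_sum
  have hf1 : f 1 = 1 := by
    show (χ (ψ (1, 1)) - χ (ψ (Multiplicative.ofAdd 1, 1))) / 3 = 1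
    rw [show ((1 : Multiplicative (ZMod 3)), (1 : A6)) = (1 : CMod) from rfl, map_one, hd,
      h.value_one hg hχ hd hs hp, show fx (emb (Multiplicative.ofAdd 1, 1)) = 6 by decide +kernel]
    norm_num
  obtain ⟨μ, hμ⟩ := CfsgLib.Char.IsCharacter.exists_hom hchar hf1
  have htriv : ∀ s, μ s = 1 := by
    haveI : IsSimpleGroup A6 := alternatingGroup.isSimpleGroup (α := Fin 6) (by simp)
    intro s
    rcases IsSimpleGroup.eq_bot_or_eq_top_of_normal μ.ker inferInstance with hk | hk
    · exfalso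
      have hne : W * T2 ≠ T2 * W := by decide +kernel
      exact hne ((MonoidHom.ker_eq_bot_iff _).1 hk (by rw [map_mul, map_mul, mul_comm]))
    · exact MonoidHom.mem_ker.1 (hk ▸ Subgroup.mem_top s)
  have hσ : f σ = 1 := by rw [hμ]; simp [htriv]
  have e := h.value_one hg hχ hd hs hp σ
  simp only [f] at hσ
  rw [fx_emb, if_pos rfl]
  rw [fx_emb, if_neg (show (Multiplicative.ofAdd (1 : ZMod 3)) ≠ 1 by decide)] at e
  push_cast at e ⊢
  linear_combination 3 * hσ + e

/-- The character has the natural values. -/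
theorem natVal : NatVal φ ψ χ := by
  have hC : ∀ m : CMod, χ (ψ m) = ((fx (emb m) : ℤ) - 1 : ℤ) := by
    rintro ⟨j, σ⟩
    have hj : ∀ j : Multiplicative (ZMod 3),
        j = 1 ∨ j = Multiplicative.ofAdd 1 ∨ j = Multiplicative.ofAdd 2 := by decide
    rcases hj j with rfl | rfl | rfl
    · exact h.value_zero hg hχ hd hs hp σ
    · exact h.value_one hg hχ hd hs hp σ
    · exact h.value_two hg hχ hd hs hp σ
  refine ⟨?_, hC⟩
  have hcl := CfsgLib.Char.IsIrrCharacter.isClassFunction hχ
  have red : ∀ x : K, fx (toPerm x) = fx (toPerm (rep (cls x))) := by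
    intro x
    obtain ⟨g, hgc⟩ := isConj_iff.1 (isConj_rep x)
    rw [← hgc, map_mul, map_mul, map_inv, fx_conj]
  have hr0 : (rep 0 : K) = 1 := toPerm_injective (class_sum.2.2.trans (map_one toPerm).symm)
  have hne2 : ∀ c : Fin 14, c ≠ 2 → χ (φ (rep c)) = ((fx (toPerm (rep c)) : ℤ) - 1 : ℤ) := by
    intro c hc2
    cases hl : labOne c with
    | some k => exact h.value_lab hg hχ hd hs hp hl
    | none =>
      by_cases h0 : c = 0
      · subst h0; rw [hr0, map_one, map_one, hd]; simp [fx]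
      · obtain ⟨x, hx, hxc⟩ := class_meets c hl h0 hc2
        obtain ⟨m, hm, hm'⟩ := hg.exists_model hxc
        have e1 : χ (φ x) = χ (φ (rep c)) := by
          rw [← hx]
          exact CfsgLib.Char.IsClassFunction.apply_eq_of_isConj hcl (φ.map_isConj (isConj_rep x))
        rw [← e1, ← hm', hC m, hm, red x, hx]
  have h2 : χ (φ (rep 2)) = 0 := by
    obtain ⟨n, hn⟩ := CfsgLib.Char.IsGeneralized.exists_classInner_eq_int
      (CfsgLib.Char.IsGeneralized.comp (CfsgLib.Char.IsIrrCharacter.isGeneralized hχ) φ)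
      (CfsgLib.Char.isGeneralized_one (G := K))
    rw [classInner_model] at hn
    simp only [map_one, mul_one] at hn
    rw [Finset.sum_congr rfl fun x _ => CfsgLib.Char.IsClassFunction.apply_eq_of_isConj hcl
      (φ.map_isConj (isConj_rep x)), sum_eq_sum_cls (fun c => χ (φ (rep c))),
      ← Finset.add_sum_erase _ _ (Finset.mem_univ (2 : Fin 14))] at hn
    have hrest : ∑ c ∈ (Finset.univ : Finset (Fin 14)).erase 2, (size c : ℂ) * χ (φ (rep c)) = 0 := by
      have := congrArg (Int.cast (R := ℂ)) class_sum.1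
      push_cast at this
      rw [← this]
      refine Finset.sum_congr rfl fun c hc => ?_
      rw [hne2 c (Finset.ne_of_mem_erase hc)]
      split_ifs with h0
      · subst h0; rw [hr0, map_one, show fx (1 : Perm (Fin 9)) = 9 by decide +kernel]; norm_num
      · push_cast; rfl
    rw [hrest, show size 2 = 54 from rfl, add_zero] at hn
    have hx : χ (φ (rep 2)) = ((12 * n : ℤ) : ℂ) := by
      push_cast at hn ⊢
      linear_combination 12 * hn
    have hb := CfsgLib.Char.IsCharacter.norm_apply_le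
      (CfsgLib.Char.IsIrrCharacter.isCharacter hχ) (φ (rep 2))
    rw [hx, hd, Complex.norm_intCast] at hb
    norm_num at hb
    rw [hx]
    have hn8 : |12 * (n : ℝ)| ≤ 8 := by simpa [abs_mul] using hb
    obtain ⟨ha, hb'⟩ := abs_le.1 hn8
    have : n = 0 := by
      have a1 : (-8 : ℤ) ≤ 12 * n := by exact_mod_cast ha
      have a2 : 12 * n ≤ (8 : ℤ) := by exact_mod_cast hb'
      omega
    simp [this]
  intro x
  rw [CfsgLib.Char.IsClassFunction.apply_eq_of_isConj hcl (φ.map_isConj (isConj_rep x)), red x]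
  by_cases hc : cls x = 2
  · rw [hc, h2, class_sum.2.1]; simp
  · exact hne2 _ hc

end Setup

end CfsgLib.ThreeLocalNine
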